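import Cfsg.Agent.Lib.SuzThree.Quot

/-!
The centralizer of the element of order three.
-/

set_option autoImplicit false
set_option maxRecDepth 100000
set_option linter.style.haveILetI false

namespace CfsgLib.SuzThree

open CfsgLib.SuzType CfsgLib.Extraspecial
open CfsgLib.UFourType (SL23 sI sU sZ sl_z)
open scoped commutatorElement

variable {G : Type*} [Group G] [Finite G] {z y : G} {Q : Subgroup G} {v : G → V6}

theorem GD.exists_swapper {α β : SL23 →* G} (D : GD z Q v y α β) :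
    ∃ m : G, m * y * m⁻¹ = α sU ∧ m * α sU * m⁻¹ = y := by
  have H := D.yd.co
  obtain ⟨huz, huy⟩ := mem_Cz.mp D.au
  set u := α sU with hu
  have hu3 : u * u * u = 1 := by
    rw [hu, ← map_mul, ← map_mul, ← pow_two, ← pow_succ, sl_z.2.2.2.1, map_one]
  obtain ⟨r1, -, -, -, -, -, r7, r8, -, -, -⟩ := base_rels
  obtain ⟨c, hcz, hcv⟩ := H.real SW base_good.2.2.2.1
  have hci : Commute c⁻¹ z := (show Commute c z from hcz).inv_left
  have hA := act_conj H hcz D.yd.yz base_good.2.2.2.1 hcv D.yd.act (rel_eq r7)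
  have hAz : c * y * c⁻¹ * z = z * (c * y * c⁻¹) := (((show Commute c z from hcz).mul_left D.yd.yz).mul_left hci).eq
  obtain ⟨-, p, hp, hpu, -⟩ := conj_unique H huz hAz hu3
    (by rw [show c * y * c⁻¹ * (c * y * c⁻¹) * (c * y * c⁻¹) = c * (y * y * y) * c⁻¹ by group, D.yd.cube]; group)
    D.aa hA
  have hc1z : p⁻¹ * c * z = z * (p⁻¹ * c) := ((show Commute p z from H.commute_z hp).inv_left.mul_left hcz).eq
  have hc1y : p⁻¹ * c * y * (p⁻¹ * c)⁻¹ = u := by
    rw [show p⁻¹ * c * y * (p⁻¹ * c)⁻¹ = p⁻¹ * (c * y * c⁻¹) * p by group, ← hpu]; group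
  have hc1A : Act Q v (p⁻¹ * c) SW := fun a ha => by
    rw [show p⁻¹ * c * a * (p⁻¹ * c)⁻¹ = p⁻¹ * (c * a * c⁻¹) * p⁻¹⁻¹ by group,
      H.v_inner (inv_mem hp) (H.conj_mem hcz ha), hcv a ha]
  set c1 := p⁻¹ * c with hc1
  set x := c1 * u * c1⁻¹ with hx
  have hxA : Act Q v x L0 := act_conj H hc1z huz base_good.2.2.2.1 hc1A D.aa (rel_eq r8)
  have hc1i : Commute c1⁻¹ z := (show Commute c1 z from hc1z).inv_left
  have hxz : x * z = z * x := (((show Commute c1 z from hc1z).mul_left huz).mul_left hc1i).eq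
  have hxu : Commute x u := by
    have := huy.map (MulAut.conj c1)
    rwa [MulAut.conj_apply, MulAut.conj_apply, hc1y, ← hx] at this
  obtain ⟨hq, p2, hp2, hp2y, hp2v⟩ := conj_unique H D.yd.yz hxz D.yd.cube
    (by rw [hx, show c1 * u * c1⁻¹ * (c1 * u * c1⁻¹) * (c1 * u * c1⁻¹) = c1 * (u * u * u) * c1⁻¹ by group, hu3]; group)
    D.yd.act hxA
  have hqu : Commute (x * y⁻¹) u := hxu.mul_left huy.symm.inv_left
  have hfix : app L2 (v (x * y⁻¹)) = v (x * y⁻¹) := by
    have := D.aa _ hq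
    rwa [← hu, hqu.symm.eq, mul_inv_cancel_right, eq_comm] at this
  have hp2u : Commute u p2 := fix_of H hu3 huz D.aa hp2 (by
    have e := congrArg (fun M => app M (v (x * y⁻¹))) (rel_eq r1)
    simp only [app_comp, hfix] at e
    rw [hp2v, e])
  refine ⟨p2⁻¹ * c1, ?_, ?_⟩
  · rw [show p2⁻¹ * c1 * y * (p2⁻¹ * c1)⁻¹ = p2⁻¹ * (c1 * y * c1⁻¹) * p2 by group, hc1y, mul_assoc, hp2u.eq,
      inv_mul_cancel_left]
  · rw [show p2⁻¹ * c1 * u * (p2⁻¹ * c1)⁻¹ = p2⁻¹ * x * p2 by rw [hx]; group, ← hp2y]; group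

theorem GD.exists_inverter {α β : SL23 →* G} (D : GD z Q v y α β) :
    ∃ c : G, Commute c y ∧ c * α sU * c⁻¹ = (α sU)⁻¹ := by
  have H := D.yd.co
  obtain ⟨huz, huy⟩ := mem_Cz.mp D.au
  set u := α sU with hu
  have hu3 : u * u * u = 1 := by
    rw [hu, ← map_mul, ← map_mul, ← pow_two, ← pow_succ, sl_z.2.2.2.1, map_one]
  obtain ⟨r1, -, -, -, -, -, -, -, r9, r10, -⟩ := base_rels
  have hI := base_good.2.2.2.2.1
  obtain ⟨c, hcz, hcy, hcv⟩ := D.yd.exists_cent hI (rel_eq r9)
  have hxA := act_conj H hcz huz hI hcv D.aa (rel_eq r10)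
  have hxz : c * u * c⁻¹ * z = z * (c * u * c⁻¹) :=
    (((show Commute c z from hcz).mul_left huz).mul_left (show Commute c z from hcz).inv_left).eq
  have hxy : Commute (c * u * c⁻¹) y := (hcy.mul_left huy).mul_left hcy.inv_left
  obtain ⟨hq, p, hp, hpu, hpv⟩ := conj_unique H ((show Commute u z from huz).mul_left huz).eq hxz
    (by rw [show u * u * (u * u) * (u * u) = u * u * u * (u * u * u) by group, hu3, one_mul])
    (by rw [show c * u * c⁻¹ * (c * u * c⁻¹) * (c * u * c⁻¹) = c * (u * u * u) * c⁻¹ by group, hu3]; group)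
    (act_mul H huz D.aa D.aa) hxA
  set q := c * u * c⁻¹ * (u * u)⁻¹ with hqdef
  have hw : (v q).1 < 16 := (D.yd.commute_iff hq).mp (hxy.mul_left (huy.mul_left huy).inv_left).symm
  have hpy : Commute y p := (D.yd.commute_iff hp).mpr (by
    rw [hpv, app_comp]
    have e1 : ∀ w : V6, w.1 < 16 → (app L2 w).1 < 16 := fun w hw => by
      refine (L0_facts.1 _).mp ?_
      have e := congrArg (fun M => app M w) (rel_eq r1)
      simp only [app_comp] at e
      rw [← e, (L0_facts.1 w).mpr hw]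
    exact e1 _ (e1 _ hw))
  refine ⟨p⁻¹ * c, hpy.symm.inv_left.mul_left hcy, ?_⟩
  rw [show p⁻¹ * c * u * (p⁻¹ * c)⁻¹ = p⁻¹ * (c * u * c⁻¹) * p by group, ← hpu,
    show p⁻¹ * (p * (u * u) * p⁻¹) * p = u * u by group]
  exact eq_inv_of_mul_eq_one_left hu3

theorem conclusion (D : YD z Q v y) {B : Subgroup G} (hB : B = Subgroup.zpowers y)
    [(B.subgroupOf (Subgroup.centralizer (B : Set G))).Normal] (K : Type) [Field K] [Fintype K]
    (hK : Fintype.card K = 9) :
    Cfsg.IsQuasisimple ↥(Subgroup.centralizer (B : Set G)) ∧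
      Nonempty (↥(Subgroup.centralizer (B : Set G)) ⧸ B.subgroupOf (Subgroup.centralizer (B : Set G)) ≃* Cfsg.PSU 4 K 3) ∧
      (Subgroup.centralizer (B : Set G)).relIndex (Subgroup.normalizer (B : Set G)) = 2 := by
  classical
  obtain ⟨α, β, GDd⟩ := D.exists_gd
  obtain ⟨αq, βq, zb, Qb, huC, -, -, hαu, -, -, hyp⟩ := GDd.hyp hB
  obtain ⟨hiso, hcard, -⟩ := hyp.main hK
  obtain ⟨hK1, hsimple, -⟩ := CfsgLib.UFourType.exists_gens hK
  obtain ⟨e⟩ := hiso
  haveI := hsimple
  set C := Subgroup.centralizer (B : Set G) with hC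
  set N := B.subgroupOf C with hN
  haveI : IsSimpleGroup (↥C ⧸ N) := (MulEquiv.isSimpleGroup_congr e).mpr hsimple
  have y3 : y ^ 3 = 1 := by rw [pow_succ, pow_two, D.cube]
  have hyB : y ∈ B := hB ▸ Subgroup.mem_zpowers y
  have memC : ∀ g, g ∈ C ↔ Commute g y := by
    intro g
    rw [hC, hB, Subgroup.zpowers_eq_closure, Subgroup.centralizer_closure, Subgroup.mem_centralizer_singleton_iff]
    rfl
  have hyC : y ∈ C := (memC y).mpr (Commute.refl y)
  have hcases : ∀ n ∈ B, n = 1 ∨ n = y ∨ n = y⁻¹ := by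
    intro n hn
    rw [hB] at hn
    obtain ⟨m, rfl⟩ := Subgroup.mem_zpowers_iff.mp hn
    have hm : y ^ m = y ^ (m % 3) := zpow_eq_zpow_emod' m y3
    rcases (by omega : m % 3 = 0 ∨ m % 3 = 1 ∨ m % 3 = 2) with h | h | h <;> rw [hm, h]
    · exact Or.inl (zpow_zero y)
    · exact Or.inr (Or.inl (zpow_one y))
    · refine Or.inr (Or.inr (eq_inv_of_mul_eq_one_left ?_))
      rw [← zpow_add_one]; exact_mod_cast y3
  have hncomm : ¬ ∀ a b : ↥C ⧸ N, a * b = b * a := by
    intro h
    letI : CommGroup (↥C ⧸ N) := { (inferInstance : Group (↥C ⧸ N)) with mul_comm := h }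
    have hp := IsSimpleGroup.prime_card (α := ↥C ⧸ N)
    rw [hcard] at hp
    exact absurd hp (by norm_num)
  have hcenter : Subgroup.center ↥C = N := by
    refine le_antisymm (fun x hx => ?_) fun n hn => ?_
    · have hn : ((Subgroup.center ↥C).map (QuotientGroup.mk' N)).Normal :=
        Subgroup.Normal.map inferInstance _ (QuotientGroup.mk'_surjective N)
      rcases hn.eq_bot_or_eq_top with h | h
      · have : QuotientGroup.mk' N x = 1 := by rw [← Subgroup.mem_bot, ← h]; exact ⟨x, hx, rfl⟩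
        exact (QuotientGroup.eq_one_iff x).mp this
      · exfalso
        refine hncomm fun a b => ?_
        obtain ⟨a', ha', rfl⟩ : a ∈ (Subgroup.center ↥C).map (QuotientGroup.mk' N) := by rw [h]; trivial
        obtain ⟨b', rfl⟩ := QuotientGroup.mk'_surjective N b
        rw [← map_mul, ← map_mul, (Subgroup.mem_center_iff.mp ha' b')]
    · refine Subgroup.mem_center_iff.mpr fun g => Subtype.ext ?_
      exact (Subgroup.mem_centralizer_iff.mp g.2 _ (show (n : G) ∈ B from hn)).symm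
  have hperfect : commutator ↥C = ⊤ := by
    set π : ↥C →* Abelianization ↥C := Abelianization.of with hπ
    have hker : ∀ a, π a = 1 ↔ a ∈ commutator ↥C := fun a => QuotientGroup.eq_one_iff a
    have hsup : ∀ g : ↥C, ∃ n ∈ N, g * n ∈ commutator ↥C := by
      intro g
      have hn : ((commutator ↥C).map (QuotientGroup.mk' N)).Normal :=
        Subgroup.Normal.map inferInstance _ (QuotientGroup.mk'_surjective N)
      rcases hn.eq_bot_or_eq_top with h | h
      · exfalso
        refine hncomm fun a b => ?_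
        obtain ⟨a', rfl⟩ := QuotientGroup.mk'_surjective N a
        obtain ⟨b', rfl⟩ := QuotientGroup.mk'_surjective N b
        have : QuotientGroup.mk' N ⁅a', b'⁆ = 1 := by
          rw [← Subgroup.mem_bot, ← h]
          exact ⟨_, Subgroup.commutator_mem_commutator (Subgroup.mem_top a') (Subgroup.mem_top b'), rfl⟩
        rwa [map_commutatorElement, commutatorElement_eq_one_iff_mul_comm] at this
      · obtain ⟨k, hk, e⟩ : QuotientGroup.mk' N g ∈ (commutator ↥C).map (QuotientGroup.mk' N) := by rw [h]; trivial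
        exact ⟨g⁻¹ * k, QuotientGroup.eq.mp e.symm, by rwa [mul_inv_cancel_left]⟩
    suffices hy : (⟨y, hyC⟩ : ↥C) ∈ commutator ↥C by
      have hNle : N ≤ commutator ↥C := by
        intro n hn
        rcases hcases n hn with h | h | h
        · rw [show n = 1 from Subtype.ext h]; exact one_mem _
        · rw [show n = ⟨y, hyC⟩ from Subtype.ext h]; exact hy
        · rw [show n = ⟨y, hyC⟩⁻¹ from Subtype.ext h]; exact inv_mem hy
      rw [eq_top_iff]
      intro g _
      obtain ⟨n, hn, hg⟩ := hsup g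
      simpa using mul_mem hg (inv_mem (hNle hn))
    by_contra hy
    have hN1 : ∀ n ∈ N, π n = 1 → n = 1 := by
      intro n hn h
      rcases hcases n hn with e | e | e
      · exact Subtype.ext e
      · exact absurd ((hker _).mp h) (by rw [show n = ⟨y, hyC⟩ from Subtype.ext e]; exact hy)
      · exact absurd ((hker _).mp h) (by
          rw [show n = ⟨y, hyC⟩⁻¹ from Subtype.ext e]; exact fun h => hy (inv_mem_iff.mp h))
    set u : ↥C := ⟨α sU, huC⟩ with hu
    have hu3 : u * u * u = 1 := Subtype.ext (by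
      show α sU * α sU * α sU = 1
      rw [← map_mul, ← map_mul, ← pow_two, ← pow_succ, sl_z.2.2.2.1, map_one])
    have hπu : π u = 1 := by
      obtain ⟨c, hcy, hcu⟩ := GDd.exists_inverter
      have e1 : (⟨c, (memC c).mpr hcy⟩ : ↥C) * u * (⟨c, (memC c).mpr hcy⟩ : ↥C)⁻¹ = u⁻¹ := Subtype.ext hcu
      have e2 := congrArg π e1
      rw [map_mul, map_mul, map_inv, map_inv, mul_comm (π _) (π u), mul_inv_cancel_right] at e2
      have e3 := congrArg π hu3
      rw [map_mul, map_mul, map_one] at e3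
      rwa [mul_eq_one_iff_eq_inv.mpr e2, one_mul] at e3
    obtain ⟨a, b, c, d, ha, hb, hc, hd, hprod⟩ := hyp.exists_witness hK
    rw [hαu] at ha hb hc hd hprod
    have lift : ∀ a : ↥C ⧸ N, Commute a (QuotientGroup.mk' N u) →
        ∃ a' : ↥C, QuotientGroup.mk' N a' = a ∧ Commute a' u := by
      intro a ha
      obtain ⟨a', rfl⟩ := QuotientGroup.mk'_surjective N a
      refine ⟨a', rfl, ?_⟩
      have h1 : (a' * u)⁻¹ * (u * a') ∈ N := QuotientGroup.eq.mp (by
        show QuotientGroup.mk' N (a' * u) = QuotientGroup.mk' N (u * a')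
        rw [map_mul, map_mul]; exact ha.eq)
      have h2 := hN1 _ h1 (by rw [map_mul, map_inv, map_mul, map_mul, hπu, one_mul, mul_one, inv_mul_cancel])
      exact inv_mul_eq_one.mp h2
    obtain ⟨a', rfl, ha'⟩ := lift a ha
    obtain ⟨b', rfl, hb'⟩ := lift b hb
    obtain ⟨c', rfl, hc'⟩ := lift c hc
    obtain ⟨d', rfl, hd'⟩ := lift d hd
    rw [← map_inv, ← map_inv, ← map_inv, ← map_inv, ← map_mul, ← map_mul, ← map_mul, ← map_mul, ← map_mul, ← map_mul,
      ← map_mul] at hprod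
    have h1 := QuotientGroup.eq.mp hprod
    set w := a' * b' * a'⁻¹ * b'⁻¹ * (c' * d' * c'⁻¹ * d'⁻¹) with hw
    have h2 := hN1 _ h1 (by
      rw [map_mul, map_inv, hπu, inv_one, one_mul, hw]
      simp only [map_mul, map_inv]
      rw [mul_comm (π a') (π b'), mul_inv_cancel_right, mul_inv_cancel, mul_comm (π c') (π d'),
        mul_inv_cancel_right, mul_inv_cancel, one_mul])
    have huw : (u : G) = (w : G) := congrArg Subtype.val (inv_mul_eq_one.mp h2)
    obtain ⟨m, hmy, hmu⟩ := GDd.exists_swapper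
    have conjC : ∀ g : ↥C, Commute g u → m * (g : G) * m⁻¹ ∈ C := fun g hg => (memC _).mpr (by
      have h0 : Commute (g : G) (α sU) := congrArg Subtype.val hg.eq
      have := h0.map (MulAut.conj m)
      rwa [MulAut.conj_apply, MulAut.conj_apply, hmu] at this)
    refine hy ?_
    have hy' : (⟨y, hyC⟩ : ↥C) = ⁅(⟨_, conjC a' ha'⟩ : ↥C), ⟨_, conjC b' hb'⟩⁆ * ⁅(⟨_, conjC c' hc'⟩ : ↥C), ⟨_, conjC d' hd'⟩⁆ := by
      refine Subtype.ext ?_
      show y = m * (a' : G) * m⁻¹ * (m * (b' : G) * m⁻¹) * (m * (a' : G) * m⁻¹)⁻¹ * (m * (b' : G) * m⁻¹)⁻¹ *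
        (m * (c' : G) * m⁻¹ * (m * (d' : G) * m⁻¹) * (m * (c' : G) * m⁻¹)⁻¹ * (m * (d' : G) * m⁻¹)⁻¹)
      rw [← hmu, show α sU = (w : G) from huw, hw]
      simp only [Subgroup.coe_mul, Subgroup.coe_inv]
      group
    rw [hy']
    exact mul_mem (Subgroup.commutator_mem_commutator (Subgroup.mem_top _) (Subgroup.mem_top _))
      (Subgroup.commutator_mem_commutator (Subgroup.mem_top _) (Subgroup.mem_top _))
  refine ⟨⟨⟨hperfect⟩, (MulEquiv.isSimpleGroup_congr (QuotientGroup.quotientMulEquivOfEq hcenter)).mpr inferInstance⟩,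
    ⟨e⟩, ?_⟩
  -- the index in the normalizer
  have hnorm : ∀ n, n ∈ Subgroup.normalizer (B : Set G) ↔ n * y * n⁻¹ = y ∨ n * y * n⁻¹ = y⁻¹ := by
    intro n
    constructor
    · intro hn
      rcases hcases _ ((Subgroup.mem_normalizer_iff.mp hn y).mp hyB) with h | h | h
      · exact absurd (conj_eq_one_iff.mp h) D.ne_one
      · exact Or.inl h
      · exact Or.inr h
    · intro h
      have hmap : B.map (MulAut.conj n).toMonoidHom = B := by
        rw [hB, MonoidHom.map_zpowers]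
        show Subgroup.zpowers (n * y * n⁻¹) = Subgroup.zpowers y
        rcases h with h | h <;> rw [h]
        exact Subgroup.zpowers_inv
      rw [Subgroup.mem_normalizer_iff]
      intro x
      conv_rhs => rw [← hmap]
      show x ∈ B ↔ MulAut.conj n x ∈ B.map (MulAut.conj n).toMonoidHom
      exact (Subgroup.mem_map_iff_mem (MulAut.conj n).injective).symm
  obtain ⟨c, -, hc⟩ := D.exists_invert
  have hne : y⁻¹ ≠ y := fun e => D.ne_one (eq_one_of_cube_sq D.cube (inv_eq_iff_mul_eq_one.mp e))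
  rw [Subgroup.relIndex, Subgroup.index_eq_two_iff]
  refine ⟨⟨c, (hnorm c).mpr (Or.inr hc)⟩, fun b => ?_⟩
  have key : ∀ g : G, g ∈ C ↔ g * y * g⁻¹ = y := fun g =>
    (memC g).trans ⟨fun h => by rw [h.eq, mul_inv_cancel_right], commute_of_conj_eq⟩
  rw [hC] at key
  simp only [Subgroup.mem_subgroupOf, Subgroup.coe_mul, key]
  rw [show (b : G) * c * y * ((b : G) * c)⁻¹ = ((b : G) * (c * y * c⁻¹) * (b : G)⁻¹) by group, hc,
    show (b : G) * y⁻¹ * (b : G)⁻¹ = ((b : G) * y * (b : G)⁻¹)⁻¹ by group]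
  rcases (hnorm b).mp b.2 with h | h <;> rw [h]
  · exact Or.inr ⟨rfl, hne⟩
  · exact Or.inl ⟨inv_inv y, hne⟩

end CfsgLib.SuzThree
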