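import Cfsg.Agent.Lib.SuzThree.Act

/-!
An element of order three with four-dimensional fixed space, in standard coordinates.
-/

set_option autoImplicit false
set_option maxRecDepth 100000

namespace CfsgLib.SuzThree

open CfsgLib.SuzType CfsgLib.Extraspecial

variable {G : Type*} [Group G] [Finite G] {z : G} {Q : Subgroup G}

/-- standard coordinates for an element of order three -/
structure YD (z : G) (Q : Subgroup G) (v : G → V6) (y : G) : Prop where
  co : Co z Q v
  cube : y * y * y = 1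
  yz : y * z = z * y
  act : Act Q v y L0

theorem rel_eq {A B : Lin} (h : eqL A B = true) : A = B := eqL_iff.mp h

theorem L0_ne : L0 ≠ L1 := fun e => absurd (eqL_iff.mpr e) (by decide)

theorem YD.ne_one {v : G → V6} {y : G} (D : YD z Q v y) : y ≠ 1 := fun e =>
  L0_ne (act_unique D.co D.act (e ▸ act_inner D.co (one_mem Q)))

theorem exists_yd {v : G → V6} (H : Co z Q v) {y : G} (hy : y * y * y = 1) (hne : y ≠ 1) (hyz : y * z = z * y)
    (S : Finset V6) (hS : S.card ≤ 8) (hcomm : ∀ a ∈ Q, v (a * (y * a * y⁻¹)) ∈ S) :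
    ∃ v' : G → V6, YD z Q v' y := by
  obtain ⟨L, hLg, hL⟩ := act_exists H hyz
  have h16 : 8 ≤ nfix L := nfix_ge S hS fun w => by
    obtain ⟨a, ha, rfl⟩ := H.surj w
    rw [← hL a ha, ← H.mul _ ha _ (H.conj_mem hyz ha)]
    exact hcomm a ha
  have h64 : nfix L ≠ 64 := fun h => by
    refine not_mem_of_cube H hy hne (act_mem H hyz ?_)
    have hall : ∀ w, app L w = w := by
      intro w
      have hf := Finset.eq_univ_of_card (Finset.univ.filter fun v => app L v = v) (by rw [Fintype.card_fin]; exact h)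
      have := Finset.mem_univ w
      rw [← hf] at this
      exact (Finset.mem_filter.mp this).2
    intro a ha; rw [hL a ha, hall, app_L1]
  obtain ⟨d, e, hd, he, hde, hrot⟩ := rot_of_fix hLg.1 (act_cube H hyz hy hL)
    (by rcases hLg.2 with h | h | h | h <;> omega)
  obtain ⟨A, B, hA, hB, hAd, hBe⟩ := exists_mover hd he hde
  obtain ⟨cA, hcA, hcAv⟩ := H.real A hA
  obtain ⟨cB, hcB, hcBv⟩ := H.real B hB
  have hc : cA * cB * z = z * (cA * cB) := ((show Commute cA z from hcA).mul_left hcB).eq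
  have hM := act_mul H hcB hcAv hcBv
  set M := comp A B with hMdef
  have hMi : Iso M := fun w => by rw [hMdef, app_comp, hA.1, hB.1]
  refine ⟨fun a => v ((cA * cB)⁻¹ * a * (cA * cB)), co_conj H hc, hy, hyz, fun a ha => ?_⟩
  refine iso_inj hMi ?_
  show app M (v ((cA * cB)⁻¹ * (y * a * y⁻¹) * (cA * cB))) = app M (app L0 (v ((cA * cB)⁻¹ * a * (cA * cB))))
  rw [H.v_conj_inv hc (H.conj_mem hyz ha) hM, L0_rot, ← rot_map hMi,
    H.v_conj_inv hc ha hM, hL a ha, hrot]
  simp only [hMdef, app_comp, hAd, hBe]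

namespace YD

variable {v : G → V6} {y : G} (D : YD z Q v y)
include D

theorem y_not_mem : y ∉ Q := not_mem_of_cube D.co D.cube D.ne_one

theorem commute_iff {a : G} (ha : a ∈ Q) : Commute y a ↔ (v a).1 < 16 := by
  rw [← L0_facts.1]
  refine ⟨fun h => ?_, fix_of D.co D.cube D.yz D.act ha⟩
  have := D.act a ha
  rw [h.eq, mul_inv_cancel_right] at this
  exact this.symm

/-- elements of the centraliser act in the centraliser of the rotation -/
theorem act_cent {c : G} (hc : c * z = z * c) (hcy : Commute c y) {L : Lin} (hLg : Good L) (hL : Act Q v c L) :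
    L ∈ centL := by
  refine cent_complete hLg fun w => ?_
  have h1 := act_mul D.co D.yz hL D.act
  have h2 := act_mul D.co hc D.act hL
  rw [hcy.eq] at h1
  have e := congrArg (fun M => app M w) (act_unique D.co h1 h2)
  simpa only [app_comp] using e

omit D in
theorem cent_mem {L : Lin} (hL : L ∈ centL) : Good L ∧ comp L L0 = comp L0 L := by
  have h := cent_good.1
  simp only [List.all_eq_true, Bool.and_eq_true, decide_eq_true_eq] at h
  exact ⟨(h L hL).1, rel_eq (h L hL).2⟩

/-- every such action is realised in the centraliser -/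
theorem exists_cent {L : Lin} (hL : Good L) (hc : comp L L0 = comp L0 L) :
    ∃ c, c * z = z * c ∧ Commute c y ∧ Act Q v c L := by
  obtain ⟨c, hcz, hcv⟩ := D.co.real L hL
  have hx := act_conj D.co hcz D.yz hL hcv D.act hc
  have hxz : c * y * c⁻¹ * z = z * (c * y * c⁻¹) :=
    (((show Commute c z from hcz).mul_left D.yz).mul_left (show Commute c z from hcz).inv_left).eq
  obtain ⟨-, p, hp, hpy, -⟩ := conj_unique D.co D.yz hxz D.cube
    (by rw [show c * y * c⁻¹ * (c * y * c⁻¹) * (c * y * c⁻¹) = c * (y * y * y) * c⁻¹ by group, D.cube]; group)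
    D.act hx
  have hpz : p⁻¹ * z = z * p⁻¹ := (show Commute p z from D.co.commute_z hp).inv_left.eq
  refine ⟨p⁻¹ * c, ((show Commute p⁻¹ z from hpz).mul_left hcz).eq, ?_, ?_⟩
  · refine commute_of_conj_eq ?_
    rw [show p⁻¹ * c * y * (p⁻¹ * c)⁻¹ = p⁻¹ * (c * y * c⁻¹) * p by group, ← hpy]; group
  · intro a ha
    rw [show p⁻¹ * c * a * (p⁻¹ * c)⁻¹ = p⁻¹ * (c * a * c⁻¹) * p⁻¹⁻¹ by group,
      D.co.v_inner (inv_mem hp) (D.co.conj_mem hcz ha), hcv a ha]

/-- an element inverting -/
theorem exists_invert : ∃ c, c * z = z * c ∧ c * y * c⁻¹ = y⁻¹ := by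
  obtain ⟨c, hcz, hcv⟩ := D.co.real I0 base_good.2.2.2.2.2
  have hx := act_conj D.co hcz D.yz base_good.2.2.2.2.2 hcv D.act (rel_eq base_rels.2.2.2.2.2.2.2.2.2.2)
  have hyy : y * y * z = z * (y * y) := ((show Commute y z from D.yz).mul_left D.yz).eq
  have hxz : c * y * c⁻¹ * z = z * (c * y * c⁻¹) :=
    (((show Commute c z from hcz).mul_left D.yz).mul_left (show Commute c z from hcz).inv_left).eq
  obtain ⟨-, p, hp, hpy, -⟩ := conj_unique D.co hyy hxz
    (by rw [show y * y * (y * y) * (y * y) = y * y * y * (y * y * y) by group, D.cube, one_mul])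
    (by rw [show c * y * c⁻¹ * (c * y * c⁻¹) * (c * y * c⁻¹) = c * (y * y * y) * c⁻¹ by group, D.cube]; group)
    (act_mul D.co D.yz D.act D.act) hx
  have hpz : p⁻¹ * z = z * p⁻¹ := (show Commute p z from D.co.commute_z hp).inv_left.eq
  refine ⟨p⁻¹ * c, ((show Commute p⁻¹ z from hpz).mul_left hcz).eq, ?_⟩
  rw [show p⁻¹ * c * y * (p⁻¹ * c)⁻¹ = p⁻¹ * (c * y * c⁻¹) * p by group, ← hpy,
    show p⁻¹ * (p * (y * y) * p⁻¹) * p = y * y by group]
  exact eq_inv_of_mul_eq_one_left D.cube

end YD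

/-- the centraliser of both -/
abbrev Cz (z y : G) : Subgroup G := Subgroup.centralizer ({z} : Set G) ⊓ Subgroup.centralizer ({y} : Set G)

omit [Finite G] in
theorem mem_Cz {y c : G} : c ∈ Cz z y ↔ c * z = z * c ∧ Commute c y := by
  rw [Subgroup.mem_inf, Subgroup.mem_centralizer_singleton_iff, Subgroup.mem_centralizer_singleton_iff]
  rfl

/-- its part inside the extraspecial group -/
abbrev Qy (Q : Subgroup G) (y : G) : Subgroup G := Q ⊓ Subgroup.centralizer ({y} : Set G)

namespace YD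

variable {v : G → V6} {y : G} (D : YD z Q v y)
include D

theorem mem_Qy {a : G} : a ∈ Qy Q y ↔ a ∈ Q ∧ (v a).1 < 16 := by
  rw [Subgroup.mem_inf, Subgroup.mem_centralizer_singleton_iff]
  exact ⟨fun h => ⟨h.1, (D.commute_iff h.1).mp h.2.symm⟩, fun h => ⟨h.1, ((D.commute_iff h.1).mpr h.2).symm.eq⟩⟩

theorem Qy_le : Qy Q y ≤ Cz z y := fun _ ha =>
  ⟨Subgroup.mem_centralizer_singleton_iff.mpr (D.co.commute_z ha.1), ha.2⟩

theorem z_mem : z ∈ Qy Q y := D.mem_Qy.mpr ⟨D.co.z_mem, by rw [D.co.v_z]; decide⟩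

theorem y_mem : y ∈ Cz z y := mem_Cz.mpr ⟨D.yz, Commute.refl y⟩

theorem card_Qy : Nat.card (Qy Q y) = 32 := by
  classical
  choose s hs hsv using D.co.surj
  have hw : ∀ w : Fin 16, ((⟨w.1, w.2.trans (by norm_num)⟩ : V6)).1 < 16 := fun w => w.2
  let f : Fin 16 × Bool → Qy Q y := fun p =>
    ⟨(if p.2 then z else 1) * s ⟨p.1.1, p.1.2.trans (by norm_num)⟩,
      mul_mem (by split_ifs; exacts [D.z_mem, one_mem _]) (D.mem_Qy.mpr ⟨hs _, by rw [hsv]; exact hw _⟩)⟩
  have hf : ∀ p, v (f p : G) = ⟨p.1.1, p.1.2.trans (by norm_num)⟩ := by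
    rintro ⟨w, b⟩
    cases b
    · simp [f, hsv]
    · simp [f, D.co.mul _ D.co.z_mem _ (hs _), D.co.v_z, zero_xr, hsv]
  have hb : Function.Bijective f := by
    constructor
    · rintro ⟨w, b⟩ ⟨w', b'⟩ e
      have hv := congrArg (fun q : Qy Q y => v (q : G)) e
      simp only [hf, Fin.ext_iff] at hv
      obtain rfl : w = w' := Fin.ext hv
      have := congrArg Subtype.val e
      simp only [f, mul_left_inj] at this
      cases b <;> cases b' <;> first | rfl | (exfalso; simp at this; first | exact D.co.st.ne_one this | exact D.co.st.ne_one this.symm)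
    · rintro ⟨q, hq⟩
      obtain ⟨hqQ, hlt⟩ := D.mem_Qy.mp hq
      rcases D.co.eq_or hqQ (hs (v q)) (hsv _).symm with e | e
      · exact ⟨(⟨(v q).1, hlt⟩, false), Subtype.ext (by simpa [f] using e.symm)⟩
      · exact ⟨(⟨(v q).1, hlt⟩, true), Subtype.ext (by simpa [f] using e.symm)⟩
  rw [← Nat.card_congr (Equiv.ofBijective f hb)]
  simp

theorem card_Cz : Nat.card (Cz z y) = 3456 := by
  classical
  obtain ⟨-, hlen, hnd⟩ := cent_good
  have hnd' : centL.Nodup := hnd.of_map _
  choose c hcz hcy hcv using fun L : {L // L ∈ centL} => D.exists_cent (cent_mem L.2).1 (cent_mem L.2).2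
  let ix : Fin centL.length → {L // L ∈ centL} := fun i => ⟨centL.get i, List.get_mem _ _⟩
  let f : Fin centL.length × Qy Q y → Cz z y := fun p =>
    ⟨p.2.1 * c (ix p.1), mul_mem (D.Qy_le p.2.2) (mem_Cz.mpr ⟨hcz _, hcy _⟩)⟩
  have hact : ∀ p, Act Q v (f p : G) (ix p.1).1 := fun p a ha => by
    show v (p.2.1 * c (ix p.1) * a * (p.2.1 * c (ix p.1))⁻¹) = _
    rw [show p.2.1 * c (ix p.1) * a * (p.2.1 * c (ix p.1))⁻¹ = p.2.1 * (c (ix p.1) * a * (c (ix p.1))⁻¹) * (p.2.1)⁻¹ by group,
      D.co.v_inner p.2.2.1 (D.co.conj_mem (hcz _) ha)]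
    exact hcv _ a ha
  have hb : Function.Bijective f := by
    constructor
    · rintro ⟨i, q⟩ ⟨i', q'⟩ e
      have h' := hact (i', q')
      rw [← congrArg Subtype.val e] at h'
      obtain rfl : i = i' := hnd'.injective_get (act_unique D.co (hact (i, q)) h')
      have := congrArg Subtype.val e
      simp only [f, mul_left_inj] at this
      rw [Subtype.ext this]
    · rintro ⟨x, hx⟩
      obtain ⟨hxz, hxy⟩ := mem_Cz.mp hx
      obtain ⟨L, hLg, hL⟩ := act_exists D.co hxz
      obtain ⟨i, hi⟩ := List.get_of_mem (D.act_cent hxz hxy hLg hL)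
      have hci : (c (ix i))⁻¹ * z = z * (c (ix i))⁻¹ := (show Commute _ z from hcz _).inv_left.eq
      have hq : x * (c (ix i))⁻¹ ∈ Qy Q y := by
        refine ⟨act_mem D.co (((show Commute x z from hxz).mul_left hci).eq) ?_, ?_⟩
        · obtain ⟨M, -, hM⟩ := act_exists D.co hci
          have h1 := act_mul D.co hci (hcv (ix i)) hM
          rw [mul_inv_cancel] at h1
          have h2 := act_mul D.co hci hL hM
          rw [show L = (ix i).1 from hi.symm, act_unique D.co h1 (act_inner D.co (one_mem Q))] at h2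
          exact h2
        · exact Subgroup.mem_centralizer_singleton_iff.mpr (hxy.mul_left (hcy _).inv_left).eq
      exact ⟨(i, ⟨_, hq⟩), Subtype.ext (inv_mul_cancel_right _ _)⟩
  rw [← Nat.card_congr (Equiv.ofBijective f hb), Nat.card_prod, Nat.card_fin, D.card_Qy, hlen]

end YD

end CfsgLib.SuzThree
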