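import Cfsg.Agent.Lib.SuzType.Comm
import Cfsg.Agent.Lib.SuzThree.Basics

/-!
A conjugate of the involution inside the fixed part, by an element centralizing the element of order three.
-/

set_option autoImplicit false
set_option maxRecDepth 100000

namespace CfsgLib.SuzThree

open CfsgLib.SuzType CfsgLib.Extraspecial CfsgLib.Extraspecial.Pair

variable {G : Type*} [Group G] [Finite G] {z : G} {Q : Subgroup G}

/-- the rotation as a linear map -/
def rotL (d e : V6) : Lin := ⟨rot d e 1, rot d e 2, rot d e 4, rot d e 8, rot d e 16, rot d e 32⟩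

theorem unit_sum : ∀ w : V6, w = xr (xr (xr (sel (cb w 0) 1) (sel (cb w 1) 2)) (xr (sel (cb w 2) 4) (sel (cb w 3) 8)))
    (xr (sel (cb w 4) 16) (sel (cb w 5) 32)) := by decide +kernel

theorem rot_sel (d e : V6) (b : Bool) (x : V6) : rot d e (sel b x) = sel b (rot d e x) := by
  cases b
  · simp [sel, rot, bf_zero_left, xr_zero]
  · rfl

theorem app_rot (d e w : V6) : app (rotL d e) w = rot d e w := by
  conv_rhs => rw [unit_sum w]
  simp only [rot_xr, rot_sel, app, rotL]

theorem move_facts : qf 1 = false ∧ (1 : V6) ≠ 0 ∧ (2 : V6).1 < 16 ∧ (1 : V6).1 < 16 ∧ bf 2 1 = true ∧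
    (∀ w ∈ ([4, 8, 12] : List V6), bf w 1 = false ∧ w.1 < 16 ∧ w ≠ 0 ∧ w ≠ 1 ∧ (xr w 1).1 < 16) ∧
    (∀ w ∈ ([4, 8, 12] : List V6), ∀ w' ∈ ([4, 8, 12] : List V6), (w = w' ∨ w = xr w' 1) → w = w') := by
  decide +kernel

theorem YD.exists_move {v : G → V6} {y : G} (D : YD z Q v y) :
    ∃ g : G, Commute g y ∧ g * z * g⁻¹ ∈ Qy Q y ∧ g * z * g⁻¹ ≠ z := by
  classical
  have H := D.co
  obtain ⟨hq1, h10, h2lt, h1lt, hb21, hw, hdist⟩ := move_facts
  obtain ⟨a, ha, hav⟩ := H.surj 1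
  have ha2 : a * a = 1 := (H.sq a ha).mp (by rw [hav, hq1])
  have haz : a ≠ z := fun e => h10 (by rw [← hav, e, H.v_z])
  have ha1 : a ≠ 1 := fun e => h10 (by rw [← hav, e, H.v_one])
  obtain ⟨g, hg, hpair⟩ := H.exists_pair ha ha2 ha1 haz
  subst hg
  obtain ⟨u, hu, huv⟩ := H.surj 2
  have hus : u * (g * z * g⁻¹) * u⁻¹ = z * (g * z * g⁻¹) := by
    rcases H.st.comm_cases hu ha with h | h
    · exfalso
      have := (H.comm u hu _ ha).mpr (mul_inv_eq_iff_eq_mul.mp h)
      rw [huv, hav, hb21] at this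
      exact absurd this (by decide)
    · exact h
  have F : Fr z Q v g u := ⟨H, hpair, hu, hus⟩
  have hya : Commute y (g * z * g⁻¹) := (D.commute_iff ha).mpr (by rw [hav]; exact h1lt)
  have hyu : Commute y u := (D.commute_iff hu).mpr (by rw [huv]; exact h2lt)
  set y' := g⁻¹ * y * g with hy'
  have hy'z : y' * z = z * y' := by
    calc y' * z = g⁻¹ * (y * (g * z * g⁻¹)) * g := by rw [hy']; group
      _ = g⁻¹ * (g * z * g⁻¹ * y) * g := by rw [hya.eq]
      _ = _ := by rw [hy']; group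
  have hy'3 : y' * y' * y' = 1 := by
    rw [hy', show g⁻¹ * y * g * (g⁻¹ * y * g) * (g⁻¹ * y * g) = g⁻¹ * (y * y * y) * g by group, D.cube]; group
  have hy'1 : y' ≠ 1 := fun e => D.ne_one (by
    calc y = g * y' * g⁻¹ := by rw [hy']; group
      _ = 1 := by rw [e]; group)
  obtain ⟨L, hLg, hL⟩ := act_exists H hy'z
  -- fixed elements
  have fixr : ∀ r ∈ P' Q z g, (v (al u r)).1 < 16 → app L (v (g⁻¹ * r * g)) = v (g⁻¹ * r * g) := by
    intro r hr hlt
    obtain ⟨⟨q, hq, hqr⟩, hrz⟩ := F.mem_P'.mp hr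
    rw [MulEquiv.coe_toMonoidHom, MulAut.conj_apply] at hqr
    have hr' : y * r * y⁻¹ ∈ P' Q z g := by
      refine F.mem_P'.mpr ⟨⟨y' * q * y'⁻¹, H.conj_mem hy'z hq, ?_⟩, ?_⟩
      · rw [MulEquiv.coe_toMonoidHom, MulAut.conj_apply, hy', ← hqr]; group
      · exact (((show Commute y z from D.yz).mul_left hrz).mul_left (show Commute y z from D.yz).inv_left).eq
    have hal : al u (y * r * y⁻¹) = al u r := by
      have hc : Commute y (al u r) := (D.commute_iff (F.mem_P.mp (F.al_mem hr)).1).mpr hlt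
      calc al u (y * r * y⁻¹) = (u * y) * r * (y⁻¹ * u⁻¹) * (y * r⁻¹ * y⁻¹) := by rw [al]; group
        _ = y * u * r * (u⁻¹ * y⁻¹) * (y * r⁻¹ * y⁻¹) := by rw [hyu.eq, hyu.inv_inv.eq]
        _ = y * al u r * y⁻¹ := by rw [al]; group
        _ = _ := by rw [hc.eq, mul_inv_cancel_right]
    have hV : y * r * y⁻¹ * r⁻¹ ∈ V z g := by
      refine F.al_inj (mul_mem hr' (inv_mem hr)) ?_
      have e1 := F.v_al_mul hr' (inv_mem hr)
      rw [hal] at e1
      refine e1.trans ?_
      have e2 := Eqm.xr (Eqm.refl (v (g * z * g⁻¹)) (v (al u r))) (F.al_inv hr)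
      rwa [xr_self] at e2
    have hcomm : Commute y r := by
      set e := y * r * y⁻¹ * r⁻¹ with hed
      have her : y * r * y⁻¹ = e * r := by rw [hed, inv_mul_cancel_right]
      have hee : e * e = 1 := F.V_sq hV
      have hye : Commute y e := by
        rcases F.pr.mem_V.mp hV with h | h | h | h <;> rw [h]
        exacts [Commute.one_right _, D.yz, hya, (show Commute y z from D.yz).mul_right hya]
      have h2 : Commute (y * y) r := commute_of_conj_eq (by
        rw [show y * y * r * (y * y)⁻¹ = y * (y * r * y⁻¹) * y⁻¹ by group, her,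
          show y * (e * r) * y⁻¹ = y * e * y⁻¹ * (y * r * y⁻¹) by group, hye.eq, mul_inv_cancel_right, her,
          ← mul_assoc, hee, one_mul])
      have := h2.mul_left h2
      rwa [show y * y * (y * y) = y * y * y * y by group, D.cube, one_mul] at this
    have hq' : y' * q * y'⁻¹ = q := by
      rw [hy', show g⁻¹ * y * g * q * (g⁻¹ * y * g)⁻¹ = g⁻¹ * (y * (g * q * g⁻¹) * y⁻¹) * g by group, hqr,
        hcomm.eq, mul_inv_cancel_right, ← hqr]
      group
    rw [show g⁻¹ * r * g = q by rw [← hqr]; group, ← hL q hq, hq']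
  -- three elements and the four-group
  have hsel : ∀ w ∈ ([4, 8, 12] : List V6), ∃ r ∈ P' Q z g, Eqm 1 w (v (al u r)) := fun w hwl => by
    obtain ⟨r, hr, he⟩ := F.al_surj (w := w) (by rw [hav]; exact (hw w hwl).1)
    exact ⟨r, hr, hav ▸ he⟩
  choose r hr hre using hsel
  have hzV : z ∈ V z g := F.pr.mem_V.mpr (Or.inr (Or.inl rfl))
  have halV : ∀ e ∈ V z g, Eqm 1 (v (al u e)) 0 := fun e he => hav ▸ F.v_mem_V (mul_mem (F.conj_u' he) (inv_mem he))
  have halz : (v (al u z)).1 < 16 := by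
    rcases eqm_zero.mp (halV z hzV) with h | h <;> rw [h] <;> decide
  have hzs : g⁻¹ * z * g ∈ Q := by
    obtain ⟨q, hq, e⟩ := F.pr.mem'
    rw [MulEquiv.coe_toMonoidHom, MulAut.conj_apply] at e
    rw [← e, show g⁻¹ * (g * q * g⁻¹) * g = q by group]; exact hq
  set sz := v (g⁻¹ * z * g) with hsz
  have hsz0 : sz ≠ 0 := fun h => by
    rcases (H.zero _ hzs).mp h with e | e
    · exact H.st.ne_one (by rw [show z = g * (g⁻¹ * z * g) * g⁻¹ by group, e]; group)
    · refine haz ?_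
      conv_lhs => rw [← e]
      group
  have hrQ : ∀ {r}, r ∈ P' Q z g → g⁻¹ * r * g ∈ Q := fun {r} h => by
    obtain ⟨q, hq, e⟩ := (F.mem_P'.mp h).1
    rw [MulEquiv.coe_toMonoidHom, MulAut.conj_apply] at e
    rw [← e, show g⁻¹ * (g * q * g⁻¹) * g = q by group]; exact hq
  have back : ∀ {r r'}, r ∈ P' Q z g → r' ∈ P' Q z g → v (g⁻¹ * r * g) = v (g⁻¹ * r' * g) →
      Eqm 1 (v (al u r)) (v (al u r')) := by
    intro r r' h h' e
    have hV : r * r'⁻¹ ∈ V z g := by
      rcases H.eq_or (hrQ h) (hrQ h') e with h0 | h0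
      · rw [mul_left_cancel (mul_right_cancel h0), mul_inv_cancel]; exact one_mem _
      · refine F.pr.mem_V.mpr (Or.inr (Or.inr (Or.inl ?_)))
        calc r * r'⁻¹ = g * (g⁻¹ * r * g) * g⁻¹ * r'⁻¹ := by group
          _ = _ := by rw [h0]; group
    have h1 := F.v_al_mul (mul_mem h (inv_mem h')) h'
    rw [inv_mul_cancel_right, hav] at h1
    have h2 := h1.trans (Eqm.xr (halV _ hV) (Eqm.refl 1 (v (al u r'))))
    rwa [zero_xr] at h2
  have hne0 : ∀ w (hwl : w ∈ ([4, 8, 12] : List V6)), v (g⁻¹ * r w hwl * g) ≠ 0 ∧ v (g⁻¹ * r w hwl * g) ≠ sz := by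
    intro w hwl
    obtain ⟨-, -, hw0, hw1, -⟩ := hw w hwl
    have key : ∀ e ∈ V z g, v (g⁻¹ * r w hwl * g) ≠ v (g⁻¹ * e * g) := fun e he h => by
      rcases eqm_zero.mp (((hre w hwl).trans (back (hr w hwl) (F.V_le_P' he) h)).trans (halV e he)) with h' | h'
      exacts [hw0 h', hw1 h']
    refine ⟨fun h => key 1 (one_mem _) ?_, key z hzV⟩
    rw [h, show g⁻¹ * 1 * g = 1 by group, H.v_one]
  let pick : {w // w ∈ ([4, 8, 12] : List V6)} → V6 := fun w => v (g⁻¹ * r w.1 w.2 * g)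
  have hpinj : Function.Injective pick := fun w w' e =>
    Subtype.ext (hdist w.1 w.2 w'.1 w'.2
      (((hre _ w.2).trans (back (hr _ w.2) (hr _ w'.2) e)).trans (hre _ w'.2).symm))
  have hfixw : ∀ w, app L (pick w) = pick w := fun w => by
    refine fixr _ (hr _ w.2) ?_
    obtain ⟨-, h16, -, -, h16'⟩ := hw w.1 w.2
    rcases (hre _ w.2).symm with h | h <;> rw [h] <;> assumption
  have h5 : 5 ≤ nfix L := by
    let T : Finset V6 := insert 0 (insert sz (Finset.univ.image pick))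
    have hT : T.card = 5 := by
      rw [Finset.card_insert_of_notMem, Finset.card_insert_of_notMem, Finset.card_image_of_injective _ hpinj]
      · rfl
      · rw [Finset.mem_image]; rintro ⟨w, -, e⟩; exact (hne0 _ w.2).2 e
      · rw [Finset.mem_insert, Finset.mem_image]
        rintro (e | ⟨w, -, e⟩)
        exacts [hsz0 e.symm, (hne0 _ w.2).1 e]
    rw [← hT, nfix]
    refine Finset.card_le_card fun x hx => Finset.mem_filter.mpr ⟨Finset.mem_univ _, ?_⟩
    simp only [T, Finset.mem_insert, Finset.mem_image] at hx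
    rcases hx with rfl | rfl | ⟨w, -, rfl⟩
    · exact app_zero L
    · exact fixr z (F.V_le_P' hzV) halz
    · exact hfixw w
  have h64 : nfix L ≠ 64 := fun h => by
    refine not_mem_of_cube H hy'3 hy'1 (act_mem H hy'z fun b hb => ?_)
    have hall : ∀ w, app L w = w := by
      intro w
      have hf := Finset.eq_univ_of_card (Finset.univ.filter fun v => app L v = v) (by rw [Fintype.card_fin]; exact h)
      have := Finset.mem_univ w
      rw [← hf] at this
      exact (Finset.mem_filter.mp this).2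
    rw [hL b hb, hall, app_L1]
  obtain ⟨d, e, hd, he, hde, hrot⟩ := rot_of_fix hLg.1 (act_cube H hy'z hy'3 hL)
    (by rcases hLg.2 with h | h | h | h <;> omega)
  obtain ⟨A, B, hA, hB, hAd, hBe⟩ := exists_mover hd he hde
  obtain ⟨cA, hcA, hcAv⟩ := H.real A hA
  obtain ⟨cB, hcB, hcBv⟩ := H.real B hB
  have hx1 := act_conj H hcB D.yz hB hcBv D.act (M' := rotL (app B 16) (app B 32)) (lin_ext fun w => by
      rw [app_comp, app_comp, L0_rot, ← rot_map hB.1, app_rot])
  have hxz : cB * y * cB⁻¹ * z = z * (cB * y * cB⁻¹) :=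
    (((show Commute cB z from hcB).mul_left D.yz).mul_left (show Commute cB z from hcB).inv_left).eq
  have hx2 := act_conj H hcA hxz hA hcAv hx1 (M' := L) (lin_ext fun w => by
    rw [app_comp, app_comp, app_rot, ← rot_map hA.1, hAd, hBe, hrot])
  set x := cA * (cB * y * cB⁻¹) * cA⁻¹ with hxdef
  have hxz' : x * z = z * x :=
    (((show Commute cA z from hcA).mul_left hxz).mul_left (show Commute cA z from hcA).inv_left).eq
  obtain ⟨-, p, hp, hpx, -⟩ := conj_unique H hxz' hy'z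
    (by rw [hxdef, show cA * (cB * y * cB⁻¹) * cA⁻¹ * (cA * (cB * y * cB⁻¹) * cA⁻¹) * (cA * (cB * y * cB⁻¹) * cA⁻¹) =
      cA * cB * (y * y * y) * cB⁻¹ * cA⁻¹ by group, D.cube]; group) hy'3 hx2 hL
  refine ⟨g * p * cA * cB, commute_of_conj_eq ?_, ?_⟩
  · calc g * p * cA * cB * y * (g * p * cA * cB)⁻¹ = g * (p * x * p⁻¹) * g⁻¹ := by rw [hxdef]; group
      _ = y := by rw [hpx, hy']; group
  · have hh : g * p * cA * cB * z * (g * p * cA * cB)⁻¹ = g * z * g⁻¹ := by
      have hc : Commute (p * cA * cB) z :=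
        (((show Commute p z from H.commute_z hp)).mul_left hcA).mul_left hcB
      calc g * p * cA * cB * z * (g * p * cA * cB)⁻¹ = g * (p * cA * cB * z) * (p * cA * cB)⁻¹ * g⁻¹ := by group
        _ = g * (z * (p * cA * cB)) * (p * cA * cB)⁻¹ * g⁻¹ := by rw [hc.eq]
        _ = _ := by group
    rw [hh]
    exact ⟨D.mem_Qy.mpr ⟨ha, by rw [hav]; exact h1lt⟩, haz⟩

end CfsgLib.SuzThree
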