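import Cfsg.Agent.Lib.SuzThree.Tables

/-!
Isometries of order three with a four-dimensional fixed space.
-/

set_option autoImplicit false
set_option maxRecDepth 100000

namespace CfsgLib.SuzThree

open CfsgLib.SuzType

/-- composition -/
def comp (A B : Lin) : Lin :=
  ⟨app A B.c0, app A B.c1, app A B.c2, app A B.c3, app A B.c4, app A B.c5⟩

theorem app_sel (A : Lin) (b : Bool) (x : V6) : app A (sel b x) = sel b (app A x) := by
  cases b
  · exact app_zero A
  · rfl

theorem app_comp (A B : Lin) (v : V6) : app (comp A B) v = app A (app B v) := by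
  simp only [app, comp]
  rw [← app, ← app, ← app, ← app, ← app, ← app]
  simp only [← app_sel, ← app_xr]
  rfl

/-- equality of linear maps -/
def eqL (A B : Lin) : Bool :=
  A.c0 == B.c0 && A.c1 == B.c1 && A.c2 == B.c2 && A.c3 == B.c3 && A.c4 == B.c4 && A.c5 == B.c5

theorem eqL_iff {A B : Lin} : eqL A B = true ↔ A = B := by
  obtain ⟨a0, a1, a2, a3, a4, a5⟩ := A
  obtain ⟨b0, b1, b2, b3, b4, b5⟩ := B
  simp [eqL, and_assoc]

theorem app_L1 : ∀ v : V6, app L1 v = v := by decide +kernel

theorem lin_ext {A B : Lin} (h : ∀ v, app A v = app B v) : A = B := by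
  obtain ⟨u1, u2, u3, u4, u5⟩ := app_units A
  obtain ⟨w1, w2, w3, w4, w5⟩ := app_units B
  have h0 : A.c0 = B.c0 := by rw [← app_one, ← app_one, h]
  have h1 : A.c1 = B.c1 := by rw [← u1, ← w1, h]
  have h2 : A.c2 = B.c2 := by rw [← u2, ← w2, h]
  have h3 : A.c3 = B.c3 := by rw [← u3, ← w3, h]
  have h4 : A.c4 = B.c4 := by rw [← u4, ← w4, h]
  have h5 : A.c5 = B.c5 := by rw [← u5, ← w5, h]
  cases A; cases B; simp_all

/-- the formula of a rotation -/
def rot (d e v : V6) : V6 := xr v (xr (sel (bf v e) (xr d e)) (sel (bf v d) d))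

theorem L0_rot : ∀ v : V6, app L0 v = rot 16 32 v := by decide +kernel

theorem rot_map {M : Lin} (h : Iso M) (d e v : V6) :
    rot (app M d) (app M e) (app M v) = app M (rot d e v) := by
  simp only [rot, Iso.bf_eq h, app_xr, app_sel]

theorem bool_xor_sel : ∀ (a b : Bool) (x : V6), sel (a ^^ b) x = xr (sel a x) (sel b x) := by decide +kernel

theorem rot_xr (d e v w : V6) : rot d e (xr v w) = xr (rot d e v) (rot d e w) := by
  haveI : Std.Associative xr := ⟨xr_assoc⟩
  haveI : Std.Commutative xr := ⟨xr_comm⟩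
  simp only [rot, bf_xr_left, bool_xor_sel]
  ac_rfl

theorem movA_good : ∀ M ∈ movA, Good M := by unfold movA; decide +kernel

theorem movB_good : ∀ M ∈ movB, Good M := by unfold movB; decide +kernel

theorem movA_spec : ∀ d : V6, qf d = true → ∃ M ∈ movA, app M 16 = d := by unfold movA; decide +kernel

theorem movB_spec : ∀ e : V6, qf e = true → bf 16 e = true → ∃ M ∈ movB, app M 16 = 16 ∧ app M 32 = e := by
  unfold movB; decide +kernel

theorem iso_inj {L : Lin} (h : Iso L) {a b : V6} (e : app L a = app L b) : a = b := by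
  by_contra hab
  obtain ⟨c, hc⟩ := exists_bf (xr a b) (fun e' => hab (xr_eq_zero.mp e'))
  rw [← Iso.bf_eq h, app_xr, e, xr_self, bf_zero_left] at hc
  exact Bool.false_ne_true hc

theorem iso_surj {L : Lin} (h : Iso L) (b : V6) : ∃ a, app L a = b :=
  (Finite.injective_iff_surjective.mp fun _ _ e => iso_inj h e) b

/-- A mover carrying the base pair to a given one. -/
theorem exists_mover {d e : V6} (hd : qf d = true) (he : qf e = true) (hde : bf d e = true) :
    ∃ A B : Lin, Good A ∧ Good B ∧ app A (app B 16) = d ∧ app A (app B 32) = e := by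
  obtain ⟨A, hA, hAd⟩ := movA_spec d hd
  obtain ⟨e', he'⟩ := iso_surj (movA_good A hA).1 e
  obtain ⟨B, hB, hB1, hB2⟩ := movB_spec e' (by rw [← (movA_good A hA).1 e', he', he])
    (by rw [← Iso.bf_eq (movA_good A hA).1, hAd, he', hde])
  exact ⟨A, B, movA_good A hA, movB_good B hB, by rw [hB1, hAd], by rw [hB2, he']⟩

/-- The formula, from the fixed space. -/
theorem rot_of_fix {L : Lin} (hL : Iso L) (h3 : ∀ v, app L (app L (app L v)) = v) (hn : nfix L = 16) :
    ∃ d e : V6, qf d = true ∧ qf e = true ∧ bf d e = true ∧ ∀ v, app L v = rot d e v := by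
  classical
  haveI : Std.Associative xr := ⟨xr_assoc⟩
  haveI : Std.Commutative xr := ⟨xr_comm⟩
  obtain ⟨v0, hv0⟩ : ∃ v, app L v ≠ v := by
    by_contra hall
    push Not at hall
    rw [nfix, Finset.filter_true_of_mem (fun v _ => hall v)] at hn
    simp at hn
  set d := xr v0 (app L v0) with hd
  set e := app L d with he
  have hd0 : d ≠ 0 := fun h => hv0 (xr_eq_zero.mp h).symm
  have hLe : app L e = xr d e := by
    rw [he, hd, app_xr, app_xr, h3]
    calc xr (app L (app L v0)) v0 = xr (xr (app L (app L v0)) v0) (xr (app L v0) (app L v0)) := by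
          rw [xr_self, xr_zero]
      _ = _ := by ac_rfl
  have hLf : app L (xr d e) = d := by rw [← hLe, he, h3]
  have hde : d ≠ e := fun h => hd0 (by rw [← hLf, h, xr_self, app_zero])
  have he0 : e ≠ 0 := fun h => hd0 (by rw [← h3 d, ← he, h, app_zero, app_zero])
  have qe : qf e = qf d := hL d
  have qfe : qf (xr d e) = qf d := by rw [← hLe, hL, qe]
  have bde : bf d e = qf d := by
    have := qf_xr d e
    rw [qfe, qe] at this
    revert this; cases qf d <;> cases bf d e <;> simp
  let W0 : Finset V6 := {0, d, e, xr d e}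
  let F : Finset V6 := Finset.univ.filter fun v => app L v = v
  have hW : W0.card = 4 := by
    have h1 : xr d e ≠ 0 := fun h => hde (xr_eq_zero.mp h)
    have h2 : xr d e ≠ d := fun h => he0 (by rw [← xr_cancel d e, h, xr_self])
    have h3' : xr d e ≠ e := fun h => hd0 (by rw [← xr_cancel e d, xr_comm e d, h, xr_self])
    rw [Finset.card_insert_of_notMem (by simp [Ne.symm hd0, Ne.symm he0, Ne.symm h1]),
      Finset.card_insert_of_notMem (by simp [hde, Ne.symm h2]),
      Finset.card_insert_of_notMem (by simp [Ne.symm h3']), Finset.card_singleton]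
  have hWF : ∀ w ∈ W0, app L w = w → w = 0 := by
    intro w hw hfix
    simp only [W0, Finset.mem_insert, Finset.mem_singleton] at hw
    rcases hw with rfl | rfl | rfl | rfl
    · rfl
    · exact absurd hfix.symm hde
    · rw [hLe] at hfix
      exact absurd (by rw [← xr_cancel e d, xr_comm e d, hfix, xr_self]) hd0
    · rw [hLf] at hfix
      exact absurd (by rw [← xr_cancel d e, ← hfix, xr_self]) he0
  have hWadd : ∀ a ∈ W0, ∀ b ∈ W0, xr a b ∈ W0 := by
    intro a ha b hb
    simp only [W0, Finset.mem_insert, Finset.mem_singleton] at ha hb ⊢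
    have e1 : xr d (xr d e) = e := xr_cancel d e
    have e2 : xr e (xr d e) = d := by rw [xr_comm d e, xr_cancel]
    rcases ha with rfl | rfl | rfl | rfl <;> rcases hb with rfl | rfl | rfl | rfl <;>
      simp [xr_zero, zero_xr, xr_self, e1, e2, xr_comm e d, xr_comm (xr d e) d, xr_comm (xr d e) e]
  have hsurj : ∀ v, ∃ f w, app L f = f ∧ w ∈ W0 ∧ v = xr f w := by
    have hinj : Set.InjOn (fun p : V6 × V6 => xr p.1 p.2) ↑(F ×ˢ W0) := by
      rintro ⟨f, w⟩ hp ⟨f', w'⟩ hp' heq
      simp only [F, Finset.coe_product, Set.mem_prod, SetLike.mem_coe, Finset.mem_filter, Finset.mem_univ,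
        true_and] at hp hp'
      change xr f w = xr f' w' at heq
      have e1 : xr f f' = xr w w' := by
        calc xr f f' = xr (xr f w) (xr f' w) := by
              rw [show xr (xr f w) (xr f' w) = xr (xr f f') (xr w w) by ac_rfl, xr_self, xr_zero]
          _ = xr (xr f' w') (xr f' w) := by rw [heq]
          _ = _ := by rw [show xr (xr f' w') (xr f' w) = xr (xr w w') (xr f' f') by ac_rfl, xr_self, xr_zero]
      have h0 := hWF _ (hWadd _ hp.2 _ hp'.2) (by rw [← e1, app_xr, hp.1, hp'.1])
      exact Prod.ext (xr_eq_zero.mp (e1.trans h0)) (xr_eq_zero.mp h0)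
    have hc : ((F ×ˢ W0).image fun p => xr p.1 p.2) = Finset.univ := by
      refine Finset.eq_univ_of_card _ ?_
      rw [Finset.card_image_of_injOn hinj, Finset.card_product, hW, show F.card = 16 from hn]
      rfl
    intro v
    have := Finset.mem_univ v
    rw [← hc, Finset.mem_image] at this
    obtain ⟨⟨f, w⟩, hp, rfl⟩ := this
    simp only [F, Finset.mem_product, Finset.mem_filter, Finset.mem_univ, true_and] at hp
    exact ⟨f, w, hp.1, hp.2, rfl⟩
  have perp : ∀ f x, app L f = f → bf f (xr x (app L x)) = false := by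
    intro f x hf
    rw [bf_xr_right]
    nth_rewrite 2 [← hf]
    rw [Iso.bf_eq hL, Bool.xor_self]
  have perpd : ∀ f, app L f = f → bf f d = false := fun f hf => perp f v0 hf
  have perpe : ∀ f, app L f = f → bf f e = false := fun f hf => by
    rw [he]; nth_rewrite 1 [← hf]
    rw [Iso.bf_eq hL]; exact perpd f hf
  have hqd : qf d = true := by
    by_contra hq
    rw [Bool.not_eq_true] at hq
    obtain ⟨c, hc⟩ := exists_bf d hd0
    obtain ⟨f, w, hf, hw, rfl⟩ := hsurj c
    rw [bf_xr_right, bf_comm d f, perpd f hf] at hc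
    simp only [W0, Finset.mem_insert, Finset.mem_singleton] at hw
    rcases hw with rfl | rfl | rfl | rfl <;>
      simp [bf_comm d 0, bf_zero_left, bf_self, bde, hq, bf_xr_right] at hc
  refine ⟨d, e, hqd, qe.trans hqd, bde.trans hqd, fun v => ?_⟩
  obtain ⟨f, w, hf, hw, rfl⟩ := hsurj v
  rw [app_xr, rot_xr, hf]
  congr 1
  · simp [rot, perpd f hf, perpe f hf, sel, xr_zero]
  have bed : bf e d = true := by rw [bf_comm, bde, hqd]
  have bdd : bf d e = true := by rw [bde, hqd]
  simp only [W0, Finset.mem_insert, Finset.mem_singleton] at hw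
  rcases hw with rfl | rfl | rfl | rfl
  · simp [app_zero, rot, bf_zero_left, sel, xr_zero]
  · simp [← he, rot, bf_self, bdd, sel, xr_zero, xr_cancel]
  · simp [hLe, rot, bf_self, bed, sel, zero_xr, xr_zero, xr_comm e d]
  · rw [hLf]
    simp [rot, bf_xr_left, bf_self, bed, bdd, sel, xr_zero]
    ac_nf
    simp [xr_self, xr_zero, zero_xr]

/-- A linear map moving vectors into eight values fixes at least eight. -/
theorem nfix_ge {L : Lin} (S : Finset V6) (hS : S.card ≤ 8) (h : ∀ v, xr v (app L v) ∈ S) : 8 ≤ nfix L := by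
  classical
  haveI : Std.Associative xr := ⟨xr_assoc⟩
  haveI : Std.Commutative xr := ⟨xr_comm⟩
  have hb : (Finset.univ : Finset V6).card ≤ nfix L * (Finset.univ.image fun v => xr v (app L v)).card := by
    refine Finset.card_le_mul_card_image _ _ fun w hw => ?_
    obtain ⟨v0, -, rfl⟩ := Finset.mem_image.mp hw
    refine Finset.card_le_card_of_injOn (fun v => xr v v0) (fun v hv => ?_) fun a _ b _ e => ?_
    · simp only [Finset.coe_filter, Set.mem_setOf_eq, Finset.mem_univ, true_and] at hv ⊢
      rw [app_xr]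
      have hv' := congrArg (fun u => xr (xr u v) (app L v0)) hv
      calc xr (app L v) (app L v0) = xr (xr (xr v (app L v)) v) (app L v0) := by
            rw [show xr (xr v (app L v)) v = xr (app L v) (xr v v) by ac_rfl, xr_self, xr_zero]
        _ = xr (xr (xr v0 (app L v0)) v) (app L v0) := hv'
        _ = _ := by
            rw [show xr (xr (xr v0 (app L v0)) v) (app L v0) = xr (xr v v0) (xr (app L v0) (app L v0)) by ac_rfl,
              xr_self, xr_zero]
    · exact xr_eq_zero.mp (by
        rw [show xr a b = xr (xr a v0) (xr b v0) by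
          rw [show xr (xr a v0) (xr b v0) = xr (xr a b) (xr v0 v0) by ac_rfl, xr_self, xr_zero]]
        exact xr_eq_zero.mpr e)
  have h4 : (Finset.univ.image fun v => xr v (app L v)).card ≤ 8 :=
    (Finset.card_le_card fun x hx => by
      obtain ⟨v, -, rfl⟩ := Finset.mem_image.mp hx
      exact h v).trans hS
  rw [Finset.card_univ, Fintype.card_fin] at hb
  nlinarith

theorem cent_complete_check : ∀ c0 : V6, c0.1 < 16 → qf c0 = false → c0 ≠ 0 →
    ∀ c1 : V6, c1.1 < 16 → qf c1 = false → bf c0 c1 = true →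
    ∀ c2 : V6, c2.1 < 16 → qf c2 = false → bf c0 c2 = false → bf c1 c2 = false → c2 ≠ 0 →
    ∀ c3 : V6, c3.1 < 16 → qf c3 = false → bf c2 c3 = true → bf c0 c3 = false → bf c1 c3 = false →
    ∀ c4 ∈ ([16, 32, 48] : List V6), Good ⟨c0, c1, c2, c3, c4, app L0 c4⟩ →
      centL.any (eqL ⟨c0, c1, c2, c3, c4, app L0 c4⟩) = true := by
  unfold centL
  decide +kernel

theorem L0_facts : (∀ v : V6, app L0 v = v ↔ v.1 < 16) ∧
    (∀ v : V6, xr v (app L0 v) = 0 ∨ xr v (app L0 v) ∈ ([16, 32, 48] : List V6)) := by decide +kernel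

theorem cent_complete {L : Lin} (h : Good L) (hc : ∀ v, app L (app L0 v) = app L0 (app L v)) : L ∈ centL := by
  obtain ⟨u1, u2, u3, u4, u5⟩ := app_units L
  have hfix : ∀ v : V6, v.1 < 16 → (app L v).1 < 16 := fun v hv =>
    (L0_facts.1 _).mp (by rw [← hc, (L0_facts.1 v).mpr hv])
  have c5 : L.c5 = app L0 L.c4 := by
    rw [← u5, ← u4, ← hc]; rfl
  have hz : ∀ v, qf v = false → qf (app L v) = false := fun v e => (h.1 v).trans e
  have hb := Iso.bf_eq h.1
  have h4 : L.c4 ∈ ([16, 32, 48] : List V6) := by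
    rcases L0_facts.2 (app L 32) with e | e
    · exfalso
      rw [← hc, ← app_xr, show xr (32 : V6) (app L0 32) = 16 by decide] at e
      have := h.1 16
      rw [e] at this
      exact absurd this (by decide)
    · rwa [← hc, ← app_xr, show xr (32 : V6) (app L0 32) = 16 by decide, u4] at e
  have key := cent_complete_check L.c0 (by rw [← app_one]; exact hfix 1 (by decide))
    (by rw [← app_one]; exact hz 1 (by decide))
    (by rw [← app_one]; exact fun e => absurd (iso_inj h.1 (e.trans (app_zero L).symm)) (by decide))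
    L.c1 (by rw [← u1]; exact hfix 2 (by decide)) (by rw [← u1]; exact hz 2 (by decide))
    (by rw [← app_one, ← u1, hb]; decide)
    L.c2 (by rw [← u2]; exact hfix 4 (by decide)) (by rw [← u2]; exact hz 4 (by decide))
    (by rw [← app_one, ← u2, hb]; decide) (by rw [← u1, ← u2, hb]; decide)
    (by rw [← u2]; exact fun e => absurd (iso_inj h.1 (e.trans (app_zero L).symm)) (by decide))
    L.c3 (by rw [← u3]; exact hfix 8 (by decide)) (by rw [← u3]; exact hz 8 (by decide))
    (by rw [← u2, ← u3, hb]; decide) (by rw [← app_one, ← u3, hb]; decide) (by rw [← u1, ← u3, hb]; decide)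
    L.c4 h4 (by rw [← c5]; exact h)
  rw [← c5, List.any_eq_true] at key
  obtain ⟨M, hM, e⟩ := key
  exact (show L = M from eqL_iff.mp e) ▸ hM

theorem cent_good : centL.all (fun L => decide (Good L) && eqL (comp L L0) (comp L0 L)) = true ∧
    centL.length = 108 ∧ (centL.map fun L => [L.c0, L.c1, L.c2, L.c3, L.c4, L.c5]).Nodup := by
  unfold centL
  decide +kernel

/-- products of the two rotations -/
def pp : List Lin :=
  [L1, L2, comp L2 L2, L3, comp L2 L3, comp (comp L2 L2) L3, comp L3 L3, comp L2 (comp L3 L3),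
    comp (comp L2 L2) (comp L3 L3)]

theorem cent_normal : centL.all (fun L => pp.all fun P => pp.any fun P' => eqL (comp L P) (comp P' L)) = true := by
  unfold centL
  decide +kernel

theorem cent_fixing : centL.all (fun L =>
    !(L.c0 == 1 && L.c1 == 2 && L.c2 == 4 && L.c3 == 8) || eqL L L1 || eqL L L0 || eqL L (comp L0 L0)) = true := by
  unfold centL
  decide +kernel

theorem pp_meet : pp.all (fun P => !(eqL P L0 || eqL P (comp L0 L0))) = true := by decide +kernel

theorem base_good : Good L0 ∧ Good L2 ∧ Good L3 ∧ Good SW ∧ Good I2 ∧ Good I0 := by decide +kernel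

theorem base_rels : eqL (comp L2 L0) (comp L0 L2) = true ∧ eqL (comp L3 L0) (comp L0 L3) = true ∧
    eqL (comp L3 L2) (comp L2 L3) = true ∧ eqL (comp L0 (comp L0 L0)) L1 = true ∧
    eqL (comp L2 (comp L2 L2)) L1 = true ∧ eqL (comp L3 (comp L3 L3)) L1 = true ∧
    eqL (comp SW L0) (comp L2 SW) = true ∧ eqL (comp SW L2) (comp L0 SW) = true ∧
    eqL (comp I2 L0) (comp L0 I2) = true ∧ eqL (comp I2 L2) (comp (comp L2 L2) I2) = true ∧
    eqL (comp I0 L0) (comp (comp L0 L0) I0) = true := by decide +kernel

end CfsgLib.SuzThree
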