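import Cfsg.Agent.Lib.SuzType.Vec2

/-!
The isometries attached to an element of order three with a four-dimensional fixed space.
-/

set_option autoImplicit false

namespace CfsgLib.SuzThree

open CfsgLib.SuzType

/-- the identity -/
def L1 : Lin := ⟨1, 2, 4, 8, 16, 32⟩

/-- the rotation of the first plane -/
def L0 : Lin := ⟨1, 2, 4, 8, 32, 48⟩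

/-- the rotation of the second plane -/
def L2 : Lin := ⟨2, 15, 10, 6, 16, 32⟩

/-- the rotation of the third plane -/
def L3 : Lin := ⟨10, 9, 8, 15, 16, 32⟩

/-- exchange of the first two planes -/
def SW : Lin := ⟨44, 60, 23, 27, 3, 13⟩

/-- inversion on the last two planes -/
def I2 : Lin := ⟨4, 9, 1, 6, 16, 32⟩

/-- inversion on the first two planes -/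
def I0 : Lin := ⟨15, 2, 10, 6, 32, 16⟩

/-- the even isometries commuting with the first rotation -/
def centL : List Lin :=
  [⟨1, 2, 4, 8, 16, 32⟩, ⟨1, 2, 4, 8, 32, 48⟩, ⟨1, 2, 4, 8, 48, 16⟩,
  ⟨1, 6, 4, 9, 16, 32⟩, ⟨1, 6, 4, 9, 32, 48⟩, ⟨1, 6, 4, 9, 48, 16⟩,
  ⟨1, 10, 5, 8, 16, 32⟩, ⟨1, 10, 5, 8, 32, 48⟩, ⟨1, 10, 5, 8, 48, 16⟩,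
  ⟨1, 15, 5, 9, 16, 32⟩, ⟨1, 15, 5, 9, 32, 48⟩, ⟨1, 15, 5, 9, 48, 16⟩,
  ⟨2, 1, 8, 4, 16, 32⟩, ⟨2, 1, 8, 4, 32, 48⟩, ⟨2, 1, 8, 4, 48, 16⟩,
  ⟨2, 5, 10, 4, 16, 32⟩, ⟨2, 5, 10, 4, 32, 48⟩, ⟨2, 5, 10, 4, 48, 16⟩,
  ⟨2, 9, 8, 6, 16, 32⟩, ⟨2, 9, 8, 6, 32, 48⟩, ⟨2, 9, 8, 6, 48, 16⟩,
  ⟨2, 15, 10, 6, 16, 32⟩, ⟨2, 15, 10, 6, 32, 48⟩, ⟨2, 15, 10, 6, 48, 16⟩,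
  ⟨4, 8, 1, 2, 16, 32⟩, ⟨4, 8, 1, 2, 32, 48⟩, ⟨4, 8, 1, 2, 48, 16⟩,
  ⟨4, 9, 1, 6, 16, 32⟩, ⟨4, 9, 1, 6, 32, 48⟩, ⟨4, 9, 1, 6, 48, 16⟩,
  ⟨4, 10, 5, 2, 16, 32⟩, ⟨4, 10, 5, 2, 32, 48⟩, ⟨4, 10, 5, 2, 48, 16⟩,
  ⟨4, 15, 5, 6, 16, 32⟩, ⟨4, 15, 5, 6, 32, 48⟩, ⟨4, 15, 5, 6, 48, 16⟩,
  ⟨5, 2, 4, 10, 16, 32⟩, ⟨5, 2, 4, 10, 32, 48⟩, ⟨5, 2, 4, 10, 48, 16⟩,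
  ⟨5, 6, 4, 15, 16, 32⟩, ⟨5, 6, 4, 15, 32, 48⟩, ⟨5, 6, 4, 15, 48, 16⟩,
  ⟨5, 8, 1, 10, 16, 32⟩, ⟨5, 8, 1, 10, 32, 48⟩, ⟨5, 8, 1, 10, 48, 16⟩,
  ⟨5, 9, 1, 15, 16, 32⟩, ⟨5, 9, 1, 15, 32, 48⟩, ⟨5, 9, 1, 15, 48, 16⟩,
  ⟨6, 1, 9, 4, 16, 32⟩, ⟨6, 1, 9, 4, 32, 48⟩, ⟨6, 1, 9, 4, 48, 16⟩,
  ⟨6, 5, 15, 4, 16, 32⟩, ⟨6, 5, 15, 4, 32, 48⟩, ⟨6, 5, 15, 4, 48, 16⟩,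
  ⟨6, 8, 9, 2, 16, 32⟩, ⟨6, 8, 9, 2, 32, 48⟩, ⟨6, 8, 9, 2, 48, 16⟩,
  ⟨6, 10, 15, 2, 16, 32⟩, ⟨6, 10, 15, 2, 32, 48⟩, ⟨6, 10, 15, 2, 48, 16⟩,
  ⟨8, 4, 2, 1, 16, 32⟩, ⟨8, 4, 2, 1, 32, 48⟩, ⟨8, 4, 2, 1, 48, 16⟩,
  ⟨8, 5, 10, 1, 16, 32⟩, ⟨8, 5, 10, 1, 32, 48⟩, ⟨8, 5, 10, 1, 48, 16⟩,
  ⟨8, 6, 2, 9, 16, 32⟩, ⟨8, 6, 2, 9, 32, 48⟩, ⟨8, 6, 2, 9, 48, 16⟩,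
  ⟨8, 15, 10, 9, 16, 32⟩, ⟨8, 15, 10, 9, 32, 48⟩, ⟨8, 15, 10, 9, 48, 16⟩,
  ⟨9, 2, 6, 8, 16, 32⟩, ⟨9, 2, 6, 8, 32, 48⟩, ⟨9, 2, 6, 8, 48, 16⟩,
  ⟨9, 4, 6, 1, 16, 32⟩, ⟨9, 4, 6, 1, 32, 48⟩, ⟨9, 4, 6, 1, 48, 16⟩,
  ⟨9, 5, 15, 1, 16, 32⟩, ⟨9, 5, 15, 1, 32, 48⟩, ⟨9, 5, 15, 1, 48, 16⟩,
  ⟨9, 10, 15, 8, 16, 32⟩, ⟨9, 10, 15, 8, 32, 48⟩, ⟨9, 10, 15, 8, 48, 16⟩,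
  ⟨10, 1, 8, 5, 16, 32⟩, ⟨10, 1, 8, 5, 32, 48⟩, ⟨10, 1, 8, 5, 48, 16⟩,
  ⟨10, 4, 2, 5, 16, 32⟩, ⟨10, 4, 2, 5, 32, 48⟩, ⟨10, 4, 2, 5, 48, 16⟩,
  ⟨10, 6, 2, 15, 16, 32⟩, ⟨10, 6, 2, 15, 32, 48⟩, ⟨10, 6, 2, 15, 48, 16⟩,
  ⟨10, 9, 8, 15, 16, 32⟩, ⟨10, 9, 8, 15, 32, 48⟩, ⟨10, 9, 8, 15, 48, 16⟩,
  ⟨15, 1, 9, 5, 16, 32⟩, ⟨15, 1, 9, 5, 32, 48⟩, ⟨15, 1, 9, 5, 48, 16⟩,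
  ⟨15, 2, 6, 10, 16, 32⟩, ⟨15, 2, 6, 10, 32, 48⟩, ⟨15, 2, 6, 10, 48, 16⟩,
  ⟨15, 4, 6, 5, 16, 32⟩, ⟨15, 4, 6, 5, 32, 48⟩, ⟨15, 4, 6, 5, 48, 16⟩,
  ⟨15, 8, 9, 10, 16, 32⟩, ⟨15, 8, 9, 10, 32, 48⟩, ⟨15, 8, 9, 10, 48, 16⟩]

/-- movers of a non-singular vector -/
def movA : List Lin :=
  [⟨4, 8, 19, 35, 3, 49⟩, ⟨4, 9, 23, 39, 7, 49⟩, ⟨5, 6, 27, 43, 11, 52⟩,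
  ⟨1, 2, 28, 44, 12, 52⟩, ⟨1, 6, 29, 45, 13, 52⟩, ⟨2, 5, 30, 46, 14, 58⟩,
  ⟨1, 2, 4, 8, 16, 32⟩, ⟨1, 35, 4, 8, 17, 32⟩, ⟨2, 35, 4, 8, 18, 50⟩,
  ⟨1, 2, 4, 44, 20, 32⟩, ⟨1, 10, 5, 45, 21, 32⟩, ⟨2, 9, 6, 46, 22, 54⟩,
  ⟨1, 2, 8, 44, 24, 56⟩, ⟨1, 6, 9, 45, 25, 57⟩, ⟨2, 5, 10, 46, 26, 32⟩,
  ⟨5, 6, 15, 43, 31, 63⟩, ⟨1, 2, 4, 8, 32, 48⟩, ⟨1, 19, 4, 8, 33, 49⟩,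
  ⟨2, 19, 4, 8, 34, 16⟩, ⟨1, 2, 4, 28, 36, 52⟩, ⟨1, 10, 5, 29, 37, 53⟩,
  ⟨2, 9, 6, 30, 38, 16⟩, ⟨1, 2, 8, 28, 40, 16⟩, ⟨1, 6, 9, 29, 41, 16⟩,
  ⟨2, 5, 10, 30, 42, 58⟩, ⟨5, 6, 15, 27, 47, 16⟩, ⟨1, 2, 4, 8, 48, 16⟩,
  ⟨1, 19, 4, 8, 49, 16⟩, ⟨2, 19, 4, 8, 50, 34⟩, ⟨1, 2, 4, 28, 52, 16⟩,
  ⟨1, 10, 5, 29, 53, 16⟩, ⟨2, 9, 6, 30, 54, 38⟩, ⟨1, 2, 8, 28, 56, 40⟩,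
  ⟨1, 6, 9, 29, 57, 41⟩, ⟨2, 5, 10, 30, 58, 16⟩, ⟨5, 6, 15, 27, 63, 47⟩]

/-- movers fixing the first vector -/
def movB : List Lin :=
  [⟨1, 2, 4, 8, 16, 32⟩, ⟨1, 19, 4, 8, 16, 33⟩, ⟨2, 19, 8, 4, 16, 34⟩,
  ⟨1, 2, 4, 28, 16, 36⟩, ⟨1, 10, 5, 29, 16, 37⟩, ⟨2, 9, 30, 6, 16, 38⟩,
  ⟨1, 2, 28, 8, 16, 40⟩, ⟨1, 6, 29, 9, 16, 41⟩, ⟨2, 5, 10, 30, 16, 42⟩,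
  ⟨5, 6, 27, 15, 16, 47⟩, ⟨1, 2, 8, 4, 16, 48⟩, ⟨1, 19, 8, 4, 16, 49⟩,
  ⟨2, 19, 4, 8, 16, 50⟩, ⟨1, 2, 28, 4, 16, 52⟩, ⟨1, 10, 29, 5, 16, 53⟩,
  ⟨2, 9, 6, 30, 16, 54⟩, ⟨1, 2, 8, 28, 16, 56⟩, ⟨1, 6, 9, 29, 16, 57⟩,
  ⟨2, 5, 30, 10, 16, 58⟩, ⟨5, 6, 15, 27, 16, 63⟩]

end CfsgLib.SuzThree
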