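import Cfsg.Agent.Lib.SuzType.Frame
import Cfsg.Agent.Lib.SuzThree.Lin

/-!
Actions on the coordinates of the extraspecial group.
-/

set_option autoImplicit false

namespace CfsgLib.SuzThree

open CfsgLib.SuzType CfsgLib.Extraspecial

variable {G : Type*} [Group G] {z : G} {Q : Subgroup G} {v : G → V6}

/-- the action of an element on the coordinates -/
def Act (Q : Subgroup G) (v : G → V6) (c : G) (L : Lin) : Prop := ∀ a ∈ Q, v (c * a * c⁻¹) = app L (v a)

theorem sum_xr (L : Lin) (w : V6) (h : xr w (xr (app L w) (app L (app L w))) = 0) :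
    xr (app L w) (app L (app L w)) = w :=
  (xr_eq_zero.mp h).symm

variable [Finite G] (H : Co z Q v)
include H

theorem act_mul {c d : G} {L M : Lin} (hdz : d * z = z * d) (hc : Act Q v c L) (hd : Act Q v d M) :
    Act Q v (c * d) (comp L M) := fun a ha => by
  rw [show c * d * a * (c * d)⁻¹ = c * (d * a * d⁻¹) * c⁻¹ by group, hc _ (H.conj_mem hdz ha), hd a ha, app_comp]

theorem act_inner {q : G} (hq : q ∈ Q) : Act Q v q L1 := fun a ha => by rw [H.v_inner hq ha, app_L1]

theorem act_unique {c : G} {L M : Lin} (hL : Act Q v c L) (hM : Act Q v c M) : L = M := lin_ext fun w => by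
  obtain ⟨a, ha, rfl⟩ := H.surj w
  rw [← hL a ha, hM a ha]

theorem act_mem {c : G} (hc : c * z = z * c) (h : Act Q v c L1) : c ∈ Q :=
  H.ker c hc fun a ha => by rw [h a ha, app_L1]

theorem act_exists {c : G} (hc : c * z = z * c) : ∃ L, Good L ∧ Act Q v c L := H.par c hc

omit H in
theorem eq_one_of_cube_sq {x : G} (h3 : x * x * x = 1) (h2 : x * x = 1) : x = 1 := by
  rwa [h2, one_mul] at h3

theorem pow_four {q : G} (hq : q ∈ Q) : q * q * (q * q) = 1 := by
  rcases H.st.sq_cases hq with h | h <;> rw [h]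
  · rw [mul_one]
  · exact H.st.zz

theorem not_mem_of_cube {x : G} (hx : x * x * x = 1) (hne : x ≠ 1) : x ∉ Q := fun hq => by
  refine hne ?_
  have h4 := pow_four H hq
  rw [← mul_assoc (x * x) x x, hx, one_mul] at h4
  exact h4

omit [Finite G] H in
theorem commute_of_conj_eq {x a : G} (h : x * a * x⁻¹ = a) : Commute x a := mul_inv_eq_iff_eq_mul.1 h

/-- An element of order three fixing a coordinate commutes with the element. -/
theorem fix_of {x a : G} {L : Lin} (hx : x * x * x = 1) (hxz : x * z = z * x) (hL : Act Q v x L)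
    (ha : a ∈ Q) (h : app L (v a) = v a) : Commute x a := by
  rcases H.eq_or (H.conj_mem hxz ha) ha ((hL a ha).trans h) with e | e
  · exact commute_of_conj_eq e
  · exfalso
    have hz' : x * z * x⁻¹ = z := by rw [hxz, mul_inv_cancel_right]
    have h2 : Commute (x * x) a := commute_of_conj_eq (by
      rw [show x * x * a * (x * x)⁻¹ = x * (x * a * x⁻¹) * x⁻¹ by group, e,
        show x * (z * a) * x⁻¹ = x * z * x⁻¹ * (x * a * x⁻¹) by group, hz', e, ← mul_assoc, H.st.zz, one_mul])
    have h1 : Commute x a := by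
      have := h2.mul_left h2
      rwa [show x * x * (x * x) = x * x * x * x by group, hx, one_mul] at this
    rw [h1.eq, mul_inv_cancel_right] at e
    exact H.st.ne_one (mul_eq_right.mp e.symm)

theorem act_cube {u : G} {L : Lin} (huz : u * z = z * u) (hu : u * u * u = 1) (hL : Act Q v u L) (w : V6) :
    app L (app L (app L w)) = w := by
  have h2 := act_mul H huz (act_mul H huz hL hL) hL
  rw [hu] at h2
  have e := act_unique H h2 (act_inner H (one_mem Q))
  have := congrArg (fun M => app M w) e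
  simpa only [app_comp, app_L1] using this

/-- Two elements of order three with the same action are conjugate under the extraspecial group. -/
theorem conj_unique {u x : G} {L : Lin} (huz : u * z = z * u) (hxz : x * z = z * x) (hu : u * u * u = 1)
    (hx : x * x * x = 1) (hL : Act Q v u L) (hM : Act Q v x L) :
    x * u⁻¹ ∈ Q ∧ ∃ p ∈ Q, p * u * p⁻¹ = x ∧ v p = app L (v (x * u⁻¹)) := by
  have hL3 := act_cube H huz hu hL
  have hui : u⁻¹ * z = z * u⁻¹ := (show Commute u z from huz).inv_left.eq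
  have hq : x * u⁻¹ ∈ Q := by
    refine act_mem H (by rw [mul_assoc, hui, ← mul_assoc, hxz, mul_assoc]) ?_
    obtain ⟨M, -, hMi⟩ := act_exists H hui
    have h1 := act_mul H hui hL hMi
    rw [mul_inv_cancel] at h1
    have e := act_unique H h1 (act_inner H (one_mem Q))
    have h2 := act_mul H hui hM hMi
    rwa [e] at h2
  set q := x * u⁻¹ with hqd
  have hxq : x = q * u := by rw [hqd, inv_mul_cancel_right]
  set w := v q with hw
  have huu : u * u * z = z * (u * u) := ((show Commute u z from huz).mul_left huz).eq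
  have hzero : xr w (xr (app L w) (app L (app L w))) = 0 := by
    have e : q * ((u * q * u⁻¹) * (u * u * q * (u * u)⁻¹)) = 1 := by
      rw [← hx, hxq, show q * (u * q * u⁻¹ * (u * u * q * (u * u)⁻¹)) = q * u * (q * u) * (q * u) * (u * u * u)⁻¹ by group,
        hu, inv_one, mul_one]
    have h1 := H.conj_mem huz hq
    have h2 := H.conj_mem huu hq
    have := congrArg v e
    rwa [H.mul _ hq _ (mul_mem h1 h2), H.mul _ h1 _ h2, H.v_one, hL q hq,
      show u * u * q * (u * u)⁻¹ = u * (u * q * u⁻¹) * u⁻¹ by group, hL _ h1, hL q hq, ← hw] at this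
  obtain ⟨p, hp, hpv⟩ := H.surj (app L w)
  refine ⟨hq, p, hp, ?_, hpv⟩
  have hpi := H.conj_mem huz (inv_mem hp)
  have hc : p * (u * p⁻¹ * u⁻¹) ∈ Q := mul_mem hp hpi
  have hv : v (p * (u * p⁻¹ * u⁻¹)) = w := by
    rw [H.mul _ hp _ hpi, hL _ (inv_mem hp), H.v_inv hp, hpv]
    exact sum_xr L w hzero
  rcases H.eq_or hc hq hv with e | e
  · rw [hxq, ← e]; group
  · exfalso
    have hzu : p * u * p⁻¹ = z * x := by rw [hxq, ← mul_assoc, ← e]; group
    have h3 : p * u * p⁻¹ * (p * u * p⁻¹) * (p * u * p⁻¹) = 1 := by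
      rw [show p * u * p⁻¹ * (p * u * p⁻¹) * (p * u * p⁻¹) = p * (u * u * u) * p⁻¹ by group, hu]; group
    rw [hzu, show z * x * (z * x) * (z * x) = z * (x * z) * (x * (z * x)) by group, hxz, ← mul_assoc z z x,
      H.st.zz, one_mul, ← hxz, ← mul_assoc x x z, ← mul_assoc x (x * x) z, ← mul_assoc x x x, hx, one_mul] at h3
    exact H.st.ne_one h3

/-- The action of a conjugate. -/
theorem act_conj {c u : G} {L M M' : Lin} (hcz : c * z = z * c) (huz : u * z = z * u) (hL : Good L)
    (hc : Act Q v c L) (hu : Act Q v u M) (h : comp L M = comp M' L) : Act Q v (c * u * c⁻¹) M' := by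
  have hci : c⁻¹ * z = z * c⁻¹ := (show Commute c z from hcz).inv_left.eq
  have hx : c * u * c⁻¹ * z = z * (c * u * c⁻¹) :=
    (((show Commute c z from hcz).mul_left huz).mul_left (show Commute c⁻¹ z from hci)).eq
  obtain ⟨Mx, -, hMx⟩ := act_exists H hx
  have h1 := act_mul H hcz hMx hc
  rw [inv_mul_cancel_right] at h1
  have e := act_unique H h1 (act_mul H huz hc hu)
  rw [h] at e
  have : Mx = M' := lin_ext fun w => by
    obtain ⟨w', rfl⟩ := iso_surj hL.1 w
    have := congrArg (fun A => app A w') e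
    simpa only [app_comp] using this
  exact this ▸ hMx

/-- The coordinates seen from a conjugate. -/
theorem co_conj {c : G} (hc : c * z = z * c) : Co z Q (fun a => v (c⁻¹ * a * c)) := by
  have hci : c⁻¹ * z = z * c⁻¹ := (show Commute c z from hc).inv_left.eq
  have hm : ∀ {a}, a ∈ Q → c⁻¹ * a * c ∈ Q := fun ha => by
    have := H.conj_mem hci ha; rwa [inv_inv] at this
  have cz : ∀ k, k * z = z * k → c⁻¹ * k * c * z = z * (c⁻¹ * k * c) := fun k hk =>
    (((show Commute c⁻¹ z from hci).mul_left hk).mul_left hc).eq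
  have cq : ∀ k, c⁻¹ * k * c ∈ Q → k ∈ Q := fun k hk => by
    have := H.conj_mem hc hk
    rwa [show c * (c⁻¹ * k * c) * c⁻¹ = k by group] at this
  refine ⟨H.st, H.card, fun a ha b hb => ?_, fun a ha => ?_, fun a ha => ?_, fun a ha b hb => ?_, fun w => ?_,
    fun L hL => ?_, fun k hk => ?_, fun k hk h => ?_, H.nwc⟩
  · show v (c⁻¹ * (a * b) * c) = _
    rw [show c⁻¹ * (a * b) * c = (c⁻¹ * a * c) * (c⁻¹ * b * c) by group]
    exact H.mul _ (hm ha) _ (hm hb)
  · rw [H.zero _ (hm ha)]
    have hzc : c⁻¹ * z * c = z := by rw [hci, inv_mul_cancel_right]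
    constructor
    · rintro (h | h)
      · left; calc a = c * (c⁻¹ * a * c) * c⁻¹ := by group
          _ = 1 := by rw [h]; group
      · right; calc a = c * (c⁻¹ * a * c) * c⁻¹ := by group
          _ = z := by rw [h, hc, mul_inv_cancel_right]
    · rintro (rfl | rfl)
      · left; group
      · right; exact hzc
  · rw [H.sq _ (hm ha), show c⁻¹ * a * c * (c⁻¹ * a * c) = c⁻¹ * (a * a) * c by group]
    constructor
    · intro h; calc a * a = c * (c⁻¹ * (a * a) * c) * c⁻¹ := by group
        _ = 1 := by rw [h]; group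
    · intro h; rw [h]; group
  · rw [H.comm _ (hm ha) _ (hm hb), show c⁻¹ * a * c * (c⁻¹ * b * c) = c⁻¹ * (a * b) * c by group,
      show c⁻¹ * b * c * (c⁻¹ * a * c) = c⁻¹ * (b * a) * c by group]
    simp only [mul_left_inj, mul_right_inj]
  · obtain ⟨a, ha, hw⟩ := H.surj w
    exact ⟨c * a * c⁻¹, H.conj_mem hc ha, by
      show v (c⁻¹ * (c * a * c⁻¹) * c) = w
      rw [show c⁻¹ * (c * a * c⁻¹) * c = a by group, hw]⟩
  · obtain ⟨k, hk, hkv⟩ := H.real L hL
    refine ⟨c * k * c⁻¹, (((show Commute c z from hc).mul_left hk).mul_left (show Commute c⁻¹ z from hci)).eq,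
      fun a ha => ?_⟩
    show v (c⁻¹ * (c * k * c⁻¹ * a * (c * k * c⁻¹)⁻¹) * c) = _
    rw [show c⁻¹ * (c * k * c⁻¹ * a * (c * k * c⁻¹)⁻¹) * c = k * (c⁻¹ * a * c) * k⁻¹ by group]
    exact hkv _ (hm ha)
  · obtain ⟨L, hL, hLv⟩ := H.par _ (cz k hk)
    refine ⟨L, hL, fun a ha => ?_⟩
    rw [← hLv _ (hm ha)]
    congr 1; group
  · refine cq k (H.ker _ (cz k hk) fun a ha => ?_)
    have := h (c * a * c⁻¹) (H.conj_mem hc ha)
    rw [show c⁻¹ * (k * (c * a * c⁻¹) * k⁻¹) * c = c⁻¹ * k * c * a * (c⁻¹ * k * c)⁻¹ by group,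
      show c⁻¹ * (c * a * c⁻¹) * c = a by group] at this
    exact this

end CfsgLib.SuzThree
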