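import Cfsg.Agent.Lib.SuzThree.Kgrp

/-!
Conjugates of the element of order three commuting with it, and elements permuting the three generators.
-/

set_option autoImplicit false
set_option maxRecDepth 100000

namespace CfsgLib.SuzThree

open CfsgLib.SuzType CfsgLib.Extraspecial
open CfsgLib.UFourType (SL23 sI sU sZ sl_z)

/-- exchange of the last two planes -/
def SW23 : Lin := ⟨4, 8, 1, 2, 16, 32⟩

theorem norm_rels : Good SW23 ∧
    eqL (comp SW L0) (comp L2 SW) = true ∧ eqL (comp SW L2) (comp L0 SW) = true ∧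
    eqL (comp SW L3) (comp L3 SW) = true ∧
    eqL (comp SW23 L0) (comp L0 SW23) = true ∧ eqL (comp SW23 L2) (comp L3 SW23) = true ∧
    eqL (comp SW23 L3) (comp L2 SW23) = true ∧
    eqL (comp I0 L0) (comp (comp L0 L0) I0) = true ∧ eqL (comp I0 L2) (comp (comp L2 L2) I0) = true ∧
    eqL (comp I0 L3) (comp L3 I0) = true ∧ eqL (comp I0 I0) L1 = true := by decide +kernel

theorem six_check : centL.all (fun L => !(Nat.beq (nfix L) 16 && eqL (comp L (comp L L)) L1) ||
    eqL L L0 || eqL L (comp L0 L0) || eqL L L2 || eqL L (comp L2 L2) || eqL L L3 || eqL L (comp L3 L3)) = true := by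
  unfold centL
  decide +kernel

theorem six_nfix : nfix L0 = 16 ∧ nfix (comp L2 L0) ≠ 16 ∧ nfix (comp L2 (comp L0 L0)) ≠ 16 ∧
    nfix (comp L0 L0) = 16 := by decide +kernel

theorem no_inverter_check : centL.all (fun L =>
    !(eqL (comp L L2) (comp L2 L) && eqL (comp L L3) (comp (comp L3 L3) L))) = true := by
  unfold centL
  decide +kernel

theorem nfix_conj {L A M : Lin} (hL : Iso L) (h : comp L A = comp M L) : nfix M = nfix A := by
  have e : ∀ w, app L (app A w) = app M (app L w) := fun w => by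
    rw [← app_comp, ← app_comp, h]
  symm
  refine Finset.card_bij (fun w _ => app L w) (fun w hw => ?_) (fun a _ b _ he => iso_inj hL he) fun b hb => ?_
  · rw [Finset.mem_filter] at hw ⊢
    exact ⟨Finset.mem_univ _, by rw [← e, hw.2]⟩
  · obtain ⟨a, rfl⟩ := iso_surj hL b
    refine ⟨a, ?_, rfl⟩
    rw [Finset.mem_filter] at hb ⊢
    exact ⟨Finset.mem_univ _, iso_inj hL (by rw [e, hb.2])⟩

variable {G : Type*} [Group G] [Finite G] {z y : G} {Q : Subgroup G} {v : G → V6} {α β : SL23 →* G}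

theorem cube_conj {c t : G} (h : t * t * t = 1) : c * t * c⁻¹ * (c * t * c⁻¹) * (c * t * c⁻¹) = 1 := by
  rw [show c * t * c⁻¹ * (c * t * c⁻¹) * (c * t * c⁻¹) = c * (t * t * t) * c⁻¹ by group, h]
  group

/-- An element of order three commuting with the involution. -/
structure El (z : G) (Q : Subgroup G) (v : G → V6) (s : G) (M : Lin) : Prop where
  sz : s * z = z * s
  cube : s * s * s = 1
  act : Act Q v s M

theorem El.inv {s : G} {M : Lin} (H : Co z Q v) (e : El z Q v s M) : El z Q v s⁻¹ (comp M M) := by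
  have hs : s⁻¹ = s * s := (eq_inv_of_mul_eq_one_left e.cube).symm
  refine ⟨(show Commute s z from e.sz).inv_left.eq, ?_, hs ▸ act_mul H e.sz e.act e.act⟩
  rw [show s⁻¹ * s⁻¹ * s⁻¹ = (s * s * s)⁻¹ by group, e.cube, inv_one]

theorem El.conj {c s : G} {L M M' : Lin} (H : Co z Q v) (hcz : c * z = z * c) (hL : Good L) (hc : Act Q v c L)
    (e : El z Q v s M) (h : comp L M = comp M' L) : El z Q v (c * s * c⁻¹) M' :=
  ⟨(((show Commute c z from hcz).mul_left e.sz).mul_left (show Commute c z from hcz).inv_left).eq,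
    cube_conj e.cube, act_conj H hcz e.sz hL hc e.act h⟩

/-- Conjugation under the extraspecial group, compatible with the common centralisers. -/
theorem adjust (H : Co z Q v) {x t : G} {M : Lin} (ex : El z Q v x M) (et : El z Q v t M) :
    ∃ p ∈ Q, p * t * p⁻¹ = x ∧
      ∀ s N, El z Q v s N → Commute s x → Commute s t → Commute p s := by
  obtain ⟨hq, p, hp, hpx, hpv⟩ := conj_unique H et.sz ex.sz et.cube ex.cube et.act ex.act
  refine ⟨p, hp, hpx, fun s N es hsx hst => (fix_of H es.cube es.sz es.act hp ?_).symm⟩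
  have hqs : Commute s (x * t⁻¹) := hsx.mul_right hst.inv_right
  have hfix : app N (v (x * t⁻¹)) = v (x * t⁻¹) := by
    have := es.act _ hq
    rwa [hqs.eq, mul_inv_cancel_right, eq_comm] at this
  have h1 := act_mul H et.sz es.act et.act
  have h2 := act_mul H es.sz et.act es.act
  rw [hst.eq] at h1
  have e := congrArg (fun A => app A (v (x * t⁻¹))) (act_unique H h1 h2)
  simp only [app_comp, hfix] at e
  rw [hpv, e]

namespace GD

variable (D : GD z Q v y α β)
include D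

theorem el_y : El z Q v y L0 := ⟨D.yd.yz, D.yd.cube, D.yd.act⟩

theorem cube_u : α sU * α sU * α sU = 1 := by
  rw [← map_mul, ← map_mul, ← pow_two, ← pow_succ, sl_z.2.2.2.1, map_one]

theorem cube_w : β sU * β sU * β sU = 1 := by
  rw [← map_mul, ← map_mul, ← pow_two, ← pow_succ, sl_z.2.2.2.1, map_one]

theorem el_u : El z Q v (α sU) L2 := ⟨(mem_Cz.mp D.au).1, D.cube_u, D.aa⟩

theorem el_w : El z Q v (β sU) L3 := ⟨(mem_Cz.mp D.bu).1, D.cube_w, D.ba⟩

/-- An element realising a permutation of the three planes on the three generators. -/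
theorem exists_norm {L M0 M1 M2 : Lin} (hL : Good L) {t0 t1 t2 : G} (e0 : El z Q v t0 M0) (e1 : El z Q v t1 M1)
    (e2 : El z Q v t2 M2) (c01 : Commute t0 t1) (c02 : Commute t0 t2) (c12 : Commute t1 t2)
    (h0 : eqL (comp L L0) (comp M0 L) = true) (h1 : eqL (comp L L2) (comp M1 L) = true)
    (h2 : eqL (comp L L3) (comp M2 L) = true) :
    ∃ c, c * z = z * c ∧ Act Q v c L ∧ c * y * c⁻¹ = t0 ∧ c * α sU * c⁻¹ = t1 ∧ c * β sU * c⁻¹ = t2 := by
  have H := D.yd.co
  obtain ⟨c, hcz, hcv⟩ := H.real L hL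
  have uy : Commute (α sU) y := (mem_Cz.mp D.au).2
  have wy : Commute (β sU) y := (mem_Cz.mp D.bu).2
  have uw : Commute (α sU) (β sU) := D.comm sU sU
  have step : ∀ {c : G}, c * z = z * c → Act Q v c L → ∀ {p : G}, p ∈ Q →
      p⁻¹ * c * z = z * (p⁻¹ * c) ∧ Act Q v (p⁻¹ * c) L := by
    intro c hcz hcv p hp
    refine ⟨((show Commute p z from H.commute_z hp).inv_left.mul_left hcz).eq, fun a ha => ?_⟩
    rw [show p⁻¹ * c * a * (p⁻¹ * c)⁻¹ = p⁻¹ * (c * a * c⁻¹) * p⁻¹⁻¹ by group,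
      H.v_inner (inv_mem hp) (H.conj_mem hcz ha), hcv a ha]
  have cc : ∀ {a b : G} (d : G), Commute a b → Commute (d * a * d⁻¹) (d * b * d⁻¹) := fun d h => by
    have := h.map (MulAut.conj d)
    rwa [MulAut.conj_apply, MulAut.conj_apply] at this
  have undo : ∀ {p t x : G}, p * t * p⁻¹ = x → p⁻¹ * x * p = t := fun h => by rw [← h]; group
  have keep : ∀ {p t : G}, Commute p t → p⁻¹ * t * p = t := fun h => by
    rw [mul_assoc, ← h.eq, inv_mul_cancel_left]
  -- first generator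
  obtain ⟨p, hp, hpx, -⟩ := adjust H (El.conj H hcz hL hcv D.el_y (rel_eq h0)) e0
  obtain ⟨hcz1, hcv1⟩ := step hcz hcv hp
  set c1 := p⁻¹ * c with hc1
  have k0 : c1 * y * c1⁻¹ = t0 := by
    rw [hc1, show p⁻¹ * c * y * (p⁻¹ * c)⁻¹ = p⁻¹ * (c * y * c⁻¹) * p by group, undo hpx]
  -- second generator
  obtain ⟨p, hp, hpx, hps⟩ := adjust H (El.conj H hcz1 hL hcv1 D.el_u (rel_eq h1)) e1
  have hp0 : Commute p t0 := hps t0 M0 e0 (k0 ▸ cc c1 uy.symm) c01
  obtain ⟨hcz2, hcv2⟩ := step hcz1 hcv1 hp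
  set c2 := p⁻¹ * c1 with hc2
  have k0' : c2 * y * c2⁻¹ = t0 := by
    rw [hc2, show p⁻¹ * c1 * y * (p⁻¹ * c1)⁻¹ = p⁻¹ * (c1 * y * c1⁻¹) * p by group, k0, keep hp0]
  have k1 : c2 * α sU * c2⁻¹ = t1 := by
    rw [hc2, show p⁻¹ * c1 * α sU * (p⁻¹ * c1)⁻¹ = p⁻¹ * (c1 * α sU * c1⁻¹) * p by group, undo hpx]
  -- third generator
  obtain ⟨p, hp, hpx, hps⟩ := adjust H (El.conj H hcz2 hL hcv2 D.el_w (rel_eq h2)) e2
  have hp0 : Commute p t0 := hps t0 M0 e0 (k0' ▸ cc c2 wy.symm) c02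
  have hp1 : Commute p t1 := hps t1 M1 e1 (k1 ▸ cc c2 uw) c12
  obtain ⟨hcz3, hcv3⟩ := step hcz2 hcv2 hp
  refine ⟨p⁻¹ * c2, hcz3, hcv3, ?_, ?_, ?_⟩
  · rw [show p⁻¹ * c2 * y * (p⁻¹ * c2)⁻¹ = p⁻¹ * (c2 * y * c2⁻¹) * p by group, k0', keep hp0]
  · rw [show p⁻¹ * c2 * α sU * (p⁻¹ * c2)⁻¹ = p⁻¹ * (c2 * α sU * c2⁻¹) * p by group, k1, keep hp1]
  · rw [show p⁻¹ * c2 * β sU * (p⁻¹ * c2)⁻¹ = p⁻¹ * (c2 * β sU * c2⁻¹) * p by group, undo hpx]

/-- exchange of the first two generators -/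
theorem exists_m : ∃ m, m * z = z * m ∧ m * y * m⁻¹ = α sU ∧ m * α sU * m⁻¹ = y ∧ m * β sU * m⁻¹ = β sU := by
  obtain ⟨-, r1, r2, r3, -⟩ := norm_rels
  obtain ⟨c, hc, -, h⟩ := D.exists_norm base_good.2.2.2.1 D.el_u D.el_y D.el_w (mem_Cz.mp D.au).2
    (D.comm sU sU) (mem_Cz.mp D.bu).2.symm r1 r2 r3
  exact ⟨c, hc, h⟩

/-- exchange of the last two generators -/
theorem exists_m23 : ∃ m, m * z = z * m ∧ m * y * m⁻¹ = y ∧ m * α sU * m⁻¹ = β sU ∧ m * β sU * m⁻¹ = α sU := by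
  obtain ⟨hg, -, -, -, r1, r2, r3, -⟩ := norm_rels
  obtain ⟨c, hc, -, h⟩ := D.exists_norm hg D.el_y D.el_w D.el_u (mem_Cz.mp D.bu).2.symm (mem_Cz.mp D.au).2.symm
    (D.comm sU sU).symm r1 r2 r3
  exact ⟨c, hc, h⟩

/-- inversion of the first two generators -/
theorem exists_c0 : ∃ c, c * z = z * c ∧ Act Q v c I0 ∧ c * y * c⁻¹ = y⁻¹ ∧ c * α sU * c⁻¹ = (α sU)⁻¹ ∧
    c * β sU * c⁻¹ = β sU ∧ c ^ 8 = 1 := by
  have H := D.yd.co
  obtain ⟨-, -, -, -, -, -, -, r1, r2, r3, r4⟩ := norm_rels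
  obtain ⟨c, hc, hcv, h0, h1, h2⟩ := D.exists_norm base_good.2.2.2.2.2 (D.el_y.inv H) (D.el_u.inv H) D.el_w
    (mem_Cz.mp D.au).2.symm.inv_inv (mem_Cz.mp D.bu).2.symm.inv_left (D.comm sU sU).inv_left r1 r2 r3
  refine ⟨c, hc, hcv, h0, h1, h2, ?_⟩
  have hq : c * c ∈ Q := act_mem H (((show Commute c z from hc).mul_left hc).eq) (rel_eq r4 ▸ act_mul H hc hcv hcv)
  have := pow_four H hq
  rwa [← mul_assoc, ← pow_two, ← pow_succ, ← pow_succ, ← pow_two, ← pow_mul] at this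

/-- A conjugate of `y` under `C(z)` commuting with `y` is essentially one of six. -/
theorem six {k : G} (hk : k * z = z * k) (hy : Commute (k * y * k⁻¹) y) :
    ∃ M, El z Q v (k * y * k⁻¹) M ∧ nfix M = 16 ∧
      (M = L0 ∨ M = comp L0 L0 ∨ M = L2 ∨ M = comp L2 L2 ∨ M = L3 ∨ M = comp L3 L3) := by
  have H := D.yd.co
  obtain ⟨L, hL, hLv⟩ := act_exists H hk
  have hxz : k * y * k⁻¹ * z = z * (k * y * k⁻¹) :=
    (((show Commute k z from hk).mul_left D.yd.yz).mul_left (show Commute k z from hk).inv_left).eq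
  obtain ⟨M, hM, hMv⟩ := act_exists H hxz
  have he := act_mul H hk hMv hLv
  rw [inv_mul_cancel_right] at he
  have hn : nfix M = 16 := (nfix_conj hL.1 (act_unique H (act_mul H D.yd.yz hLv D.yd.act) he)).trans six_nfix.1
  have h3 : comp M (comp M M) = L1 := lin_ext fun w => by
    rw [app_comp, app_comp, app_L1, act_cube H hxz (cube_conj D.yd.cube) hMv]
  have hc := six_check
  simp only [List.all_eq_true, Bool.or_eq_true, Bool.not_eq_true', Bool.and_eq_false_iff] at hc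
  refine ⟨M, ⟨hxz, cube_conj D.yd.cube, hMv⟩, hn, ?_⟩
  rcases hc M (D.yd.act_cent hxz hy hM hMv) with (((((h | h) | h) | h) | h) | h) | h
  · rcases h with h | h
    · rw [hn] at h; exact absurd h (by decide)
    · rw [eqL_iff.mpr h3] at h; exact absurd h (by decide)
  all_goals have := rel_eq h
  all_goals tauto

/-- Two elements with the same action commuting with `y` are conjugate under its centralizer. -/
theorem same_act {x t : G} {M : Lin} (ex : El z Q v x M) (et : El z Q v t M) (hx : Commute x y) (ht : Commute t y) :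
    ∃ p, Commute p y ∧ p * t * p⁻¹ = x := by
  obtain ⟨p, -, hpx, hps⟩ := adjust D.yd.co ex et
  exact ⟨p, hps y L0 D.el_y hx.symm ht.symm, hpx⟩

/-- No element commuting with the involution inverts all three generators. -/
theorem not_invert_all {h : G} (hz : h * z = z * h) (h0 : h * y * h⁻¹ = y⁻¹) (h1 : h * α sU * h⁻¹ = (α sU)⁻¹)
    (h2 : h * β sU * h⁻¹ = (β sU)⁻¹) : False := by
  have H := D.yd.co
  obtain ⟨c, hcz, -, c0, c1, c2, -⟩ := D.exists_c0
  have hdz : c * h * z = z * (c * h) := ((show Commute c z from hcz).mul_left hz).eq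
  have cy : c * h * y * (c * h)⁻¹ = y := by
    rw [show c * h * y * (c * h)⁻¹ = c * (h * y * h⁻¹) * c⁻¹ by group, h0,
      show c * y⁻¹ * c⁻¹ = (c * y * c⁻¹)⁻¹ by group, c0, inv_inv]
  have cu : c * h * α sU * (c * h)⁻¹ = α sU := by
    rw [show c * h * α sU * (c * h)⁻¹ = c * (h * α sU * h⁻¹) * c⁻¹ by group, h1,
      show c * (α sU)⁻¹ * c⁻¹ = (c * α sU * c⁻¹)⁻¹ by group, c1, inv_inv]
  have cw : c * h * β sU * (c * h)⁻¹ = β sU * β sU := by
    rw [show c * h * β sU * (c * h)⁻¹ = c * (h * β sU * h⁻¹) * c⁻¹ by group, h2,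
      show c * (β sU)⁻¹ * c⁻¹ = (c * β sU * c⁻¹)⁻¹ by group, c2]
    exact (eq_inv_of_mul_eq_one_left D.cube_w).symm
  obtain ⟨L, hL, hLv⟩ := act_exists H hdz
  have key : ∀ {a b : G} {A B : Lin}, a * z = z * a → Act Q v a A → Act Q v b B → c * h * a * (c * h)⁻¹ = b →
      comp L A = comp B L := by
    intro a b A B haz ha hb e
    refine act_unique H (act_mul H haz hLv ha) ?_
    have := act_mul H hdz hb hLv
    rwa [← e, inv_mul_cancel_right] at this
  have hmem := D.yd.act_cent hdz (commute_of_conj_eq cy) hL hLv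
  have hchk := no_inverter_check
  simp only [List.all_eq_true, Bool.not_eq_true', Bool.and_eq_false_iff] at hchk
  have hw := D.el_w.sz
  rcases hchk L hmem with e | e
  · rw [eqL_iff.mpr (key D.el_u.sz D.aa D.aa cu)] at e; exact Bool.false_ne_true e.symm
  · rw [eqL_iff.mpr (key hw D.ba (act_mul H hw D.ba D.ba) cw)] at e; exact Bool.false_ne_true e.symm

end GD

end CfsgLib.SuzThree
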