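import Cfsg.Agent.Lib.UFourType.SLFacts

/-!
Homomorphisms out of `SL(2,3)`.
-/

set_option autoImplicit false

namespace CfsgLib.SuzThree

open CfsgLib.UFourType

theorem sl_rels : sI * sI = sZ ∧ sU * sU * sU = 1 ∧ sU * sZ = sZ * sU ∧
    sU * (sU * sI * sU⁻¹) * sU⁻¹ = sU * sI * sU⁻¹ * sI ∧
    sI * (sU * sI * sU⁻¹) = sZ * (sU * sI * sU⁻¹ * sI) ∧
    ∀ (a : Fin 4) (b : Fin 2) (c : Fin 3),
      sI ^ (a : ℕ) * (sU * sI * sU⁻¹) ^ (b : ℕ) * sU ^ (c : ℕ) = 1 → a = 0 ∧ b = 0 ∧ c = 0 := by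
  decide +kernel

theorem normal_form {P : Type*} [Group P] {I U Z : P} (hi : I * I = Z) (hz : Z * Z = 1) (hu : U * U * U = 1)
    (hzu : U * Z = Z * U) (hk : U * (U * I * U⁻¹) * U⁻¹ = U * I * U⁻¹ * I)
    (hc : I * (U * I * U⁻¹) = Z * (U * I * U⁻¹ * I)) :
    ∀ p ∈ Subgroup.closure ({I, U} : Set P), ∃ (a : Fin 4) (b : Fin 2) (c : Fin 3),
      p = I ^ (a : ℕ) * (U * I * U⁻¹) ^ (b : ℕ) * U ^ (c : ℕ) := by
  set J := U * I * U⁻¹ with hJ
  have hI4 : I ^ 4 = 1 := by rw [pow_succ, pow_succ, pow_two, hi, mul_assoc, hi, hz]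
  have hU3 : U ^ 3 = 1 := by rw [pow_succ, pow_two, hu]
  have hzI : Z * I = I * Z := by rw [← hi, mul_assoc]
  have hJJ : J * J = I ^ 2 := by
    rw [hJ, show U * I * U⁻¹ * (U * I * U⁻¹) = U * (I * I) * U⁻¹ by group, hi, hzu, mul_inv_cancel_right, pow_two, hi]
  have hJI : J * I = I ^ 3 * J := by
    rw [pow_succ, pow_two, hi, mul_assoc Z I J, hc, ← mul_assoc Z Z, hz, one_mul]
  have hUI : U * I = J * U := by rw [hJ, inv_mul_cancel_right]
  have hUUI : U * U * I = J * I * (U * U) := by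
    calc U * U * I = U * (U * I) := mul_assoc _ _ _
      _ = U * J * U⁻¹ * (U * U) := by rw [hUI]; group
      _ = _ := by rw [hk]
  let T : Set P := {p | ∃ (a : ℕ) (b : Fin 2) (c : Fin 3), p = I ^ a * J ^ (b : ℕ) * U ^ (c : ℕ)}
  have stepU : ∀ p ∈ T, p * U ∈ T := by
    rintro _ ⟨a, b, c, rfl⟩
    match c with
    | 0 => exact ⟨a, b, 1, by simp⟩
    | 1 => exact ⟨a, b, 2, by simp [pow_two, mul_assoc]⟩
    | 2 =>
      refine ⟨a, b, 0, ?_⟩
      show I ^ a * J ^ (b : ℕ) * U ^ 2 * U = I ^ a * J ^ (b : ℕ) * U ^ 0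
      rw [mul_assoc _ (U ^ 2), ← pow_succ, hU3, pow_zero]
  have stepI : ∀ p ∈ T, p * I ∈ T := by
    rintro _ ⟨a, b, c, rfl⟩
    match c, b with
    | 0, 0 => exact ⟨a + 1, 0, 0, by simp [pow_succ]⟩
    | 0, 1 =>
      refine ⟨a + 3, 1, 0, ?_⟩
      show I ^ a * J ^ 1 * U ^ 0 * I = I ^ (a + 3) * J ^ 1 * U ^ 0
      simp only [pow_zero, pow_one, mul_one]
      rw [mul_assoc, hJI, ← mul_assoc, ← pow_add]
    | 1, 0 =>
      refine ⟨a, 1, 1, ?_⟩
      show I ^ a * J ^ 0 * U ^ 1 * I = I ^ a * J ^ 1 * U ^ 1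
      simp only [pow_zero, pow_one, mul_one]
      rw [mul_assoc (I ^ a) U I, hUI, ← mul_assoc]
    | 1, 1 =>
      refine ⟨a + 2, 0, 1, ?_⟩
      show I ^ a * J ^ 1 * U ^ 1 * I = I ^ (a + 2) * J ^ 0 * U ^ 1
      simp only [pow_zero, pow_one, mul_one]
      rw [mul_assoc (I ^ a * J) U I, hUI, ← mul_assoc, mul_assoc (I ^ a) J J, hJJ, ← pow_add]
    | 2, 0 =>
      refine ⟨a + 3, 1, 2, ?_⟩
      show I ^ a * J ^ 0 * U ^ 2 * I = I ^ (a + 3) * J ^ 1 * U ^ 2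
      simp only [pow_zero, pow_one, mul_one, pow_two U]
      rw [mul_assoc (I ^ a), hUUI, hJI, pow_add]
      simp only [mul_assoc]
    | 2, 1 =>
      refine ⟨a + 3, 0, 2, ?_⟩
      show I ^ a * J ^ 1 * U ^ 2 * I = I ^ (a + 3) * J ^ 0 * U ^ 2
      simp only [pow_zero, pow_one, mul_one, pow_two U]
      rw [mul_assoc (I ^ a * J), hUUI, ← mul_assoc, ← mul_assoc (I ^ a * J) J I, mul_assoc (I ^ a) J J, hJJ,
        ← pow_add, ← pow_succ]
  have hi' : I⁻¹ = I * I * I := inv_eq_of_mul_eq_one_right (by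
    rw [← hI4]; simp only [pow_succ, pow_zero, one_mul, mul_assoc])
  have hu' : U⁻¹ = U * U := inv_eq_of_mul_eq_one_right (by rw [← mul_assoc, hu])
  intro p hp
  have hT : p ∈ T := by
    induction hp using Subgroup.closure_induction_right with
    | one => exact ⟨0, 0, 0, by simp⟩
    | mul_right x hx y hy ih =>
      rcases hy with rfl | rfl
      · exact stepI _ ih
      · exact stepU _ ih
    | mul_inv_cancel x hx y hy ih =>
      rcases hy with rfl | rfl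
      · rw [hi', ← mul_assoc, ← mul_assoc]; exact stepI _ (stepI _ (stepI _ ih))
      · rw [hu', ← mul_assoc]; exact stepU _ (stepU _ ih)
  obtain ⟨a, b, c, rfl⟩ := hT
  exact ⟨⟨a % 4, Nat.mod_lt _ (by norm_num)⟩, b, c, by rw [pow_eq_pow_mod a hI4]⟩

/-- Two elements with the defining relations give a homomorphism. -/
theorem exists_sl_hom {G : Type*} [Group G] {i u z : G} (hi : i * i = z) (hz : z * z = 1) (hu : u * u * u = 1)
    (hzu : u * z = z * u) (hk : u * (u * i * u⁻¹) * u⁻¹ = u * i * u⁻¹ * i)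
    (hc : i * (u * i * u⁻¹) = z * (u * i * u⁻¹ * i)) :
    ∃ α : SL23 →* G, α sI = i ∧ α sU = u := by
  obtain ⟨r1, r2, r3, r4, r5, r6⟩ := sl_rels
  set I : SL23 × G := (sI, i) with hI
  set U : SL23 × G := (sU, u) with hU
  set S := Subgroup.closure ({I, U} : Set (SL23 × G)) with hS
  have nf := normal_form (I := I) (U := U) (Z := (sZ, z)) (Prod.ext r1 hi) (Prod.ext sl_z.2.1 hz) (Prod.ext r2 hu)
    (Prod.ext r3 hzu) (Prod.ext r4 hk) (Prod.ext r5 hc)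
  have hker : ∀ p ∈ S, p.1 = 1 → p.2 = 1 := by
    intro p hp h1
    obtain ⟨a, b, c, rfl⟩ := nf p hp
    obtain ⟨rfl, rfl, rfl⟩ := r6 a b c (by simpa [hI, hU] using h1)
    simp
  have hinj : Function.Injective ((MonoidHom.fst SL23 G).comp S.subtype) := by
    rw [injective_iff_map_eq_one]
    intro p h
    exact Subtype.ext (Prod.ext h (hker _ p.2 h))
  have hsurj : Function.Surjective ((MonoidHom.fst SL23 G).comp S.subtype) := by
    intro g
    obtain ⟨a, b, c, d, rfl⟩ := sl_gen g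
    let I' : S := ⟨I, Subgroup.subset_closure (Or.inl rfl)⟩
    let U' : S := ⟨U, Subgroup.subset_closure (Or.inr rfl)⟩
    exact ⟨U' ^ (a : ℕ) * (I' * U' * I'⁻¹) ^ (b : ℕ) * U' ^ (c : ℕ) * (I' * U' * I'⁻¹) ^ (d : ℕ), by
      simp [I', U', hI, hU]⟩
  let e : S ≃* SL23 := MulEquiv.ofBijective _ ⟨hinj, hsurj⟩
  refine ⟨((MonoidHom.snd SL23 G).comp S.subtype).comp e.symm.toMonoidHom, ?_, ?_⟩
  · have : e.symm sI = ⟨I, Subgroup.subset_closure (Or.inl rfl)⟩ := e.symm_apply_eq.2 rfl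
    show ((e.symm sI : S) : SL23 × G).2 = i
    rw [this]
  · have : e.symm sU = ⟨U, Subgroup.subset_closure (Or.inr rfl)⟩ := e.symm_apply_eq.2 rfl
    show ((e.symm sU : S) : SL23 × G).2 = u
    rw [this]

end CfsgLib.SuzThree
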