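import Cfsg.Agent.Lib.SuzThree.Basics
import Cfsg.Agent.Lib.SuzThree.SLHom

/-!
The two copies of `SL(2,3)` in the centralizer.
-/

set_option autoImplicit false
set_option maxRecDepth 100000

namespace CfsgLib.SuzThree

open CfsgLib.SuzType CfsgLib.Extraspecial
open CfsgLib.UFourType (SL23 sI sU sZ sl_gen sl_z)

variable {G : Type*} [Group G] [Finite G] {z : G} {Q : Subgroup G}

/-- the generators -/
structure GD (z : G) (Q : Subgroup G) (v : G → V6) (y : G) (α β : SL23 →* G) : Prop where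
  yd : YD z Q v y
  ai : α sI ∈ Qy Q y
  bi : β sI ∈ Qy Q y
  au : α sU ∈ Cz z y
  bu : β sU ∈ Cz z y
  av : v (α sI) = 3
  bv : v (β sI) = 12
  aa : Act Q v (α sU) L2
  ba : Act Q v (β sU) L3
  az : α sZ = z
  bz : β sZ = z
  comm : ∀ p q, Commute (α p) (β q)

theorem plane_facts : (3 : V6).1 < 16 ∧ (12 : V6).1 < 16 ∧ qf 3 = true ∧ qf 12 = true ∧
    app L2 3 = 13 ∧ app L2 13 = 14 ∧ xr 13 3 = 14 ∧ bf 3 13 = true ∧
    app L3 12 = 7 ∧ app L3 7 = 11 ∧ xr 7 12 = 11 ∧ bf 12 7 = true ∧ bf 3 12 = false ∧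
    app L2 12 = 12 ∧ app L3 3 = 3 := by decide +kernel

namespace YD

variable {v : G → V6} {y : G} (D : YD z Q v y)
include D

/-- a lift of order three -/
theorem cube_lift {c : G} {L : Lin} (hc : c * z = z * c) (hL : Act Q v c L) (h3 : comp L (comp L L) = L1) :
    c ^ 4 * z = z * c ^ 4 ∧ c ^ 4 * c ^ 4 * c ^ 4 = 1 ∧ Act Q v (c ^ 4) L := by
  have hc2 : c * c * z = z * (c * c) := ((show Commute c z from hc).mul_left hc).eq
  have hc3 : c * (c * c) * z = z * (c * (c * c)) := ((show Commute c z from hc).mul_left hc2).eq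
  have hq : c * (c * c) ∈ Q := act_mem D.co hc3 (h3 ▸ act_mul D.co hc2 hL (act_mul D.co hc hL hL))
  refine ⟨((show Commute c z from hc).pow_left 4).eq, ?_, fun a ha => ?_⟩
  · have h := pow_four D.co hq
    rw [← pow_add, ← pow_add]
    simpa only [← pow_two, ← pow_succ', ← pow_succ, ← pow_add, ← pow_mul, Nat.reduceAdd, Nat.reduceMul] using h
  · rw [show c ^ 4 * a * (c ^ 4)⁻¹ = c * (c * c) * (c * a * c⁻¹) * (c * (c * c))⁻¹ by
      simp only [pow_succ, pow_zero, one_mul]; group, D.co.v_inner hq (D.co.conj_mem hc ha), hL a ha]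

theorem exists_pair23 : ∃ u w : G, u ∈ Cz z y ∧ w ∈ Cz z y ∧ u * u * u = 1 ∧ w * w * w = 1 ∧
    Commute u w ∧ Act Q v u L2 ∧ Act Q v w L3 := by
  obtain ⟨r1, r2, r3, -, r5, r6, -⟩ := base_rels
  obtain ⟨c, hc, hcy, hcv⟩ := D.exists_cent base_good.2.1 (rel_eq r1)
  obtain ⟨huz, hu3, huA⟩ := D.cube_lift hc hcv (rel_eq r5)
  set u := c ^ 4 with hu
  have huy : Commute u y := hcy.pow_left 4
  obtain ⟨d, hd, hdy, hdv⟩ := D.exists_cent base_good.2.2.1 (rel_eq r2)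
  have hxz : d * u * d⁻¹ * z = z * (d * u * d⁻¹) :=
    (((show Commute d z from hd).mul_left huz).mul_left (show Commute d z from hd).inv_left).eq
  have hxy : Commute (d * u * d⁻¹) y := (hdy.mul_left huy).mul_left hdy.inv_left
  have hxA := act_conj D.co hd huz base_good.2.2.1 hdv huA (rel_eq r3)
  obtain ⟨hq, p, hp, hpu, hpv⟩ := conj_unique D.co huz hxz hu3
    (by rw [show d * u * d⁻¹ * (d * u * d⁻¹) * (d * u * d⁻¹) = d * (u * u * u) * d⁻¹ by group, hu3]; group)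
    huA hxA
  have hpQ : p ∈ Qy Q y := by
    refine D.mem_Qy.mpr ⟨hp, ?_⟩
    rw [hpv]
    refine (L0_facts.1 _).mp ?_
    have e := congrArg (fun M => app M (v (d * u * d⁻¹ * u⁻¹))) (rel_eq r1)
    simp only [app_comp] at e
    rw [← e, (L0_facts.1 _).mpr ((D.commute_iff hq).mp (hxy.mul_left huy.inv_left).symm)]
  obtain ⟨hpz, hpy⟩ := mem_Cz.mp (inv_mem (D.Qy_le hpQ))
  have hez : p⁻¹ * d * z = z * (p⁻¹ * d) := ((show Commute p⁻¹ z from hpz).mul_left hd).eq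
  have heA : Act Q v (p⁻¹ * d) L3 := fun a ha => by
    rw [show p⁻¹ * d * a * (p⁻¹ * d)⁻¹ = p⁻¹ * (d * a * d⁻¹) * p⁻¹⁻¹ by group,
      D.co.v_inner (inv_mem hp) (D.co.conj_mem hd ha), hdv a ha]
  have hey : Commute (p⁻¹ * d) y := hpy.mul_left hdy
  have heu : Commute (p⁻¹ * d) u := commute_of_conj_eq (by
    rw [show p⁻¹ * d * u * (p⁻¹ * d)⁻¹ = p⁻¹ * (d * u * d⁻¹) * p by group, ← hpu]; group)
  obtain ⟨hwz, hw3, hwA⟩ := D.cube_lift hez heA (rel_eq r6)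
  exact ⟨u, (p⁻¹ * d) ^ 4, mem_Cz.mpr ⟨huz, huy⟩, mem_Cz.mpr ⟨hwz, hey.pow_left 4⟩, hu3, hw3,
    (heu.pow_left 4).symm, huA, hwA⟩

/-- a generator of order four with the prescribed relations -/
theorem exists_i {u : G} (hu : u ∈ Cz z y) {L : Lin} (hL : Act Q v u L) {a b c : V6}
    (ha : a.1 < 16) (hq : qf a = true) (e1 : app L a = b) (e2 : app L b = c) (e3 : xr b a = c) (hab : bf a b = true) :
    ∃ i ∈ Qy Q y, v i = a ∧ i * i = z ∧ u * (u * i * u⁻¹) * u⁻¹ = u * i * u⁻¹ * i ∧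
      i * (u * i * u⁻¹) = z * (u * i * u⁻¹ * i) := by
  obtain ⟨huz, -⟩ := mem_Cz.mp hu
  obtain ⟨i, hi, hiv⟩ := D.co.surj a
  have base : ∀ i ∈ Q, v i = a → i * i = z ∧ i * (u * i * u⁻¹) = z * (u * i * u⁻¹ * i) := by
    intro i hi hiv
    have hj := D.co.conj_mem huz hi
    constructor
    · refine (D.co.st.sq_cases hi).resolve_left fun h => ?_
      have := D.co.singular hi h
      rw [hiv, hq] at this
      exact absurd this (by decide)
    · rcases D.co.st.comm_cases hi hj with h | h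
      · exfalso
        have h' := (D.co.comm _ hi _ hj).mpr (mul_inv_eq_iff_eq_mul.mp h)
        rw [hiv, hL _ hi, hiv, e1, hab] at h'
        exact absurd h' (by decide)
      · rw [mul_inv_eq_iff_eq_mul] at h
        rw [h, mul_assoc]
  have hj := D.co.conj_mem huz hi
  have hk := D.co.conj_mem huz hj
  have hkv : v (u * (u * i * u⁻¹) * u⁻¹) = v (u * i * u⁻¹ * i) := by
    rw [hL _ hj, hL _ hi, hiv, e1, e2, D.co.mul _ hj _ hi, hL _ hi, hiv, e1, e3]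
  have hzQ := D.co.z_mem
  rcases D.co.eq_or hk (mul_mem hj hi) hkv with e | e
  · exact ⟨i, D.mem_Qy.mpr ⟨hi, hiv.symm ▸ ha⟩, hiv, (base i hi hiv).1, e, (base i hi hiv).2⟩
  · have hvz : v (z * i) = a := by rw [D.co.mul _ hzQ _ hi, D.co.v_z, zero_xr, hiv]
    refine ⟨z * i, D.mem_Qy.mpr ⟨mul_mem hzQ hi, hvz.symm ▸ ha⟩, hvz, (base _ (mul_mem hzQ hi) hvz).1, ?_,
      (base _ (mul_mem hzQ hi) hvz).2⟩
    have hz' : u * z * u⁻¹ = z := by rw [huz, mul_inv_cancel_right]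
    have ej : u * (z * i) * u⁻¹ = z * (u * i * u⁻¹) := by
      rw [show u * (z * i) * u⁻¹ = u * z * u⁻¹ * (u * i * u⁻¹) by group, hz']
    have ek : u * (z * (u * i * u⁻¹)) * u⁻¹ = z * (u * (u * i * u⁻¹) * u⁻¹) := by
      rw [show u * (z * (u * i * u⁻¹)) * u⁻¹ = u * z * u⁻¹ * (u * (u * i * u⁻¹) * u⁻¹) by group, hz']
    rw [ej, ek, e, mul_assoc z (u * i * u⁻¹) (z * i), ← mul_assoc (u * i * u⁻¹) z i,
      D.co.commute_z hj, mul_assoc z]

theorem exists_gd : ∃ α β : SL23 →* G, GD z Q v y α β := by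
  obtain ⟨u, w, hu, hw, hu3, hw3, huw, huA, hwA⟩ := D.exists_pair23
  obtain ⟨k3, k12, q3, q12, a1, a2, a3, a4, b1, b2, b3, b4, f0, f2, f3⟩ := plane_facts
  obtain ⟨i, hi, hiv, hii, hik, hic⟩ := D.exists_i hu huA k3 q3 a1 a2 a3 a4
  obtain ⟨j, hj, hjv, hjj, hjk, hjc⟩ := D.exists_i hw hwA k12 q12 b1 b2 b3 b4
  obtain ⟨huz, huy⟩ := mem_Cz.mp hu
  obtain ⟨hwz, hwy⟩ := mem_Cz.mp hw
  obtain ⟨α, hαi, hαu⟩ := exists_sl_hom hii D.co.st.zz hu3 huz hik hic
  obtain ⟨β, hβi, hβu⟩ := exists_sl_hom hjj D.co.st.zz hw3 hwz hjk hjc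
  have cij : Commute i j := (D.co.comm _ hi.1 _ hj.1).mp (by rw [hiv, hjv, f0])
  have cuj : Commute u j := fix_of D.co hu3 huz huA hj.1 (by rw [hjv, f2])
  have cwi : Commute w i := fix_of D.co hw3 hwz hwA hi.1 (by rw [hiv, f3])
  have gen : ∀ (γ : SL23 →* G) (x : G), Commute (γ sI) x → Commute (γ sU) x → ∀ p, Commute (γ p) x := by
    intro γ x h1 h2 p
    obtain ⟨a, b, c, d, rfl⟩ := sl_gen p
    simp only [map_mul, map_pow, map_inv]
    exact (((h2.pow_left _).mul_left (((h1.mul_left h2).mul_left h1.inv_left).pow_left _)).mul_left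
      (h2.pow_left _)).mul_left (((h1.mul_left h2).mul_left h1.inv_left).pow_left _)
  refine ⟨α, β, D, hαi.symm ▸ hi, hβi.symm ▸ hj, hαu.symm ▸ hu, hβu.symm ▸ hw, by rw [hαi, hiv], by rw [hβi, hjv],
    hαu.symm ▸ huA, hβu.symm ▸ hwA, ?_, ?_, fun p q => ?_⟩
  · rw [← sl_z.1, map_mul, hαi, hii]
  · rw [← sl_z.1, map_mul, hβi, hjj]
  · refine gen α (β q) ?_ ?_ p
    · exact (gen β _ (by rw [hαi, hβi]; exact cij.symm) (by rw [hαi, hβu]; exact cwi) q).symm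
    · exact (gen β _ (by rw [hαu, hβi]; exact cuj.symm) (by rw [hαu, hβu]; exact huw.symm) q).symm

end YD

end CfsgLib.SuzThree
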