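import Cfsg.Agent.Lib.SuzThree.Gens
import Cfsg.Agent.Lib.SuzThree.Move

/-!
The product of the two copies.
-/

set_option autoImplicit false
set_option maxRecDepth 100000

namespace CfsgLib.SuzThree

open CfsgLib.SuzType CfsgLib.Extraspecial
open CfsgLib.UFourType (SL23 sI sU sZ sl_gen sl_z)

theorem pp_closed : pp.all (fun P => pp.all fun P' => pp.any fun R => eqL (comp P P') R) = true ∧
    pp.any (eqL L1) = true ∧ pp.any (eqL L2) = true ∧ pp.any (eqL L3) = true ∧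
    pp.all (fun P => eqL (comp P (comp P P)) L1) = true := by decide +kernel

theorem low_split : ∀ w : V6, w.1 < 16 → ∃ b1 b2 b3 b4 : Bool,
    w = xr (xr (sel b1 3) (sel b2 13)) (xr (sel b3 12) (sel b4 7)) := by decide +kernel

theorem fix_perp : ∀ w : V6, w.1 < 16 → (∀ x : V6, x.1 < 16 → bf w x = false) → w = 0 := by decide +kernel

theorem sl_center : (∀ p : SL23, (∀ q, p * q = q * p) → p = 1 ∨ p = sZ) ∧
    (∀ p : SL23, p ≠ 1 → p = sZ ∨ p * p = sZ ∨ p * p * p = sZ ∨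
      ∃ q, (p * q * p⁻¹ * q⁻¹) * (p * q * p⁻¹ * q⁻¹) = sZ) := by decide +kernel

variable {G : Type*} [Group G] [Finite G] {z y : G} {Q : Subgroup G} {v : G → V6} {α β : SL23 →* G}

/-- membership predicate of the product -/
def InPP (Q : Subgroup G) (v : G → V6) (z y k : G) : Prop := k ∈ Cz z y ∧ ∃ P ∈ pp, Act Q v k P

namespace GD

variable (D : GD z Q v y α β)
include D

theorem inPP_mul {k l : G} (hk : InPP Q v z y k) (hl : InPP Q v z y l) : InPP Q v z y (k * l) := by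
  obtain ⟨hkC, P, hP, hkP⟩ := hk
  obtain ⟨hlC, P', hP', hlP⟩ := hl
  have h := pp_closed.1
  simp only [List.all_eq_true, List.any_eq_true] at h
  obtain ⟨R, hR, e⟩ := h P hP P' hP'
  exact ⟨mul_mem hkC hlC, R, hR, rel_eq e ▸ act_mul D.yd.co (mem_Cz.mp hlC).1 hkP hlP⟩

theorem inPP_Qy {q : G} (hq : q ∈ Qy Q y) : InPP Q v z y q := by
  have h := pp_closed.2.1
  simp only [List.any_eq_true] at h
  obtain ⟨R, hR, e⟩ := h
  exact ⟨D.yd.Qy_le hq, L1, rel_eq e ▸ hR, act_inner D.yd.co hq.1⟩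

theorem inPP_inv {k : G} (hk : InPP Q v z y k) : InPP Q v z y k⁻¹ := by
  obtain ⟨hkC, P, hP, hkP⟩ := hk
  have hz := (mem_Cz.mp hkC).1
  have h := pp_closed.2.2.2.2
  simp only [List.all_eq_true] at h
  have hkk : k * k * z = z * (k * k) := ((show Commute k z from hz).mul_left hz).eq
  have h3 : InPP Q v z y (k * (k * k))⁻¹ :=
    D.inPP_Qy (inv_mem ⟨act_mem D.yd.co (((show Commute k z from hz).mul_left hkk).eq)
      (rel_eq (h P hP) ▸ act_mul D.yd.co hkk hkP (act_mul D.yd.co hz hkP hkP)),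
      Subgroup.mem_centralizer_singleton_iff.mpr (((mem_Cz.mp hkC).2.mul_left ((mem_Cz.mp hkC).2.mul_left (mem_Cz.mp hkC).2))).eq⟩)
  have := D.inPP_mul h3 (D.inPP_mul ⟨hkC, P, hP, hkP⟩ ⟨hkC, P, hP, hkP⟩)
  rwa [show (k * (k * k))⁻¹ * (k * k) = k⁻¹ by group] at this

/-- the set as a subgroup -/
def kk : Subgroup G where
  carrier := {k | InPP Q v z y k}
  mul_mem' := D.inPP_mul
  one_mem' := D.inPP_Qy (one_mem _)
  inv_mem' := D.inPP_inv

theorem gen_le : α.range ⊔ β.range ≤ D.kk := by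
  have h := pp_closed
  simp only [List.any_eq_true] at h
  obtain ⟨-, -, ⟨P2, hP2, e2⟩, ⟨P3, hP3, e3⟩, -⟩ := h
  have one : ∀ γ : SL23 →* G, InPP Q v z y (γ sI) → InPP Q v z y (γ sU) → γ.range ≤ D.kk := by
    rintro γ h1 h2 _ ⟨p, rfl⟩
    obtain ⟨a, b, c, d, rfl⟩ := sl_gen p
    have m1 : γ sI ∈ D.kk := h1
    have m2 : γ sU ∈ D.kk := h2
    simp only [map_mul, map_pow, map_inv]
    exact mul_mem (mul_mem (mul_mem (pow_mem m2 _) (pow_mem (mul_mem (mul_mem m1 m2) (inv_mem m1)) _))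
      (pow_mem m2 _)) (pow_mem (mul_mem (mul_mem m1 m2) (inv_mem m1)) _)
  exact sup_le (one α (D.inPP_Qy D.ai) ⟨D.au, L2, rel_eq e2 ▸ hP2, D.aa⟩)
    (one β (D.inPP_Qy D.bi) ⟨D.bu, L3, rel_eq e3 ▸ hP3, D.ba⟩)

theorem Qy_le_K : Qy Q y ≤ α.range ⊔ β.range := by
  intro a ha
  obtain ⟨haQ, hlt⟩ := D.yd.mem_Qy.mp ha
  obtain ⟨b1, b2, b3, b4, e⟩ := low_split _ hlt
  have huz := (mem_Cz.mp D.au).1
  have hwz := (mem_Cz.mp D.bu).1
  obtain ⟨-, -, -, -, a1, -, -, -, b1', -⟩ := plane_facts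
  let pk : Bool → G → G := fun b x => if b then x else 1
  have hmem : ∀ {b x}, x ∈ α.range ⊔ β.range → pk b x ∈ α.range ⊔ β.range := fun {b x} h => by
    cases b
    · exact one_mem _
    · exact h
  have hQ : ∀ {b x}, x ∈ Q → pk b x ∈ Q := fun {b x} h => by
    cases b
    · exact one_mem _
    · exact h
  have hv : ∀ {b x}, v (pk b x) = sel b (v x) := fun {b x} => by
    cases b
    · exact D.yd.co.v_one
    · rfl
  have i1 := D.ai.1
  have i2 := D.yd.co.conj_mem huz i1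
  have i3 := D.bi.1
  have i4 := D.yd.co.conj_mem hwz i3
  set k := pk b1 (α sI) * pk b2 (α sU * α sI * (α sU)⁻¹) * (pk b3 (β sI) * pk b4 (β sU * β sI * (β sU)⁻¹)) with hk
  have mA : ∀ p, α p ∈ α.range ⊔ β.range := fun p => Subgroup.mem_sup_left ⟨p, rfl⟩
  have mB : ∀ p, β p ∈ α.range ⊔ β.range := fun p => Subgroup.mem_sup_right ⟨p, rfl⟩
  have hkK : k ∈ α.range ⊔ β.range := mul_mem (mul_mem (hmem (mA _)) (hmem (mul_mem (mul_mem (mA _) (mA _)) (inv_mem (mA _)))))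
    (mul_mem (hmem (mB _)) (hmem (mul_mem (mul_mem (mB _) (mB _)) (inv_mem (mB _)))))
  have hkv : v k = v a := by
    rw [hk, D.yd.co.mul _ (mul_mem (hQ i1) (hQ i2)) _ (mul_mem (hQ i3) (hQ i4)), D.yd.co.mul _ (hQ i1) _ (hQ i2),
      D.yd.co.mul _ (hQ i3) _ (hQ i4), hv, hv, hv, hv, D.aa _ i1, D.ba _ i3, D.av, D.bv, a1, b1', ← e]
  rcases D.yd.co.eq_or haQ (mul_mem (mul_mem (hQ i1) (hQ i2)) (mul_mem (hQ i3) (hQ i4))) hkv.symm with h | h
  · rw [h]; exact hkK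
  · rw [h]
    exact mul_mem (D.az ▸ mA sZ) hkK

theorem mem_K_iff {l : G} : l ∈ α.range ⊔ β.range ↔ InPP Q v z y l := by
  refine ⟨fun h => D.gen_le h, fun h => ?_⟩
  obtain ⟨hlC, P, hP, hlP⟩ := h
  have mA : α sU ∈ α.range ⊔ β.range := Subgroup.mem_sup_left ⟨sU, rfl⟩
  have mB : β sU ∈ α.range ⊔ β.range := Subgroup.mem_sup_right ⟨sU, rfl⟩
  have hu := (mem_Cz.mp D.au).1
  have hw := (mem_Cz.mp D.bu).1
  have hu2 : α sU * α sU * z = z * (α sU * α sU) := ((show Commute _ z from hu).mul_left hu).eq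
  have hw2 : β sU * β sU * z = z * (β sU * β sU) := ((show Commute _ z from hw).mul_left hw).eq
  have H := D.yd.co
  obtain ⟨k, hkK, hkP⟩ : ∃ k ∈ α.range ⊔ β.range, Act Q v k P := by
    simp only [pp, List.mem_cons, List.not_mem_nil, or_false] at hP
    rcases hP with rfl | rfl | rfl | rfl | rfl | rfl | rfl | rfl | rfl
    · exact ⟨1, one_mem _, act_inner H (one_mem Q)⟩
    · exact ⟨_, mA, D.aa⟩
    · exact ⟨_, mul_mem mA mA, act_mul H hu D.aa D.aa⟩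
    · exact ⟨_, mB, D.ba⟩
    · exact ⟨_, mul_mem mA mB, act_mul H hw D.aa D.ba⟩
    · exact ⟨_, mul_mem (mul_mem mA mA) mB, act_mul H hw (act_mul H hu D.aa D.aa) D.ba⟩
    · exact ⟨_, mul_mem mB mB, act_mul H hw D.ba D.ba⟩
    · exact ⟨_, mul_mem mA (mul_mem mB mB), act_mul H hw2 D.aa (act_mul H hw D.ba D.ba)⟩
    · exact ⟨_, mul_mem (mul_mem mA mA) (mul_mem mB mB), act_mul H hw2 (act_mul H hu D.aa D.aa) (act_mul H hw D.ba D.ba)⟩
  obtain ⟨hkC, -⟩ := D.gen_le hkK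
  obtain ⟨hkz, hky⟩ := mem_Cz.mp hkC
  obtain ⟨hlz, hly⟩ := mem_Cz.mp hlC
  have hki : k⁻¹ * z = z * k⁻¹ := (show Commute k z from hkz).inv_left.eq
  obtain ⟨M, -, hM⟩ := act_exists H hki
  have h1 := act_mul H hki hkP hM
  rw [mul_inv_cancel] at h1
  have h2 := act_mul H hki hlP hM
  rw [act_unique H h1 (act_inner H (one_mem Q))] at h2
  have hq : l * k⁻¹ ∈ Qy Q y :=
    ⟨act_mem H (((show Commute l z from hlz).mul_left hki).eq) h2,
      Subgroup.mem_centralizer_singleton_iff.mpr (hly.mul_left hky.inv_left).eq⟩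
  simpa using mul_mem (D.Qy_le_K hq) hkK

theorem K_normal {c k : G} (hc : c ∈ Cz z y) (hk : k ∈ α.range ⊔ β.range) : c * k * c⁻¹ ∈ α.range ⊔ β.range := by
  rw [D.mem_K_iff] at hk ⊢
  obtain ⟨hkC, P, hP, hkP⟩ := hk
  obtain ⟨hcz, hcy⟩ := mem_Cz.mp hc
  obtain ⟨L, hLg, hL⟩ := act_exists D.yd.co hcz
  have h := cent_normal
  simp only [List.all_eq_true, List.any_eq_true] at h
  obtain ⟨P', hP', e⟩ := h L (D.yd.act_cent hcz hcy hLg hL) P hP
  exact ⟨mul_mem (mul_mem hc hkC) (inv_mem hc), P', hP',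
    act_conj D.yd.co hcz (mem_Cz.mp hkC).1 hLg hL hkP (rel_eq e)⟩

theorem K_meet_y {n : G} (hn : n ∈ Subgroup.zpowers y) (hK : n ∈ α.range ⊔ β.range) : n = 1 := by
  obtain ⟨-, P, hP, hnP⟩ := D.mem_K_iff.mp hK
  have h := pp_meet
  simp only [List.all_eq_true, Bool.not_eq_true', Bool.or_eq_false_iff] at h
  obtain ⟨h0, h00⟩ := h P hP
  have y3 : y ^ 3 = 1 := by rw [pow_succ, pow_two, D.yd.cube]
  obtain ⟨m, rfl⟩ := Subgroup.mem_zpowers_iff.mp hn
  obtain ⟨j, hj, hjm⟩ : ∃ j < 3, y ^ m = y ^ j := ⟨(m % 3).toNat, by omega, by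
    rw [← zpow_natCast, Int.toNat_of_nonneg (Int.emod_nonneg _ (by norm_num)), zpow_eq_zpow_emod' m y3]; rfl⟩
  rw [hjm] at hnP ⊢
  interval_cases j
  · exact pow_zero y
  · rw [pow_one] at hnP
    rw [act_unique D.yd.co hnP D.yd.act] at h0
    exact absurd h0 (by decide)
  · rw [pow_two] at hnP
    rw [act_unique D.yd.co hnP (act_mul D.yd.co D.yd.yz D.yd.act D.yd.act)] at h00
    exact absurd h00 (by decide)

theorem inj_of {γ : SL23 →* G} (hz : γ sZ = z) : Function.Injective γ := by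
  rw [injective_iff_map_eq_one]
  intro p hp
  by_contra h
  have hz1 := D.yd.co.st.ne_one
  rw [← hz] at hz1
  rcases sl_center.2 p h with e | e | e | ⟨q, e⟩ <;> refine hz1 ?_ <;> rw [← e]
  · exact hp
  · simp [hp]
  · simp [hp]
  · simp [hp]

theorem eq_of_meet {p q : SL23} (e : α p = β q) : p = 1 ∨ p = sZ :=
  sl_center.1 p fun r => D.inj_of D.az (by
    rw [map_mul, map_mul, e]; exact (D.comm r q).eq.symm)

end GD

end CfsgLib.SuzThree
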