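import Cfsg.Agent.Lib.SuzThree.Kgrp
import Cfsg.Agent.Lib.UFourType.Witness

/-!
The centralizer modulo the element of order three satisfies the hypotheses of type `U(4,3)`.
-/

set_option autoImplicit false
set_option maxRecDepth 100000
set_option linter.style.haveILetI false

namespace CfsgLib.SuzThree

open CfsgLib.SuzType CfsgLib.Extraspecial CfsgLib.Extraspecial.Pair
open CfsgLib.UFourType (SL23 sI sU sZ Hyp)

theorem fix_units : (∀ x ∈ ([1, 2, 4, 8] : List V6), x.1 < 16) ∧ (1 : V6).1 < 16 := by decide +kernel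

variable {G : Type*} [Group G] [Finite G] {z y : G} {Q : Subgroup G} {v : G → V6}

theorem GD.hyp {α β : SL23 →* G} (D : GD z Q v y α β) {B : Subgroup G} (hB : B = Subgroup.zpowers y)
    [(B.subgroupOf (Subgroup.centralizer (B : Set G))).Normal] :
    ∃ (αq βq : SL23 →* ↥(Subgroup.centralizer (B : Set G)) ⧸ B.subgroupOf (Subgroup.centralizer (B : Set G)))
      (zb : ↥(Subgroup.centralizer (B : Set G)) ⧸ B.subgroupOf (Subgroup.centralizer (B : Set G))) (Qb : Subgroup _)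
      (h : α sU ∈ Subgroup.centralizer (B : Set G)) (h' : β sU ∈ Subgroup.centralizer (B : Set G))
      (h'' : z ∈ Subgroup.centralizer (B : Set G)),
      αq sU = QuotientGroup.mk' _ ⟨α sU, h⟩ ∧ βq sU = QuotientGroup.mk' _ ⟨β sU, h'⟩ ∧
        zb = QuotientGroup.mk' _ ⟨z, h''⟩ ∧ Hyp zb αq βq Qb := by
  classical
  haveI : Fact (Nat.Prime 2) := ⟨Nat.prime_two⟩
  have H := D.yd.co
  have y3 : y ^ 3 = 1 := by rw [pow_succ, pow_two, D.yd.cube]
  set C := Subgroup.centralizer (B : Set G) with hC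
  have memC : ∀ g, g ∈ C ↔ Commute g y := by
    intro g
    rw [hC, hB, Subgroup.zpowers_eq_closure, Subgroup.centralizer_closure,
      Subgroup.mem_centralizer_singleton_iff]
    rfl
  set N := B.subgroupOf C with hN
  set mk : ↥C →* ↥C ⧸ N := QuotientGroup.mk' N with hmkdef
  have hmk : ∀ a b : ↥C, mk a = mk b → ∃ n ∈ B, (b : G) = a * n := fun a b h =>
    ⟨(a : G)⁻¹ * b, (QuotientGroup.eq.mp h : a⁻¹ * b ∈ N), (mul_inv_cancel_left _ _).symm⟩
  have hmk1 : ∀ a : ↥C, mk a = 1 ↔ (a : G) ∈ B := fun a => QuotientGroup.eq_one_iff a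
  have hB3 : ∀ n ∈ B, n ^ 3 = 1 := by
    intro n hn
    rw [hB] at hn
    obtain ⟨m, rfl⟩ := Subgroup.mem_zpowers_iff.mp hn
    rw [← zpow_natCast, _root_.zpow_comm, zpow_natCast, y3, one_zpow]
  have hB2 : ∀ n ∈ B, n * n = 1 → n = 1 := fun n hn h => by
    have h3 := hB3 n hn
    rwa [pow_succ, pow_two, h, one_mul] at h3
  have hBQ : ∀ n ∈ B, n ∈ Q → n = 1 := fun n hn hq => by
    have h4 := pow_four H hq
    rw [← mul_assoc (n * n) n n, ← pow_two n, ← pow_succ n, hB3 n hn, one_mul] at h4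
    exact h4
  have hBz : ∀ n ∈ B, n * z = z * n := fun n hn => by
    rw [hB] at hn
    obtain ⟨m, rfl⟩ := Subgroup.mem_zpowers_iff.mp hn
    exact ((show Commute y z from D.yd.yz).zpow_left m).eq
  have hBC : B ≤ C := fun n hn => (memC n).mpr (by
    rw [hB] at hn
    obtain ⟨m, rfl⟩ := Subgroup.mem_zpowers_iff.mp hn
    exact (Commute.refl y).zpow_left m)
  have hCz : ∀ {g}, g ∈ Cz z y → g ∈ C := fun h => (memC _).mpr (mem_Cz.mp h).2
  have hzC : z ∈ C := hCz (D.yd.Qy_le D.yd.z_mem)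
  set zb := mk ⟨z, hzC⟩ with hzb
  have hKC : ∀ {g}, g ∈ α.range ⊔ β.range → g ∈ C := fun h => hCz (D.mem_K_iff.mp h).1
  let αq : SL23 →* ↥C ⧸ N := mk.comp (α.codRestrict C fun p => hKC (Subgroup.mem_sup_left ⟨p, rfl⟩))
  let βq : SL23 →* ↥C ⧸ N := mk.comp (β.codRestrict C fun p => hKC (Subgroup.mem_sup_right ⟨p, rfl⟩))
  let Qb : Subgroup (↥C ⧸ N) := ((Qy Q y).subgroupOf C).map mk
  have hKK : ∀ {a b : G}, a ∈ α.range ⊔ β.range → b ∈ α.range ⊔ β.range → ∀ n ∈ B, b = a * n → b = a := by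
    intro a b ha hb n hn e
    have : n = 1 := D.K_meet_y (hB ▸ hn) (by
      rw [show n = a⁻¹ * b by rw [e, inv_mul_cancel_left]]; exact mul_mem (inv_mem ha) hb)
    rw [e, this, mul_one]
  have hαle : ∀ p, α p ∈ α.range ⊔ β.range := fun p => Subgroup.mem_sup_left ⟨p, rfl⟩
  have hβle : ∀ p, β p ∈ α.range ⊔ β.range := fun p => Subgroup.mem_sup_right ⟨p, rfl⟩
  have hsup : αq.range ⊔ βq.range = ((α.range ⊔ β.range).subgroupOf C).map mk := by
    refine le_antisymm (sup_le ?_ ?_) ?_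
    · rintro _ ⟨p, rfl⟩; exact ⟨⟨α p, hKC (hαle p)⟩, hαle p, rfl⟩
    · rintro _ ⟨p, rfl⟩; exact ⟨⟨β p, hKC (hβle p)⟩, hβle p, rfl⟩
    · rintro _ ⟨⟨k, hkC⟩, hk, rfl⟩
      obtain ⟨p, q, e⟩ : ∃ p q, k = α p * β q := by
        have hk' : k ∈ α.range ⊔ β.range := hk
        rw [← MonoidHom.noncommCoprod_range α β (fun m n => D.comm m n)] at hk'
        obtain ⟨⟨p, q⟩, e⟩ := hk'
        exact ⟨p, q, e.symm⟩
      rw [show mk ⟨k, hkC⟩ = αq p * βq q by
        show _ = mk ⟨α p, _⟩ * mk ⟨β q, _⟩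
        rw [← map_mul]; exact congrArg mk (Subtype.ext e)]
      exact mul_mem (Subgroup.mem_sup_left ⟨p, rfl⟩) (Subgroup.mem_sup_right ⟨q, rfl⟩)
  have hαz : αq sZ = zb := congrArg mk (Subtype.ext D.az)
  have hβz : βq sZ = zb := congrArg mk (Subtype.ext D.bz)
  have hzord : orderOf zb = 2 := by
    refine orderOf_eq_prime ?_ fun h => H.st.ne_one (hBQ z ((hmk1 _).mp h) H.z_mem)
    rw [pow_two, hzb, ← map_mul, show (⟨z, hzC⟩ : ↥C) * ⟨z, hzC⟩ = 1 from Subtype.ext H.st.zz, map_one]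
  -- lifts
  have hlift : ∀ x ∈ Subgroup.centralizer ({zb} : Set (↥C ⧸ N)), ∃ l : ↥C, (l : G) ∈ Cz z y ∧ mk l = x := by
    intro x hx
    obtain ⟨h, rfl⟩ := QuotientGroup.mk'_surjective N x
    rw [Subgroup.mem_centralizer_singleton_iff, hzb] at hx
    change mk h * mk _ = mk _ * mk h at hx
    rw [← map_mul, ← map_mul] at hx
    obtain ⟨n, hn, e⟩ := hmk _ _ hx
    have e' : z * (h : G) = h * z * n := e
    have hnn : n = 1 := by
      refine hB2 n hn ?_
      have h2 : (h : G)⁻¹ * z * h = z * n := by rw [mul_assoc, e']; group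
      have h3 : (z * n) * (z * n) = 1 := by
        rw [← h2, show (h : G)⁻¹ * z * h * ((h : G)⁻¹ * z * h) = (h : G)⁻¹ * (z * z) * h by group, H.st.zz]
        group
      rwa [show z * n * (z * n) = z * (n * z) * n by group, hBz n hn, ← mul_assoc z z, H.st.zz, one_mul] at h3
    rw [hnn, mul_one] at e'
    exact ⟨h, mem_Cz.mpr ⟨e'.symm, (memC _).mp h.2⟩, rfl⟩
  have hdown : ∀ l : ↥C, (l : G) ∈ Cz z y → mk l ∈ Subgroup.centralizer ({zb} : Set (↥C ⧸ N)) := fun l hl => by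
    rw [Subgroup.mem_centralizer_singleton_iff, hzb, ← map_mul, ← map_mul]
    exact congrArg mk (Subtype.ext (mem_Cz.mp hl).1)
  have hle : αq.range ⊔ βq.range ≤ Subgroup.centralizer ({zb} : Set (↥C ⧸ N)) := by
    rw [hsup]
    rintro _ ⟨l, hl, rfl⟩
    exact hdown l (D.mem_K_iff.mp hl).1
  -- the order of the centralizer
  have hcardH : Nat.card (Subgroup.centralizer ({zb} : Set (↥C ⧸ N))) = 1152 := by
    let f : ↥(Cz z y) →* ↥C ⧸ N := mk.comp (Subgroup.inclusion (fun g hg => hCz hg))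
    have hr : f.range = Subgroup.centralizer ({zb} : Set (↥C ⧸ N)) := by
      refine le_antisymm ?_ fun x hx => ?_
      · rintro _ ⟨l, rfl⟩; exact hdown _ l.2
      · obtain ⟨l, hl, rfl⟩ := hlift x hx; exact ⟨⟨l, hl⟩, rfl⟩
    have hk : f.ker = B.subgroupOf (Cz z y) := by
      ext l; rw [MonoidHom.mem_ker, Subgroup.mem_subgroupOf]; exact hmk1 _
    have h1 := f.ker.card_mul_index
    rw [Subgroup.index_ker, hr, D.yd.card_Cz, hk, Nat.card_congr (Subgroup.subgroupOfEquivOfLe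
      (show B ≤ Cz z y from fun n hn => mem_Cz.mpr ⟨hBz n hn, (memC n).mp (hBC hn)⟩)).toEquiv, hB,
      Nat.card_zpowers, orderOf_eq_prime (hp := ⟨Nat.prime_three⟩) y3 D.yd.ne_one] at h1
    omega
  have hinjα : Function.Injective αq := by
    rw [injective_iff_map_eq_one]
    intro p hp
    refine D.inj_of D.az ?_
    rw [map_one]
    exact hKK (one_mem _) (hαle p) _ ((hmk1 _).mp hp) (one_mul _).symm
  have hinjβ : Function.Injective βq := by
    rw [injective_iff_map_eq_one]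
    intro p hp
    refine D.inj_of D.bz ?_
    rw [map_one]
    exact hKK (one_mem _) (hβle p) _ ((hmk1 _).mp hp) (one_mul _).symm
  have hcomm : ∀ p q, αq p * βq q = βq q * αq p := fun p q => by
    show mk _ * mk _ = mk _ * mk _
    rw [← map_mul, ← map_mul]
    exact congrArg mk (Subtype.ext (D.comm p q).eq)
  have hmeet : αq.range ⊓ βq.range = Subgroup.zpowers zb := by
    refine le_antisymm ?_ ((Subgroup.zpowers_le).mpr ⟨⟨sZ, hαz⟩, ⟨sZ, hβz⟩⟩)
    rintro x ⟨⟨p, rfl⟩, ⟨q, hq⟩⟩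
    obtain ⟨n, hn, e⟩ := hmk _ _ hq
    rcases D.eq_of_meet (hKK (hβle q) (hαle p) n hn e) with rfl | rfl
    · rw [map_one]; exact one_mem _
    · rw [hαz]; exact Subgroup.mem_zpowers _
  have hconj : ∀ (γ δ : SL23 →* ↥C ⧸ N), (∀ p q, γ p * δ q = δ q * γ p) →
      ∀ k ∈ γ.range ⊔ δ.range, ∀ x ∈ γ.range, k * x * k⁻¹ ∈ γ.range := by
    intro γ δ hc k hk x hx
    rw [← MonoidHom.noncommCoprod_range γ δ hc] at hk
    obtain ⟨⟨a, b⟩, rfl⟩ := hk
    obtain ⟨c, rfl⟩ := hx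
    refine ⟨a * c * a⁻¹, ?_⟩
    show γ (a * c * a⁻¹) = γ a * δ b * γ c * (γ a * δ b)⁻¹
    rw [map_mul, map_mul, map_inv, mul_inv_rev, mul_assoc (γ a) (δ b), ← hc c b]
    group
  have hQyC : Qy Q y ≤ C := fun a ha => hCz (D.yd.Qy_le ha)
  have hQinj : ∀ {a : ↥C} {b : ↥C}, (a : G) ∈ Q → (b : G) ∈ Q → mk a = mk b → (b : G) = a := by
    intro a b ha hb e
    obtain ⟨n, hn, he⟩ := hmk _ _ e
    rw [he, hBQ n hn (by rw [show n = (a : G)⁻¹ * b by rw [he, inv_mul_cancel_left]]; exact mul_mem (inv_mem ha) hb),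
      mul_one]
  have hQnormal : ∀ h ∈ Subgroup.centralizer ({zb} : Set (↥C ⧸ N)), ∀ q ∈ Qb, h * q * h⁻¹ ∈ Qb := by
    rintro h hh _ ⟨q, hq, rfl⟩
    obtain ⟨l, hl, rfl⟩ := hlift h hh
    refine ⟨l * q * l⁻¹, ⟨H.conj_mem (mem_Cz.mp hl).1 hq.1, ?_⟩, by rw [map_mul, map_mul, map_inv]⟩
    exact Subgroup.mem_centralizer_singleton_iff.mpr ((memC _).mp (l * q * l⁻¹).2).eq
  refine ⟨αq, βq, zb, Qb, hKC (hαle sU), hKC (hβle sU), hzC, rfl, rfl, rfl,
    { z_ord := hzord
      card_H := hcardH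
      α_inj := hinjα
      β_inj := hinjβ
      α_le := le_trans le_sup_left hle
      β_le := le_trans le_sup_right hle
      meet := hmeet
      α_normal := hconj αq βq hcomm
      β_normal := fun k hk => hconj βq αq (fun p q => (hcomm q p).symm) k (sup_comm αq.range βq.range ▸ hk)
      K_normal := ?_
      Q_le := ?_
      Q_normal := hQnormal
      Q_pgroup := ?_
      Q_max := ?_
      Q_cent := ?_
      moved := ?_
      meet_conj := ?_ }⟩
  · intro h hh k hk
    rw [hsup] at hk ⊢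
    obtain ⟨k', hk', rfl⟩ := hk
    obtain ⟨l, hl, rfl⟩ := hlift h hh
    exact ⟨l * k' * l⁻¹, D.K_normal hl hk', by rw [map_mul, map_mul, map_inv]⟩
  · rw [hsup]
    exact Subgroup.map_mono fun a ha => D.Qy_le_K ha
  · refine ((IsPGroup.of_card (p := 2) (n := 5) ?_).map _)
    rw [Nat.card_congr (Subgroup.subgroupOfEquivOfLe hQyC).toEquiv, D.yd.card_Qy]
    rfl
  · intro M hM hp _ x hx
    obtain ⟨⟨k, hkC⟩, hk, rfl⟩ := hsup ▸ hM hx
    obtain ⟨m, hm⟩ := hp ⟨_, hx⟩
    have hkm : k ^ 2 ^ m = 1 := by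
      have h1 : mk (⟨k, hkC⟩ ^ 2 ^ m) = 1 := by rw [map_pow]; exact congrArg Subtype.val hm
      exact D.K_meet_y (hB ▸ (hmk1 _).mp h1) (pow_mem (show k ∈ α.range ⊔ β.range from hk) _)
    obtain ⟨hkCz, P, hP, hkP⟩ := D.mem_K_iff.mp hk
    obtain ⟨hkz, hky⟩ := mem_Cz.mp hkCz
    have hkk : k * k * z = z * (k * k) := ((show Commute k z from hkz).mul_left hkz).eq
    have hpp := pp_closed.2.2.2.2
    simp only [List.all_eq_true] at hpp
    have hk3 : k * (k * k) ∈ Qy Q y :=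
      ⟨act_mem H (((show Commute k z from hkz).mul_left hkk).eq)
        (rel_eq (hpp P hP) ▸ act_mul H hkk hkP (act_mul H hkz hkP hkP)),
        Subgroup.mem_centralizer_singleton_iff.mpr (hky.mul_left (hky.mul_left hky)).eq⟩
    have hkQ : k ∈ Qy Q y := by
      have hcop : Nat.Coprime 3 (2 ^ m) := Nat.Coprime.pow_right m (by norm_num)
      have e : k = (k * (k * k)) ^ (Nat.gcdA 3 (2 ^ m) : ℤ) := by
        have hb : ((3 : ℕ) : ℤ) * Nat.gcdA 3 (2 ^ m) + ((2 ^ m : ℕ) : ℤ) * Nat.gcdB 3 (2 ^ m) = 1 := by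
          rw [← Nat.gcd_eq_gcd_ab, hcop.gcd_eq_one]; rfl
        conv_lhs => rw [← zpow_one k, ← hb, zpow_add, zpow_mul, zpow_mul, zpow_natCast, zpow_natCast, hkm, one_zpow, mul_one]
        rw [show k * (k * k) = k ^ 3 by rw [pow_succ, pow_two, mul_assoc]]
      rw [e]; exact zpow_mem hk3 _
    exact ⟨⟨k, hkC⟩, hkQ, rfl⟩
  · intro h hh hcq
    obtain ⟨l, hl, rfl⟩ := hlift h hh
    obtain ⟨hlz, hly⟩ := mem_Cz.mp hl
    have hlq : ∀ a ∈ Qy Q y, (l : G) * a * (l : G)⁻¹ = a := by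
      intro a ha
      have h1 := hcq _ ⟨⟨a, hQyC ha⟩, ha, rfl⟩
      rw [← map_mul, ← map_mul] at h1
      have h2 : mk (l * ⟨a, hQyC ha⟩ * l⁻¹) = mk ⟨a, hQyC ha⟩ := by
        rw [map_mul, map_mul, map_inv, ← map_mul, ← h1, map_mul, mul_inv_cancel_right]
      exact (hQinj (H.conj_mem hlz ha.1) ha.1 h2).symm
    obtain ⟨L, hLg, hL⟩ := act_exists H hlz
    have hfix : ∀ w : V6, w.1 < 16 → app L w = w := fun w hw => by
      obtain ⟨a, ha, rfl⟩ := H.surj w
      rw [← hL a ha, hlq a (D.yd.mem_Qy.mpr ⟨ha, hw⟩)]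
    have hcent := cent_fixing
    simp only [List.all_eq_true, Bool.or_eq_true, Bool.not_eq_true', Bool.and_eq_false_iff, beq_eq_false_iff_ne] at hcent
    obtain ⟨u1, u2, u3, -, -⟩ := app_units L
    obtain ⟨n, hn, hnL⟩ : ∃ n ∈ B, Act Q v n L := by
      have hyB : y ∈ B := hB ▸ Subgroup.mem_zpowers y
      rcases hcent L (D.yd.act_cent hlz hly hLg hL) with ((h | h) | h) | h
      · exfalso
        rcases h with ((h | h) | h) | h <;> refine h ?_
        · rw [← app_one]; exact hfix 1 (by decide)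
        · rw [← u1]; exact hfix 2 (by decide)
        · rw [← u2]; exact hfix 4 (by decide)
        · rw [← u3]; exact hfix 8 (by decide)
      · exact ⟨1, one_mem _, (rel_eq h).symm ▸ act_inner H (one_mem Q)⟩
      · exact ⟨y, hyB, (rel_eq h).symm ▸ D.yd.act⟩
      · exact ⟨y * y, mul_mem hyB hyB, (rel_eq h).symm ▸ act_mul H D.yd.yz D.yd.act D.yd.act⟩
    have hnz := hBz n hn
    have hny := (memC n).mp (hBC hn)
    have hni : n⁻¹ * z = z * n⁻¹ := (show Commute n z from hnz).inv_left.eq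
    obtain ⟨M, -, hM⟩ := act_exists H hni
    have h1 := act_mul H hni hnL hM
    rw [mul_inv_cancel] at h1
    have h2 := act_mul H hni hL hM
    rw [act_unique H h1 (act_inner H (one_mem Q))] at h2
    have hq' : (l : G) * n⁻¹ ∈ Qy Q y :=
      ⟨act_mem H (((show Commute (l : G) z from hlz).mul_left hni).eq) h2,
        Subgroup.mem_centralizer_singleton_iff.mpr (hly.mul_left hny.inv_left).eq⟩
    have hv0 : v ((l : G) * n⁻¹) = 0 := by
      refine fix_perp _ (D.yd.mem_Qy.mp hq').2 fun x hx => ?_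
      obtain ⟨a, ha, rfl⟩ := H.surj x
      refine (H.comm _ hq'.1 _ ha).mpr ?_
      have c1 : Commute (l : G) a := commute_of_conj_eq (hlq a (D.yd.mem_Qy.mpr ⟨ha, hx⟩))
      have c2 : Commute n a := by
        rw [hB] at hn
        obtain ⟨m, rfl⟩ := Subgroup.mem_zpowers_iff.mp hn
        exact ((D.yd.commute_iff ha).mpr hx).zpow_left m
      exact (c1.mul_left c2.inv_left).eq
    refine ⟨⟨(l : G) * n⁻¹, mul_mem l.2 (inv_mem (hBC hn))⟩, hq', ?_⟩
    show mk (l * (⟨n, hBC hn⟩ : ↥C)⁻¹) = mk l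
    rw [map_mul, map_inv, (hmk1 ⟨n, hBC hn⟩).mpr hn, inv_one, mul_one]
  · obtain ⟨g, hgy, hgQ, hgne⟩ := D.yd.exists_move
    refine ⟨mk ⟨g, (memC g).mpr hgy⟩, ⟨⟨g * z * g⁻¹, hQyC hgQ⟩, hgQ, ?_⟩, fun e => hgne ?_⟩
    · rw [hzb, ← map_inv, ← map_mul, ← map_mul]; rfl
    · rw [hzb, ← map_inv, ← map_mul, ← map_mul] at e
      exact hQinj H.z_mem hgQ.1 e.symm
  · intro x hxQ hxne
    obtain ⟨g, rfl⟩ := QuotientGroup.mk'_surjective N x
    obtain ⟨a, ha, hae⟩ := hxQ
    rw [hzb, ← map_inv, ← map_mul, ← map_mul] at hae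
    obtain ⟨n, hn, he⟩ := hmk _ _ hae
    set gz := (g : G) * z * (g : G)⁻¹ with hgz
    have he' : gz = (a : G) * n := he
    have hgz2 : gz * gz = 1 := by
      rw [hgz, show (g : G) * z * (g : G)⁻¹ * ((g : G) * z * (g : G)⁻¹) = g * (z * z) * (g : G)⁻¹ by group, H.st.zz]
      group
    have hn1 : n = 1 := by
      refine hB2 n hn (hBQ _ (mul_mem hn hn) ?_)
      have hna : Commute n (a : G) := by
        rw [hB] at hn
        obtain ⟨m, rfl⟩ := Subgroup.mem_zpowers_iff.mp hn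
        exact (Commute.zpow_left ((memC _).mp a.2).symm m)
      have : (a : G) * a * (n * n) = 1 := by
        rw [← hgz2, he', mul_assoc (a : G) n (a * n), ← mul_assoc n (a : G) n, hna.eq]; group
      rw [show n * n = ((a : G) * a)⁻¹ by rw [eq_inv_iff_mul_eq_one]; exact
        (((hna.mul_right hna).mul_left (hna.mul_right hna)).eq).trans this]
      exact inv_mem (mul_mem ha.1 ha.1)
    rw [hn1, mul_one] at he'
    have hgQ : gz ∈ Qy Q y := he' ▸ ha
    have hne : gz ≠ z := fun e => hxne (by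
      rw [hzb, ← map_inv, ← map_mul, ← map_mul]; exact congrArg mk (Subtype.ext e))
    have c : Pair Q z (g : G) := ⟨H.st, hgQ.1, hne, by rw [H.card]; norm_num⟩
    obtain ⟨u, F⟩ := H.exists_fr c
    have hgy : Commute (g : G) y := (memC _).mp g.2
    have hVy : V z (g : G) ≤ Qy Q y := (Subgroup.closure_le _).mpr (by
      rintro w (rfl | rfl)
      exacts [D.yd.z_mem, hgQ])
    have hEq : Qb ⊓ Qb.map (MulAut.conj (mk g)).toMonoidHom = ((V z (g : G)).subgroupOf C).map mk := by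
      refine le_antisymm ?_ ?_
      · rintro w ⟨⟨p, hp, rfl⟩, hw⟩
        obtain ⟨_, ⟨q, hq, rfl⟩, hqe⟩ := hw
        rw [MulEquiv.coe_toMonoidHom, MulAut.conj_apply, ← map_inv, ← map_mul, ← map_mul] at hqe
        obtain ⟨n, hn, he⟩ := hmk _ _ hqe
        have hn1 : n = 1 := by
          have he2 : (p : G) = g * q * (g : G)⁻¹ * n := he
          have cn : Commute n ((g : G) * q * (g : G)⁻¹) := by
            rw [hB] at hn
            obtain ⟨m, rfl⟩ := Subgroup.mem_zpowers_iff.mp hn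
            exact Commute.zpow_left ((memC _).mp (mul_mem (mul_mem g.2 q.2) (inv_mem g.2))).symm m
          have h4 : ∀ r, r ∈ Q → r ^ 4 = 1 := fun r hr => by
            rw [show r ^ 4 = r * r * (r * r) by simp only [pow_succ, pow_zero, one_mul, mul_assoc]]
            exact pow_four H hr
          have hp4 : (p : G) ^ 4 = 1 := h4 _ hp.1
          rw [he2, cn.symm.mul_pow, ← MulAut.conj_apply, ← map_pow, show (q : G) ^ 4 = 1 from h4 _ hq.1, map_one, one_mul,
            pow_succ, hB3 n hn, one_mul] at hp4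
          exact hp4
        have he' : (p : G) = g * q * (g : G)⁻¹ := by rw [hn1, mul_one] at he; exact he
        exact ⟨p, F.meet hp.1 (show C.subtype p ∈ _ by
          rw [show C.subtype p = (p : G) from rfl, he']; exact ⟨q, hq.1, rfl⟩), rfl⟩
      · rintro _ ⟨w, hw, rfl⟩
        refine ⟨⟨w, hVy hw, rfl⟩, ?_⟩
        obtain ⟨q, hq, hqe⟩ := F.V_le_Q' hw
        rw [MulEquiv.coe_toMonoidHom, MulAut.conj_apply] at hqe
        change (g : G) * q * (g : G)⁻¹ = (w : G) at hqe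
        have hqy : Commute q y := by
          have h1 : Commute ((g : G)⁻¹ * (w : G) * g) y := (hgy.inv_left.mul_left ((memC _).mp w.2)).mul_left hgy
          rwa [← hqe, show (g : G)⁻¹ * ((g : G) * q * (g : G)⁻¹) * g = q by group] at h1
        have hqQ : q ∈ Qy Q y := ⟨hq, Subgroup.mem_centralizer_singleton_iff.mpr hqy.eq⟩
        refine ⟨mk ⟨q, (memC q).mpr hqy⟩, ⟨_, hqQ, rfl⟩, ?_⟩
        rw [MulEquiv.coe_toMonoidHom, MulAut.conj_apply, ← map_inv, ← map_mul, ← map_mul]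
        exact congrArg mk (Subtype.ext hqe)
    rw [hEq]
    have hVC : V z (g : G) ≤ C := hVy.trans hQyC
    have hinj : Set.InjOn mk ((V z (g : G)).subgroupOf C : Set ↥C) := fun a ha b hb e =>
      Subtype.ext (hQinj (c.V_le hb) (c.V_le ha) e.symm)
    show Nat.card ↥(((V z (g : G)).subgroupOf C).map mk : Set (↥C ⧸ N)) = 4
    rw [Subgroup.coe_map, Nat.card_image_of_injOn hinj]
    show Nat.card ↥((V z (g : G)).subgroupOf C) = 4
    rw [Nat.card_congr (Subgroup.subgroupOfEquivOfLe hVC).toEquiv]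
    have hV : (V z (g : G) : Set G) = ↑({1, z, gz, z * gz} : Finset G) := by
      ext w; simp only [SetLike.mem_coe, c.mem_V, Finset.coe_insert, Finset.coe_singleton, Set.mem_insert_iff,
        Set.mem_singleton_iff]; rfl
    show Nat.card (V z (g : G) : Set G) = 4
    rw [hV, Nat.card_coe_set_eq, Set.ncard_coe_finset, Finset.card_insert_of_notMem, Finset.card_insert_of_notMem,
      Finset.card_insert_of_notMem, Finset.card_singleton]
    · simp only [Finset.mem_singleton]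
      exact fun e => H.st.ne_one (mul_eq_right.mp e.symm)
    · simp only [Finset.mem_insert, Finset.mem_singleton, not_or]
      exact ⟨hne.symm, fun e => c.ne_one' (mul_eq_left.mp e.symm)⟩
    · simp only [Finset.mem_insert, Finset.mem_singleton, not_or]
      exact ⟨H.st.ne_one.symm, c.ne_one'.symm, c.mul_ne_one.symm⟩

end CfsgLib.SuzThree
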