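import Cfsg.Agent.Lib.SuzThree.Class
import Cfsg.Agent.Lib.SuzThree.Quot
import Cfsg.Agent.Lib.UFourType.Axis

/-!
The subgroup of order 243 and its twenty-two distinguished elements.
-/

set_option autoImplicit false
set_option maxRecDepth 100000
set_option maxHeartbeats 1000000
set_option linter.style.haveILetI false

namespace CfsgLib.SuzThree

open CfsgLib.SuzType CfsgLib.Extraspecial
open CfsgLib.UFourType (SL23 sI sU sZ sl_z Hyp Axis)

/-- the properties of the subgroup of order 243 -/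
structure Tor {G : Type*} [Group G] (z y u w : G) (A : Subgroup G) (nk : List G) (t : Fin 20 → G) : Prop where
  card : Nat.card A = 243
  comm : ∀ a ∈ A, ∀ b ∈ A, a * b = b * a
  cube : ∀ a ∈ A, a * a * a = 1
  ymem : y ∈ A
  umem : u ∈ A
  wmem : w ∈ A
  cent : ∀ g, (∀ a ∈ A, Commute g a) → g ∈ A
  cube_mem : ∀ g, Commute g y → Commute g u → Commute g w → g * g * g = 1 → g ∈ A
  invol_mem : ∀ g, Commute g y → Commute g u → Commute g w → g * g = 1 → g ≠ 1 → ∃ b ∈ A, b * z * b⁻¹ = g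
  base : ∃ i2 i3 i : Fin 20, (∀ a ∈ A, ∃ k e0 e1 e2 e3 : ℕ,
      a = y ^ k * u ^ e0 * w ^ e1 * t i2 ^ e2 * t i3 ^ e3) ∧
    ∃ k : ℕ, t i = y ^ k * u * w * t i2 * t i3
  t_mem : ∀ i, t i ∈ A
  t_inj : Function.Injective t
  t_inv : ∀ i, (t i)⁻¹ = t (i + 10)
  t_zero : t 0 = u
  t_ne : ∀ i, t i ≠ y ∧ t i ≠ y⁻¹
  t_trans : ∀ i, ∃ g ∈ Subgroup.normalizer (A : Set G), Commute g y ∧ g * u * g⁻¹ = t i
  t_two : ∀ i, i ≠ 0 → i ≠ 10 → ∃ g ∈ Subgroup.normalizer (A : Set G), Commute g y ∧ Commute g u ∧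
    (g * w * g⁻¹ = t i ∨ g * w * g⁻¹ = (t i)⁻¹)
  t_complete : ∀ g, g * y * g⁻¹ ∈ A → g * y * g⁻¹ = y ∨ g * y * g⁻¹ = y⁻¹ ∨ ∃ i, g * y * g⁻¹ = t i
  card_stab : Nat.card ↥(Subgroup.normalizer (A : Set G) ⊓ Subgroup.centralizer ({y} : Set G)) = 87480
  card_three : Nat.card ↥(Subgroup.normalizer (A : Set G) ⊓ Subgroup.centralizer ({y, u, w} : Set G)) = 486
  ngen : ∀ g ∈ nk, g ∈ Subgroup.normalizer (A : Set G) ∧ Commute g y ∧ g ^ 12 ∈ A
  gens : Subgroup.normalizer (A : Set G) ⊓ Subgroup.centralizer ({y} : Set G) ≤ A ⊔ Subgroup.closure {g | g ∈ nk}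

/-- The orbit of an element under conjugation. -/
theorem orbit_card {G : Type*} [Group G] {K : Subgroup G} {x : G} {ι : Type*} [Finite ι] (f : ι → G)
    (hf : Function.Injective f) (htr : ∀ i, ∃ g ∈ K, g * x * g⁻¹ = f i)
    (hcl : ∀ g ∈ K, ∃ i, g * x * g⁻¹ = f i) :
    Nat.card K = Nat.card ι * Nat.card ↥(K ⊓ Subgroup.centralizer ({x} : Set G)) := by
  choose r hr hrx using htr
  rw [← Nat.card_prod]
  refine (Nat.card_congr (Equiv.ofBijective
    (fun p : ι × ↥(K ⊓ Subgroup.centralizer ({x} : Set G)) => (⟨r p.1 * p.2.1, mul_mem (hr p.1) p.2.2.1⟩ : K))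
    ⟨?_, ?_⟩)).symm
  · rintro ⟨i, c⟩ ⟨j, c'⟩ e
    have e' : r i * c.1 = r j * c'.1 := congrArg Subtype.val e
    have fix : ∀ (i : ι) (c : ↥(K ⊓ Subgroup.centralizer ({x} : Set G))),
        r i * c.1 * x * (r i * c.1)⁻¹ = f i := fun i c => by
      rw [show r i * c.1 * x * (r i * c.1)⁻¹ = r i * (c.1 * x * (c.1)⁻¹) * (r i)⁻¹ by group,
        Subgroup.mem_centralizer_singleton_iff.mp c.2.2, mul_inv_cancel_right, hrx]
    obtain rfl : i = j := hf (by rw [← fix i c, ← fix j c', e'])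
    exact Prod.ext rfl (Subtype.ext (mul_left_cancel e'))
  · rintro ⟨g, hg⟩
    obtain ⟨i, hi⟩ := hcl g hg
    refine ⟨(i, ⟨(r i)⁻¹ * g, mul_mem (inv_mem (hr i) : (r i)⁻¹ ∈ K) hg, Subgroup.mem_centralizer_singleton_iff.mpr ?_⟩),
      Subtype.ext (mul_inv_cancel_left _ _)⟩
    have h1 := hi.trans (hrx i).symm
    calc (r i)⁻¹ * g * x = (r i)⁻¹ * (g * x * g⁻¹) * g := by group
      _ = (r i)⁻¹ * (r i * x * (r i)⁻¹) * g := by rw [h1]
      _ = _ := by group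

variable {G : Type*} [Group G] [Finite G] {z y : G} {Q : Subgroup G} {v : G → V6} {α β : SL23 →* G}

theorem GD.exists_tor (D : GD z Q v y α β) {K : Type} [Field K] [Fintype K] (hK : Fintype.card K = 9) :
    ∃ (A : Subgroup G) (nk : List G) (t : Fin 20 → G), Tor z y (α sU) (β sU) A nk t := by
  classical
  have H := D.yd.co
  set B := Subgroup.zpowers y with hBdef
  set C := Subgroup.centralizer (B : Set G) with hC
  have memC : ∀ g, g ∈ C ↔ Commute g y := by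
    intro g
    rw [hC, hBdef, Subgroup.zpowers_eq_closure, Subgroup.centralizer_closure,
      Subgroup.mem_centralizer_singleton_iff]
    rfl
  haveI hnorm : (B.subgroupOf C).Normal := ⟨fun n hn g => by
    have h := Subgroup.mem_centralizer_iff.mp g.2 _ (show (n : G) ∈ B from hn)
    have e : g * n * g⁻¹ = n := Subtype.ext (by
      show (g : G) * (n : G) * (g : G)⁻¹ = (n : G)
      rw [← h, mul_inv_cancel_right])
    rw [e]; exact hn⟩
  set u := α sU with hu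
  set w := β sU with hw
  set N := B.subgroupOf C with hN
  set mk : ↥C →* ↥C ⧸ N := QuotientGroup.mk' N with hmk
  obtain ⟨αq, βq, zb, Qb, huC, hwC, hzC, hαu, hβu, hzb, hyp⟩ := D.hyp (B := B) rfl
  obtain ⟨-, hcardq, hinv⟩ := hyp.main hK
  obtain ⟨Ab, nkb, pt, nine, X⟩ := hyp.exists_axis hK
  rw [hαu, hβu, hzb] at X
  change Axis (mk (⟨z, hzC⟩ : ↥C)) (mk (⟨u, huC⟩ : ↥C)) (mk (⟨w, hwC⟩ : ↥C)) Ab nkb pt nine at X
  have hsurj : Function.Surjective mk := QuotientGroup.mk'_surjective N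
  have hmk1 : ∀ a : ↥C, mk a = 1 ↔ (a : G) ∈ B := fun a => QuotientGroup.eq_one_iff a
  have y3 : y ^ 3 = 1 := by rw [pow_succ, pow_two, D.yd.cube]
  have hyC : y ∈ C := (memC y).mpr (Commute.refl y)
  have hcases : ∀ n ∈ B, n = 1 ∨ n = y ∨ n = y * y := by
    intro n hn
    obtain ⟨m, rfl⟩ := Subgroup.mem_zpowers_iff.mp hn
    have hm : y ^ m = y ^ (m % 3) := zpow_eq_zpow_emod' m y3
    rcases (by omega : m % 3 = 0 ∨ m % 3 = 1 ∨ m % 3 = 2) with h | h | h <;> rw [hm, h]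
    · exact Or.inl (zpow_zero y)
    · exact Or.inr (Or.inl (zpow_one y))
    · exact Or.inr (Or.inr (zpow_two y))
  have hB2 : ∀ n ∈ B, n * n = 1 → n = 1 := by
    intro n hn h
    refine eq_one_of_cube_sq ?_ h
    obtain ⟨m, rfl⟩ := Subgroup.mem_zpowers_iff.mp hn
    rw [← zpow_add, ← zpow_add, show m + m + m = (3 : ℕ) * m by push_cast; ring, zpow_mul, zpow_natCast, y3, one_zpow]
  have hmk2 : ∀ a b : ↥C, mk a = mk b → ∃ n ∈ B, (b : G) = a * n := fun a b h =>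
    ⟨(a : G)⁻¹ * b, (QuotientGroup.eq.mp h : a⁻¹ * b ∈ N), (mul_inv_cancel_left _ _).symm⟩
  have uy : Commute u y := (mem_Cz.mp D.au).2
  have wy : Commute w y := (mem_Cz.mp D.bu).2
  have huz : u * z = z * u := (mem_Cz.mp D.au).1
  have hzz : z * z = 1 := H.st.zz
  have zy : Commute z y := D.yd.yz.symm
  -- conjugates of y
  obtain ⟨m, -, hmy, hmu, hmw⟩ := D.exists_m
  obtain ⟨m', -, hm'y, hm'u, hm'w⟩ := D.exists_m23
  obtain ⟨cv, -, hcv⟩ := D.yd.exists_invert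
  have Isy : ∀ x : G, x ≠ 1 → x ∈ B → ∃ g, g * y * g⁻¹ = x := by
    intro x hx1 hx
    rcases hcases x hx with h | h | h
    · exact absurd h hx1
    · exact ⟨1, by rw [h]; group⟩
    · exact ⟨cv, by rw [hcv, h]; exact inv_eq_of_mul_eq_one_right (by rw [← mul_assoc]; exact D.yd.cube)⟩
  -- one class of involutions
  have invC : ∀ t : ↥C, (t : G) * t = 1 → (t : G) ≠ 1 → ∃ c : ↥C, (c : G) * t * (c : G)⁻¹ = z := by
    intro t ht2 ht1
    have ht : orderOf (mk t) = 2 := by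
      refine orderOf_eq_prime ?_ fun h => ht1 (hB2 _ ((hmk1 t).mp h) ht2)
      rw [pow_two, ← map_mul, show t * t = 1 from Subtype.ext ht2, map_one]
    obtain ⟨cb, hcb⟩ := isConj_iff.mp (hinv _ zb ht hyp.z_ord)
    obtain ⟨c, rfl⟩ := hsurj cb
    rw [hzb, ← map_inv, ← map_mul, ← map_mul] at hcb
    obtain ⟨n, hn, e⟩ := hmk2 _ _ hcb.symm
    have e' : (c : G) * t * (c : G)⁻¹ = z * n := e
    refine ⟨c, ?_⟩
    have hnz : Commute n z := by
      obtain ⟨k, rfl⟩ := Subgroup.mem_zpowers_iff.mp hn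
      exact zy.symm.zpow_left k
    have h2 : z * n * (z * n) = 1 := by
      rw [← e', show (c : G) * t * (c : G)⁻¹ * ((c : G) * t * (c : G)⁻¹) = c * ((t : G) * t) * (c : G)⁻¹ by group, ht2]
      group
    rw [show z * n * (z * n) = z * (n * z) * n by group, hnz.eq, ← mul_assoc z z, hzz, one_mul] at h2
    rw [e', hB2 n hn h2, mul_one]
  have classify : ∀ g : G, Commute (g * y * g⁻¹) z → Commute (g * y * g⁻¹) y →
      ∃ M, El z Q v (g * y * g⁻¹) M ∧ nfix M = 16 ∧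
        (M = L0 ∨ M = comp L0 L0 ∨ M = L2 ∨ M = comp L2 L2 ∨ M = L3 ∨ M = comp L3 L3) := by
    intro g hgz hgy
    have hty : Commute (g⁻¹ * z * g) y := by
      have h := hgz.map (MulAut.conj g⁻¹)
      rw [MulAut.conj_apply, MulAut.conj_apply, inv_inv] at h
      rw [show g⁻¹ * (g * y * g⁻¹) * g = y by group] at h
      exact h.symm
    obtain ⟨c, hc⟩ := invC ⟨g⁻¹ * z * g, (memC _).mpr hty⟩
      (by show g⁻¹ * z * g * (g⁻¹ * z * g) = 1
          rw [show g⁻¹ * z * g * (g⁻¹ * z * g) = g⁻¹ * (z * z) * g by group, hzz]; group)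
      (fun e => H.st.ne_one (by
        have e' : g⁻¹ * z * g = 1 := e
        calc z = g * (g⁻¹ * z * g) * g⁻¹ := by group
          _ = 1 := by rw [e']; group))
    have hc' : (c : G) * (g⁻¹ * z * g) * (c : G)⁻¹ = z := hc
    have hk : g * (c : G)⁻¹ * z = z * (g * (c : G)⁻¹) := by
      calc g * (c : G)⁻¹ * z = g * (c : G)⁻¹ * ((c : G) * (g⁻¹ * z * g) * (c : G)⁻¹) := by rw [hc']
        _ = _ := by group
    have e : g * (c : G)⁻¹ * y * (g * (c : G)⁻¹)⁻¹ = g * y * g⁻¹ := by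
      have := ((memC _).mp c.2).inv_left.eq
      rw [show g * (c : G)⁻¹ * y * (g * (c : G)⁻¹)⁻¹ = g * ((c : G)⁻¹ * y) * c * g⁻¹ by group, this]
      group
    rw [← e] at hgy ⊢
    exact D.six hk hgy
  -- uniqueness of lifts
  have lift : ∀ (g : G) (hg : g * y * g⁻¹ ∈ C) (c : ↥C), mk ⟨g * y * g⁻¹, hg⟩ = mk (c * ⟨u, huC⟩ * c⁻¹) →
      g * y * g⁻¹ = c * u * (c : G)⁻¹ := by
    intro g hg c e
    obtain ⟨n, hn, he⟩ := hmk2 _ _ e.symm
    have he' : g * y * g⁻¹ = (c : G) * u * (c : G)⁻¹ * n := he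
    have hnc : Commute n (c : G) := by
      obtain ⟨k, rfl⟩ := Subgroup.mem_zpowers_iff.mp hn
      exact ((memC _).mp c.2).symm.zpow_left k
    have ex : (c : G)⁻¹ * g * y * ((c : G)⁻¹ * g)⁻¹ = u * n := by
      rw [show (c : G)⁻¹ * g * y * ((c : G)⁻¹ * g)⁻¹ = (c : G)⁻¹ * (g * y * g⁻¹) * c by group, he',
        show (c : G)⁻¹ * ((c : G) * u * (c : G)⁻¹ * n) * c = u * (c : G)⁻¹ * (n * c) by group, hnc.eq]
      group
    have hnz : Commute n z := by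
      obtain ⟨k, rfl⟩ := Subgroup.mem_zpowers_iff.mp hn
      exact zy.symm.zpow_left k
    have hny : Commute n y := by
      obtain ⟨k, rfl⟩ := Subgroup.mem_zpowers_iff.mp hn
      exact (Commute.refl y).zpow_left k
    obtain ⟨M, eM, hM, -⟩ := classify ((c : G)⁻¹ * g)
      (by rw [ex]; exact (show Commute u z from huz).mul_left hnz) (by rw [ex]; exact uy.mul_left hny)
    rw [ex] at eM
    rcases hcases n hn with h | h | h
    · rw [he', h, mul_one]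
    · exfalso
      rw [h] at eM
      rw [act_unique H eM.act (act_mul H D.yd.yz D.aa D.yd.act)] at hM
      exact six_nfix.2.1 hM
    · exfalso
      rw [h] at eM
      rw [act_unique H eM.act (act_mul H ((show Commute y z from D.yd.yz).mul_left D.yd.yz).eq D.aa
        (act_mul H D.yd.yz D.yd.act D.yd.act))] at hM
      exact six_nfix.2.2.1 hM
  -- the twenty elements
  let nkC : List ↥C := nkb.map (Function.surjInv hsurj)
  have hclos : Subgroup.closure {g | g ∈ nkb} ≤ (Subgroup.closure {g | g ∈ nkC}).map mk := by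
    rw [Subgroup.closure_le]
    intro g hg
    exact ⟨Function.surjInv hsurj g, Subgroup.subset_closure (List.mem_map.mpr ⟨g, hg, rfl⟩),
      Function.surjInv_eq hsurj g⟩
  have hnkN : Subgroup.closure {g | g ∈ nkb} ≤ Subgroup.normalizer (Ab : Set (↥C ⧸ N)) :=
    (Subgroup.closure_le _).mpr fun g hg => (X.ngen g hg).1
  choose gb hgb hgbt using X.trans
  choose gl hgl using fun i => hclos (hgb i)
  let t : Fin 20 → G := fun i => (gl i : G) * u * (gl i : G)⁻¹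
  have htC : ∀ i, t i ∈ C := fun i => mul_mem (mul_mem (gl i).2 huC) (inv_mem (gl i).2)
  have htmk : ∀ i, mk ⟨t i, htC i⟩ = pt i := fun i => by
    rw [← hgbt i, ← (hgl i).2, ← map_inv, ← map_mul, ← map_mul]
    exact congrArg mk (Subtype.ext rfl)
  have htconj : ∀ i, ∃ g, g * y * g⁻¹ = t i := fun i => ⟨gl i * m, by
    rw [show (gl i : G) * m * y * ((gl i : G) * m)⁻¹ = gl i * (m * y * m⁻¹) * (gl i : G)⁻¹ by group, hmy]⟩
  have lift' : ∀ (x : G) (hx : x ∈ C) (i : Fin 20), (∃ g, g * y * g⁻¹ = x) → mk ⟨x, hx⟩ = pt i → x = t i := by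
    rintro _ hx i ⟨g, rfl⟩ e
    refine lift g hx (gl i) (e.trans ?_)
    rw [← htmk]; exact congrArg mk (Subtype.ext rfl)
  -- the subgroup
  let A : Subgroup G := (Ab.comap mk).map C.subtype
  have memA : ∀ g, g ∈ A ↔ ∃ h : g ∈ C, mk ⟨g, h⟩ ∈ Ab := by
    intro g
    constructor
    · rintro ⟨a, ha, rfl⟩; exact ⟨a.2, ha⟩
    · rintro ⟨h, ha⟩; exact ⟨⟨g, h⟩, ha, rfl⟩
  have card_pre : ∀ Kb : Subgroup (↥C ⧸ N), Nat.card ↥((Kb.comap mk).map C.subtype) = 3 * Nat.card Kb := by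
    intro Kb
    rw [Subgroup.card_map_of_injective C.subtype_injective]
    have h1 := Kb.card_mul_index
    have h2 := (Kb.comap mk).card_mul_index
    rw [Subgroup.index_comap_of_surjective Kb hsurj] at h2
    have h3 : Nat.card ↥N = 3 := by
      rw [hN, Nat.card_congr (Subgroup.subgroupOfEquivOfLe (show B ≤ C from
        (Subgroup.zpowers_le).mpr hyC)).toEquiv, hBdef, Nat.card_zpowers,
        orderOf_eq_prime (hp := ⟨Nat.prime_three⟩) y3 D.yd.ne_one]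
    have h4 := N.card_eq_card_quotient_mul_card_subgroup
    rw [h3, ← h1, ← h2] at h4
    have hpos : 0 < Kb.index := Nat.pos_of_ne_zero Subgroup.index_ne_zero_of_finite
    nlinarith
  have hAcard : Nat.card A = 243 := by rw [card_pre, X.card]
  have hBA : ∀ n ∈ B, n ∈ A := fun n hn => (memA n).mpr ⟨(Subgroup.zpowers_le).mpr hyC hn, by
    rw [(hmk1 _).mpr hn]; exact one_mem _⟩
  have hyA : y ∈ A := hBA y (Subgroup.mem_zpowers y)
  have htA : ∀ i, t i ∈ A := fun i => (memA _).mpr ⟨htC i, by rw [htmk]; exact X.pt_mem i⟩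
  have huA : u ∈ A := (memA u).mpr ⟨huC, X.umem⟩
  have hwA : w ∈ A := (memA w).mpr ⟨hwC, X.wmem⟩
  have ht0 : t 0 = u := (lift' u huC 0 ⟨m, hmy⟩ X.pt_zero.symm).symm
  have hwconj : ∃ g, g * y * g⁻¹ = w := ⟨m' * m, by
    rw [show m' * m * y * (m' * m)⁻¹ = m' * (m * y * m⁻¹) * m'⁻¹ by group, hmy, hm'u]⟩
  obtain ⟨rb, hrbA, hgen, hr0, hr1, i17, hi17⟩ := X.base
  choose ib hib using fun j => X.conj (rb j) (hrbA j)
  have hwt : w = t (ib 1) := lift' w hwC _ hwconj (hr1.symm.trans (hib 1))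
  have gen5 : ∀ a ∈ A, ∃ k e0 e1 e2 e3 : ℕ, a = y ^ k * u ^ e0 * w ^ e1 * t (ib 2) ^ e2 * t (ib 3) ^ e3 := by
    intro a ha
    obtain ⟨haC, hab⟩ := (memA a).mp ha
    obtain ⟨e, he⟩ := hgen _ hab
    rw [hr0, hr1, hib 2, hib 3, ← htmk, ← htmk, ← map_pow, ← map_pow, ← map_pow, ← map_pow, ← map_mul, ← map_mul,
      ← map_mul] at he
    obtain ⟨n, hn, hna⟩ := hmk2 _ _ he.symm
    have hna' : a = u ^ e 0 * w ^ e 1 * t (ib 2) ^ e 2 * t (ib 3) ^ e 3 * n := by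
      simpa only [Subgroup.coe_mul, SubmonoidClass.coe_pow] using hna
    obtain ⟨k, rfl⟩ : ∃ k : ℕ, n = y ^ k := by
      rcases hcases n hn with h | h | h
      exacts [⟨0, h.trans (pow_zero y).symm⟩, ⟨1, h.trans (pow_one y).symm⟩, ⟨2, h.trans (pow_two y).symm⟩]
    refine ⟨k, e 0, e 1, e 2, e 3, ?_⟩
    have c : Commute (y ^ k) (u ^ e 0 * w ^ e 1 * t (ib 2) ^ e 2 * t (ib 3) ^ e 3) :=
      ((((uy.symm.pow_pow _ _).mul_right (wy.symm.pow_pow _ _)).mul_right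
        (((memC _).mp (htC _)).symm.pow_pow _ _)).mul_right (((memC _).mp (htC _)).symm.pow_pow _ _))
    rw [hna', ← c.eq]
    group
  have tcomm : ∀ i j, Commute (t i) (t j) := by
    intro i j
    refine commute_of_conj_eq (lift' _ (mul_mem (mul_mem (htC i) (htC j)) (inv_mem (htC i))) j ?_ ?_)
    · obtain ⟨g, hg⟩ := htconj j
      exact ⟨t i * g, by rw [← hg]; group⟩
    · rw [show (⟨t i * t j * (t i)⁻¹, _⟩ : ↥C) = ⟨t i, htC i⟩ * ⟨t j, htC j⟩ * ⟨t i, htC i⟩⁻¹ from rfl,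
        map_mul, map_mul, map_inv, htmk, htmk, X.comm _ (X.pt_mem i) _ (X.pt_mem j), mul_inv_cancel_right]
  have hy_t : ∀ i, Commute y (t i) := fun i => ((memC _).mp (htC i)).symm
  have ucomm : ∀ i, Commute u (t i) := fun i => ht0 ▸ tcomm 0 i
  have wcomm : ∀ i, Commute w (t i) := fun i => hwt ▸ tcomm _ i
  have uw : Commute u w := hwt ▸ ucomm _
  have hAcomm : ∀ a ∈ A, ∀ b ∈ A, a * b = b * a := by
    intro a ha b hb
    have key : ∀ c, Commute c y → Commute c u → Commute c w → (∀ i, Commute c (t i)) → Commute c b := by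
      intro c c1 c2 c3 c4
      obtain ⟨k, e0, e1, e2, e3, rfl⟩ := gen5 b hb
      exact ((((c1.pow_right _).mul_right (c2.pow_right _)).mul_right (c3.pow_right _)).mul_right
        ((c4 _).pow_right _)).mul_right ((c4 _).pow_right _)
    obtain ⟨k, e0, e1, e2, e3, rfl⟩ := gen5 a ha
    have ky := key y (Commute.refl y) uy.symm wy.symm hy_t
    have ku := key u uy (Commute.refl u) uw ucomm
    have kw := key w wy uw.symm (Commute.refl w) wcomm
    have kt : ∀ i, Commute (t i) b := fun i => key _ (hy_t i).symm (ucomm i).symm (wcomm i).symm (tcomm i)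
    exact (((((ky.pow_left _).mul_left (ku.pow_left _)).mul_left (kw.pow_left _)).mul_left
      ((kt _).pow_left _)).mul_left ((kt _).pow_left _)).eq
  have tcube : ∀ i, t i * t i * t i = 1 := fun i => cube_conj D.cube_u
  have pcube : ∀ (x : G) (k : ℕ), x * x * x = 1 → (x ^ k) * (x ^ k) * (x ^ k) = 1 := by
    intro x k hx
    rw [← pow_add, ← pow_add, show k + k + k = 3 * k by ring, pow_mul, pow_succ, pow_two, hx, one_pow]
  have hAcube : ∀ a ∈ A, a * a * a = 1 := by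
    have cm : ∀ a ∈ A, ∀ b ∈ A, a * a * a = 1 → b * b * b = 1 → a * b * (a * b) * (a * b) = 1 := by
      intro a ha b hb h1 h2
      have c : Commute a b := hAcomm a ha b hb
      have e := c.mul_pow 3
      simp only [pow_succ, pow_zero, one_mul] at e
      rw [e, h1, h2, one_mul]
    intro a ha
    obtain ⟨k, e0, e1, e2, e3, rfl⟩ := gen5 a ha
    have m1 : y ^ k * u ^ e0 ∈ A := mul_mem (pow_mem hyA _) (pow_mem huA _)
    have m2 := mul_mem m1 (pow_mem hwA e1)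
    have m3 := mul_mem m2 (pow_mem (htA (ib 2)) e2)
    exact cm _ m3 _ (pow_mem (htA _) _)
      (cm _ m2 _ (pow_mem (htA _) _)
        (cm _ m1 _ (pow_mem hwA _) (cm _ (pow_mem hyA _) _ (pow_mem huA _) (pcube y k D.yd.cube)
          (pcube u e0 D.cube_u)) (pcube w e1 D.cube_w)) (pcube _ e2 (tcube _))) (pcube _ e3 (tcube _))
  -- the centraliser of three elements
  have hzN : z ∈ C ∧ mk (⟨z, hzC⟩ : ↥C) ∈ Subgroup.normalizer (Ab : Set (↥C ⧸ N)) := ⟨hzC, (X.ngen _ X.z_nk).1⟩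
  have hzA : z ∉ A := fun h => H.st.ne_one (eq_one_of_cube_sq (hAcube z h) hzz)
  have zconj : ∀ a ∈ A, z * a * z⁻¹ ∈ A := by
    intro a ha
    obtain ⟨haC, hab⟩ := (memA a).mp ha
    refine (memA _).mpr ⟨mul_mem (mul_mem hzC haC) (inv_mem hzC), ?_⟩
    have := (Subgroup.mem_normalizer_iff.mp hzN.2 (mk ⟨a, haC⟩)).mp hab
    rw [← map_inv, ← map_mul, ← map_mul] at this
    exact this
  have cases3 : ∀ g, Commute g y → Commute g u → Commute g w → g ∈ A ∨ ∃ a ∈ A, g = a * z := by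
    intro g gy gu gw
    have hgC := (memC g).mpr gy
    have c1 : Commute (mk ⟨g, hgC⟩) (mk (⟨u, huC⟩ : ↥C)) := (show Commute (⟨g, hgC⟩ : ↥C) (⟨u, huC⟩ : ↥C) from Subtype.ext gu.eq).map mk
    have c2 : Commute (mk ⟨g, hgC⟩) (mk (⟨w, hwC⟩ : ↥C)) := (show Commute (⟨g, hgC⟩ : ↥C) (⟨w, hwC⟩ : ↥C) from Subtype.ext gw.eq).map mk
    rcases X.cent _ c1 c2 with h | h
    · exact Or.inl ((memA g).mpr ⟨hgC, h⟩)
    · rw [← map_mul] at h
      refine Or.inr ⟨g * z, (memA _).mpr ⟨mul_mem hgC hzC, h⟩, ?_⟩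
      rw [mul_assoc, hzz, mul_one]
  have hcent : ∀ g, (∀ a ∈ A, Commute g a) → g ∈ A := by
    intro g hg
    rcases cases3 g (hg y hyA) (hg u huA) (hg w hwA) with h | ⟨a, ha, rfl⟩
    · exact h
    · exfalso
      obtain ⟨ab, hab, hne⟩ := X.zmove
      obtain ⟨b, rfl⟩ := hsurj ab
      have hbA : (b : G) ∈ A := (memA _).mpr ⟨b.2, hab⟩
      have hzb' : Commute z (b : G) := by
        have := ((show Commute a (b : G) from hAcomm a ha b hbA).inv_left).mul_left (hg b hbA)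
        rwa [inv_mul_cancel_left] at this
      exact hne ((show Commute (⟨z, hzC⟩ : ↥C) b from Subtype.ext hzb'.eq).map mk)
  have hcube_mem : ∀ g, Commute g y → Commute g u → Commute g w → g * g * g = 1 → g ∈ A := by
    intro g gy gu gw g3
    rcases cases3 g gy gu gw with h | ⟨a, ha, rfl⟩
    · exact h
    · exfalso
      refine hzA ?_
      have e : a * (z * a * z⁻¹) * a * z = 1 := by
        rw [← g3, show z⁻¹ = z from inv_eq_of_mul_eq_one_right hzz]; group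
      have : z = (a * (z * a * z⁻¹) * a)⁻¹ := eq_inv_of_mul_eq_one_right e
      rw [this]
      exact inv_mem (mul_mem (mul_mem ha (zconj a ha)) ha)
  have hinvol : ∀ g, Commute g y → Commute g u → Commute g w → g * g = 1 → g ≠ 1 → ∃ b ∈ A, b * z * b⁻¹ = g := by
    intro g gy gu gw g2 g1
    rcases cases3 g gy gu gw with h | ⟨a, ha, rfl⟩
    · exact absurd (eq_one_of_cube_sq (hAcube g h) g2) g1
    · refine ⟨a⁻¹, inv_mem ha, ?_⟩
      have e1 : z * a * z = a⁻¹ := eq_inv_of_mul_eq_one_right (by rw [← g2]; group)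
      have e2 : z * a = a⁻¹ * z := by
        rw [← e1, mul_assoc (z * a) z z, hzz, mul_one]
      have e3 : a⁻¹ * a⁻¹ = a := (mul_inv_rev a a).symm.trans (inv_eq_of_mul_eq_one_right (hAcube a ha))
      calc a⁻¹ * z * a⁻¹⁻¹ = a⁻¹ * (z * a) := by rw [inv_inv, mul_assoc]
        _ = a⁻¹ * a⁻¹ * z := by rw [e2, mul_assoc]
        _ = a * z := by rw [e3]
  have inv10 : ∀ i, (t i)⁻¹ = t (i + 10) := by
    intro i
    refine lift' _ (inv_mem (htC i)) (i + 10) ?_ ?_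
    · obtain ⟨g, hg⟩ := htconj i
      exact ⟨g * cv, by rw [← hg, show g * cv * y * (g * cv)⁻¹ = g * (cv * y * cv⁻¹) * g⁻¹ by group, hcv]; group⟩
    · rw [show (⟨(t i)⁻¹, _⟩ : ↥C) = ⟨t i, htC i⟩⁻¹ from rfl, map_inv, htmk, X.pt_inv]
  -- normalisers
  have hNA : ∀ g : ↥C, mk g ∈ Subgroup.normalizer (Ab : Set (↥C ⧸ N)) ↔ (g : G) ∈ Subgroup.normalizer (A : Set G) := by
    intro g
    simp only [Subgroup.mem_normalizer_iff, memA]
    constructor
    · intro h x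
      constructor
      · rintro ⟨hx, ha⟩
        refine ⟨mul_mem (mul_mem g.2 hx) (inv_mem g.2), ?_⟩
        have := (h _).mp ha
        rw [← map_inv, ← map_mul, ← map_mul] at this
        exact this
      · rintro ⟨hx, ha⟩
        have hxC : x ∈ C := by
          have := mul_mem (mul_mem (inv_mem g.2) hx) g.2
          rwa [show (g : G)⁻¹ * ((g : G) * x * (g : G)⁻¹) * g = x by group] at this
        refine ⟨hxC, (h _).mpr ?_⟩
        rw [← map_inv, ← map_mul, ← map_mul]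
        exact ha
    · intro h xb
      obtain ⟨x, rfl⟩ := hsurj xb
      rw [← map_inv, ← map_mul, ← map_mul]
      exact ⟨fun ha => ((h x).mp ⟨x.2, ha⟩).2, fun ha => ((h x).mpr ⟨(g * x * g⁻¹).2, ha⟩).2⟩
  have hyc : ∀ g, g ∈ Subgroup.centralizer ({y} : Set G) ↔ g ∈ C := fun g => by
    rw [memC, Subgroup.mem_centralizer_singleton_iff]; rfl
  set Nb := Subgroup.normalizer (Ab : Set (↥C ⧸ N)) with hNb
  have e1 : Subgroup.normalizer (A : Set G) ⊓ Subgroup.centralizer ({y} : Set G) = (Nb.comap mk).map C.subtype := by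
    ext g
    rw [Subgroup.mem_inf, hyc]
    constructor
    · rintro ⟨h1, h2⟩; exact ⟨⟨g, h2⟩, (hNA ⟨g, h2⟩).mpr h1, rfl⟩
    · rintro ⟨c, hc, rfl⟩; exact ⟨(hNA c).mp hc, c.2⟩
  have conjfix : ∀ (c : ↥C) (x : G) (hx : x ∈ C) (i : Fin 20), x = t i → Commute (mk c) (mk ⟨x, hx⟩) →
      Commute (c : G) x := by
    intro c x hx i hxi hc
    refine commute_of_conj_eq (Eq.trans ?_ hxi.symm)
    refine lift' _ (mul_mem (mul_mem c.2 hx) (inv_mem c.2)) i ?_ ?_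
    · obtain ⟨g, hg⟩ := htconj i
      exact ⟨c * g, by rw [hxi, ← hg]; group⟩
    · rw [show (⟨(c : G) * x * (c : G)⁻¹, _⟩ : ↥C) = c * ⟨x, hx⟩ * c⁻¹ from rfl, map_mul, map_mul, map_inv, hc.eq,
        mul_inv_cancel_right]
      subst hxi
      exact htmk i
  have e3' : Subgroup.normalizer (A : Set G) ⊓ Subgroup.centralizer ({y, u, w} : Set G) =
      ((Nb ⊓ Subgroup.centralizer ({mk (⟨u, huC⟩ : ↥C)} : Set (↥C ⧸ N)) ⊓
        Subgroup.centralizer ({mk (⟨w, hwC⟩ : ↥C)} : Set (↥C ⧸ N))).comap mk).map C.subtype := by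
    ext g
    have hmem : g ∈ Subgroup.centralizer ({y, u, w} : Set G) ↔ Commute g y ∧ Commute g u ∧ Commute g w := by
      rw [Subgroup.mem_centralizer_iff]
      simp only [Set.mem_insert_iff, Set.mem_singleton_iff, forall_eq_or_imp, forall_eq, Commute, SemiconjBy]
      tauto
    rw [Subgroup.mem_inf, hmem]
    constructor
    · rintro ⟨hn, gy, gu, gw⟩
      have hgC := (memC g).mpr gy
      refine ⟨⟨g, hgC⟩, ⟨⟨(hNA ⟨g, hgC⟩).mpr hn, ?_⟩, ?_⟩, rfl⟩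
      · exact Subgroup.mem_centralizer_singleton_iff.mpr
          ((show Commute (⟨g, hgC⟩ : ↥C) (⟨u, huC⟩ : ↥C) from Subtype.ext gu.eq).map mk).eq
      · exact Subgroup.mem_centralizer_singleton_iff.mpr
          ((show Commute (⟨g, hgC⟩ : ↥C) (⟨w, hwC⟩ : ↥C) from Subtype.ext gw.eq).map mk).eq
    · rintro ⟨c, ⟨⟨hc1, hc2⟩, hc3⟩, rfl⟩
      exact ⟨(hNA c).mp hc1, (memC _).mp c.2,
        conjfix c u huC 0 ht0.symm (Subgroup.mem_centralizer_singleton_iff.mp hc2),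
        conjfix c w hwC _ hwt (Subgroup.mem_centralizer_singleton_iff.mp hc3)⟩
  have c162 : Nat.card ↥(Nb ⊓ Subgroup.centralizer ({mk (⟨u, huC⟩ : ↥C)} : Set (↥C ⧸ N)) ⊓
      Subgroup.centralizer ({mk (⟨w, hwC⟩ : ↥C)} : Set (↥C ⧸ N))) = 162 := by
    have memAbN : ∀ a ∈ Ab, a ∈ Nb ⊓ Subgroup.centralizer ({mk (⟨u, huC⟩ : ↥C)} : Set (↥C ⧸ N)) ⊓
        Subgroup.centralizer ({mk (⟨w, hwC⟩ : ↥C)} : Set (↥C ⧸ N)) := fun a ha =>
      ⟨⟨Subgroup.le_normalizer ha, Subgroup.mem_centralizer_singleton_iff.mpr (X.comm a ha _ X.umem)⟩,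
        Subgroup.mem_centralizer_singleton_iff.mpr (X.comm a ha _ X.wmem)⟩
    have zmem : mk (⟨z, hzC⟩ : ↥C) ∈ Nb ⊓ Subgroup.centralizer ({mk (⟨u, huC⟩ : ↥C)} : Set (↥C ⧸ N)) ⊓
        Subgroup.centralizer ({mk (⟨w, hwC⟩ : ↥C)} : Set (↥C ⧸ N)) :=
      ⟨⟨hzN.2, Subgroup.mem_centralizer_singleton_iff.mpr
          ((show Commute (⟨z, hzC⟩ : ↥C) (⟨u, huC⟩ : ↥C) from Subtype.ext huz.symm).map mk).eq⟩,
        Subgroup.mem_centralizer_singleton_iff.mpr
          ((show Commute (⟨z, hzC⟩ : ↥C) (⟨w, hwC⟩ : ↥C) from Subtype.ext (mem_Cz.mp D.bu).1.symm).map mk).eq⟩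
    have zn : mk (⟨z, hzC⟩ : ↥C) ∉ Ab := fun h => hzA ((memA z).mpr ⟨hzC, h⟩)
    have z2 : mk (⟨z, hzC⟩ : ↥C) * mk (⟨z, hzC⟩ : ↥C) = 1 := by
      rw [← map_mul, show (⟨z, hzC⟩ : ↥C) * (⟨z, hzC⟩ : ↥C) = 1 from Subtype.ext hzz, map_one]
    rw [← show Nat.card (Bool × Ab) = 162 by rw [Nat.card_prod, X.card, Nat.card_eq_fintype_card, Fintype.card_bool]]
    refine (Nat.card_congr (Equiv.ofBijective (fun p : Bool × Ab =>
      (⟨p.2.1 * (if p.1 then mk (⟨z, hzC⟩ : ↥C) else 1), mul_mem (memAbN _ p.2.2) (by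
        split_ifs
        exacts [zmem, one_mem _])⟩ : ↥(_ : Subgroup (↥C ⧸ N)))) ⟨?_, ?_⟩)).symm
    · rintro ⟨b, a⟩ ⟨b', a'⟩ e
      have e' : a.1 * (if b then mk (⟨z, hzC⟩ : ↥C) else 1) = a'.1 * (if b' then mk (⟨z, hzC⟩ : ↥C) else 1) := congrArg Subtype.val e
      cases b <;> cases b' <;> simp only [Bool.false_eq_true, if_true, if_false, mul_one] at e'
      · exact Prod.ext rfl (Subtype.ext e')
      · exact absurd (eq_inv_mul_of_mul_eq e'.symm ▸ mul_mem (inv_mem a'.2) a.2) zn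
      · exact absurd (eq_inv_mul_of_mul_eq e' ▸ mul_mem (inv_mem a.2) a'.2) zn
      · exact Prod.ext rfl (Subtype.ext (mul_right_cancel e'))
    · rintro ⟨g, ⟨-, g2⟩, g3⟩
      rcases X.cent g (Subgroup.mem_centralizer_singleton_iff.mp g2)
        (Subgroup.mem_centralizer_singleton_iff.mp g3) with h | h
      · exact ⟨(false, ⟨g, h⟩), Subtype.ext (by simp)⟩
      · exact ⟨(true, ⟨_, h⟩), Subtype.ext (by simp [mul_assoc, z2, show QuotientGroup.mk' N (⟨z, hzC⟩ : ↥C) = mk (⟨z, hzC⟩ : ↥C) from rfl])⟩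
  have c1458 : Nat.card ↥(Nb ⊓ Subgroup.centralizer ({mk (⟨u, huC⟩ : ↥C)} : Set (↥C ⧸ N))) = 1458 := by
    rw [orbit_card (x := mk (⟨w, hwC⟩ : ↥C)) nine X.nine_inj ?_ ?_, c162, Nat.card_fin]
    · intro i
      obtain ⟨g, hg, hgu, hgw⟩ := X.nine_trans i
      exact ⟨g, ⟨hnkN hg, Subgroup.mem_centralizer_singleton_iff.mpr hgu⟩, hgw⟩
    · rintro g ⟨g1, g2⟩
      exact X.nine_conj g (Subgroup.mem_centralizer_singleton_iff.mp g2)
        ((Subgroup.mem_normalizer_iff.mp g1 _).mp X.wmem)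
  have c29160 : Nat.card ↥Nb = 29160 := by
    rw [orbit_card (x := mk (⟨u, huC⟩ : ↥C)) pt X.pt_inj ?_ ?_, c1458, Nat.card_fin]
    · intro i; exact ⟨gb i, hnkN (hgb i), hgbt i⟩
    · intro g hg; exact X.conj g ((Subgroup.mem_normalizer_iff.mp hg _).mp X.umem)
  let nk : List G := nkC.map Subtype.val
  have hnk : ∀ g ∈ nk, g ∈ Subgroup.normalizer (A : Set G) ∧ Commute g y ∧ g ^ 12 ∈ A := by
    intro g hg
    obtain ⟨c, hc, rfl⟩ := List.mem_map.mp hg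
    obtain ⟨gq, hgq, rfl⟩ := List.mem_map.mp hc
    obtain ⟨h1, h2⟩ := X.ngen gq hgq
    refine ⟨(hNA _).mp (by rw [Function.surjInv_eq hsurj]; exact h1), (memC _).mp (Subtype.coe_prop _),
      (memA _).mpr ⟨pow_mem (Subtype.coe_prop _) _, ?_⟩⟩
    rw [show (⟨_, _⟩ : ↥C) = Function.surjInv hsurj gq ^ 12 from Subtype.ext rfl, map_pow,
      Function.surjInv_eq hsurj, h2]
    exact one_mem _
  refine ⟨A, nk, t, ⟨hAcard, hAcomm, hAcube, hyA, huA, hwA, hcent, hcube_mem, hinvol, ?_, htA, ?_, ?_, ht0, ?_,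
    ?_, ?_, ?_, ?_, ?_, hnk, ?_⟩⟩
  · refine ⟨ib 2, ib 3, i17, gen5, ?_⟩
    rw [hr0, hr1, hib 2, hib 3, ← htmk, ← htmk, ← htmk, ← map_mul, ← map_mul, ← map_mul] at hi17
    obtain ⟨n, hn, hna⟩ := hmk2 _ _ hi17.symm
    have hna' : t i17 = u * w * t (ib 2) * t (ib 3) * n := hna
    obtain ⟨k, rfl⟩ : ∃ k : ℕ, n = y ^ k := by
      rcases hcases n hn with h | h | h
      exacts [⟨0, h.trans (pow_zero y).symm⟩, ⟨1, h.trans (pow_one y).symm⟩, ⟨2, h.trans (pow_two y).symm⟩]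
    refine ⟨k, ?_⟩
    have c : Commute (y ^ k) (u * w * t (ib 2) * t (ib 3)) :=
      (((uy.symm.pow_left _).mul_right (wy.symm.pow_left _)).mul_right ((hy_t _).pow_left _)).mul_right
        ((hy_t _).pow_left _)
    rw [hna', ← c.eq]
    group
  · intro i j e
    exact X.pt_inj (by rw [← htmk, ← htmk]; exact congrArg mk (Subtype.ext e))
  · exact inv10
  · intro i
    have hne : pt i ≠ 1 := fun h => by
      have h10 : pt (i + 10) = pt i := by rw [← X.pt_inv, h, inv_one]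
      exact absurd (X.pt_inj h10) ((by decide : ∀ j : Fin 20, j + 10 ≠ j) i)
    constructor <;> intro h <;> refine hne ?_ <;> rw [← htmk, hmk1] <;> show t i ∈ B <;> rw [h]
    exacts [Subgroup.mem_zpowers y, inv_mem (Subgroup.mem_zpowers y)]
  · intro i
    exact ⟨gl i, (hNA _).mp (by rw [(hgl i).2]; exact hnkN (hgb i)), (memC _).mp (gl i).2, rfl⟩
  · intro i h0 h10
    obtain ⟨j, hj⟩ := X.nine_pt i h0 h10
    obtain ⟨g, hg, hgu, hgw⟩ := X.nine_trans j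
    obtain ⟨c, rfl⟩ : ∃ c, mk c = g := hsurj g
    refine ⟨c, (hNA c).mp (hnkN hg), (memC _).mp c.2, conjfix c u huC 0 ht0.symm hgu, ?_⟩
    have hconj : ∃ g, g * y * g⁻¹ = (c : G) * w * (c : G)⁻¹ := by
      obtain ⟨g, hg⟩ := hwconj
      exact ⟨c * g, by rw [← hg]; group⟩
    have hmkc : ∀ k, nine j = pt k → (c : G) * w * (c : G)⁻¹ = t k := fun k hk =>
      lift' _ (mul_mem (mul_mem c.2 hwC) (inv_mem c.2)) k hconj (by
        rw [← hk, ← hgw, ← map_inv, ← map_mul, ← map_mul]; rfl)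
    rcases hj with hj | hj
    · exact Or.inl (hmkc i hj.symm)
    · exact Or.inr ((hmkc (i + 10) hj.symm).trans (inv10 i).symm)
  · intro g hgA
    obtain ⟨hxC, hxb⟩ := (memA _).mp hgA
    by_cases h1 : mk ⟨g * y * g⁻¹, hxC⟩ = 1
    · rcases hcases _ ((hmk1 _).mp h1) with h | h | h
      · exact absurd (conj_eq_one_iff.mp h) D.yd.ne_one
      · exact Or.inl h
      · exact Or.inr (Or.inl (h.trans (eq_inv_of_mul_eq_one_left D.yd.cube)))
    refine Or.inr (Or.inr ?_)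
    suffices ∃ c : ↥C, mk ⟨g * y * g⁻¹, hxC⟩ = mk c * mk (⟨u, huC⟩ : ↥C) * (mk c)⁻¹ by
      obtain ⟨c, hc⟩ := this
      obtain ⟨i, hi⟩ := X.conj (mk c) (hc ▸ hxb)
      exact ⟨i, lift' _ hxC i ⟨g, rfl⟩ (hc.trans hi)⟩
    obtain ⟨nb, hnb⟩ := X.invol _ hxb
    obtain ⟨n, rfl⟩ := hsurj nb
    set x' := (n : G)⁻¹ * g * y * ((n : G)⁻¹ * g)⁻¹ with hx'
    have hx'C : x' ∈ C := by
      rw [hx', show (n : G)⁻¹ * g * y * ((n : G)⁻¹ * g)⁻¹ = (n : G)⁻¹ * (g * y * g⁻¹) * n by group]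
      exact mul_mem (mul_mem (inv_mem n.2) hxC) n.2
    have hx'e : (⟨x', hx'C⟩ : ↥C) = n⁻¹ * ⟨g * y * g⁻¹, hxC⟩ * n := Subtype.ext (by
      show x' = (n : G)⁻¹ * (g * y * g⁻¹) * n
      rw [hx']; group)
    have hcz : Commute (mk (⟨z, hzC⟩ : ↥C)) (mk ⟨x', hx'C⟩) := by
      have h := hnb.map (MulAut.conj (mk n)⁻¹)
      rw [MulAut.conj_apply, MulAut.conj_apply, inv_inv] at h
      rw [hx'e, map_mul, map_mul, map_inv]
      rw [show (mk n)⁻¹ * (mk n * mk (⟨z, hzC⟩ : ↥C) * (mk n)⁻¹) * mk n = mk (⟨z, hzC⟩ : ↥C) by group] at h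
      exact h.symm
    obtain ⟨k, hk, hke⟩ := hmk2 (⟨x', hx'C⟩) ((⟨z, hzC⟩ : ↥C) * ⟨x', hx'C⟩ * (⟨z, hzC⟩ : ↥C)⁻¹) (by
      rw [map_mul, map_mul, map_inv, hcz.eq, mul_inv_cancel_right])
    have hke' : z * x' * z⁻¹ = x' * k := hke
    have hkz : Commute k z := by
      obtain ⟨j, rfl⟩ := Subgroup.mem_zpowers_iff.mp hk
      exact zy.symm.zpow_left j
    have hxz : Commute x' z := by
      have hzi : z⁻¹ = z := inv_eq_of_mul_eq_one_right hzz
      have e : z * (z * x' * z⁻¹) * z⁻¹ = z * (x' * k) * z⁻¹ := by rw [hke']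
      rw [show z * (z * x' * z⁻¹) * z⁻¹ = z * z * x' * (z * z)⁻¹ by group, hzz, one_mul, inv_one, mul_one,
        show z * (x' * k) * z⁻¹ = z * x' * z⁻¹ * (z * k * z⁻¹) by group, hke', hkz.symm.eq, mul_inv_cancel_right,
        mul_assoc, left_eq_mul] at e
      rw [hB2 k hk e, mul_one] at hke'
      exact (commute_of_conj_eq hke').symm
    obtain ⟨M, eM, -, hM6⟩ := classify ((n : G)⁻¹ * g) hxz ((memC _).mp hx'C)
    have fin : ∀ (s : ↥C) (p : G) (hp : Commute p y), p * s * p⁻¹ = x' →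
        mk ⟨g * y * g⁻¹, hxC⟩ = mk (n * ⟨p, (memC p).mpr hp⟩) * mk s * (mk (n * ⟨p, (memC p).mpr hp⟩))⁻¹ := by
      intro s p hp e
      rw [← map_inv, ← map_mul, ← map_mul]
      refine congrArg mk (Subtype.ext ?_)
      show g * y * g⁻¹ = (n : G) * p * s * ((n : G) * p)⁻¹
      rw [show (n : G) * p * s * ((n : G) * p)⁻¹ = (n : G) * (p * s * p⁻¹) * (n : G)⁻¹ by group, e, hx']
      group
    obtain ⟨hu10, hgu10⟩ : ∃ c : ↥C, mk c * mk (⟨u, huC⟩ : ↥C) * (mk c)⁻¹ = (mk (⟨u, huC⟩ : ↥C))⁻¹ := by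
      obtain ⟨c, hc⟩ := hsurj (gb 10)
      exact ⟨c, by rw [hc, hgbt]; rw [← X.pt_zero, X.pt_inv]; rfl⟩
    have hm'C : m' ∈ C := (memC m').mpr (commute_of_conj_eq hm'y)
    have hwu : mk (⟨w, hwC⟩ : ↥C) = mk ⟨m', hm'C⟩ * mk (⟨u, huC⟩ : ↥C) * (mk ⟨m', hm'C⟩)⁻¹ := by
      rw [← map_inv, ← map_mul, ← map_mul]; exact congrArg mk (Subtype.ext hm'u.symm)
    have hx'y : Commute x' y := (memC _).mp hx'C
    rcases hM6 with rfl | rfl | rfl | rfl | rfl | rfl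
    · obtain ⟨p, hp, e⟩ := D.same_act eM D.el_y hx'y (Commute.refl y)
      refine absurd ?_ h1
      rw [fin ⟨y, hyC⟩ p hp e, (hmk1 ⟨y, hyC⟩).mpr (Subgroup.mem_zpowers y)]; group
    · obtain ⟨p, hp, e⟩ := D.same_act eM (D.el_y.inv H) hx'y (Commute.refl y).inv_left
      refine absurd ?_ h1
      rw [fin ⟨y, hyC⟩⁻¹ p hp e, map_inv, (hmk1 ⟨y, hyC⟩).mpr (Subgroup.mem_zpowers y)]; group
    · obtain ⟨p, hp, e⟩ := D.same_act eM D.el_u hx'y uy
      exact ⟨_, fin (⟨u, huC⟩ : ↥C) p hp e⟩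
    · obtain ⟨p, hp, e⟩ := D.same_act eM (D.el_u.inv H) hx'y uy.inv_left
      refine ⟨n * ⟨p, (memC p).mpr hp⟩ * hu10, ?_⟩
      rw [fin (⟨u, huC⟩ : ↥C)⁻¹ p hp e, map_inv mk (⟨u, huC⟩ : ↥C), ← hgu10, map_mul mk (_ * _) hu10]
      group
    · obtain ⟨p, hp, e⟩ := D.same_act eM D.el_w hx'y wy
      refine ⟨n * ⟨p, (memC p).mpr hp⟩ * ⟨m', hm'C⟩, ?_⟩
      rw [fin (⟨w, hwC⟩ : ↥C) p hp e, hwu, map_mul mk (_ * _) ⟨m', hm'C⟩]
      group
    · obtain ⟨p, hp, e⟩ := D.same_act eM (D.el_w.inv H) hx'y wy.inv_left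
      refine ⟨n * ⟨p, (memC p).mpr hp⟩ * ⟨m', hm'C⟩ * hu10, ?_⟩
      rw [fin (⟨w, hwC⟩ : ↥C)⁻¹ p hp e, map_inv mk (⟨w, hwC⟩ : ↥C), hwu, map_mul mk (_ * _) hu10, map_mul mk (_ * _) ⟨m', hm'C⟩,
        show (mk ⟨m', hm'C⟩ * mk (⟨u, huC⟩ : ↥C) * (mk ⟨m', hm'C⟩)⁻¹)⁻¹ =
          mk ⟨m', hm'C⟩ * (mk (⟨u, huC⟩ : ↥C))⁻¹ * (mk ⟨m', hm'C⟩)⁻¹ by group, ← hgu10]
      group
  · rw [e1, card_pre, c29160]
  · rw [e3', card_pre, c162]
  · rw [e1]
    rintro _ ⟨c, hc, rfl⟩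
    have hc' : mk c ∈ Nb := hc
    obtain ⟨i, hi⟩ := X.conj (mk c) ((Subgroup.mem_normalizer_iff.mp hc' _).mp X.umem)
    set h1 := (gb i)⁻¹ * mk c with hh1
    have h1u : Commute h1 (mk (⟨u, huC⟩ : ↥C)) := commute_of_conj_eq (by
      rw [hh1, show (gb i)⁻¹ * mk c * mk (⟨u, huC⟩ : ↥C) * ((gb i)⁻¹ * mk c)⁻¹ = (gb i)⁻¹ * (mk c * mk (⟨u, huC⟩ : ↥C) * (mk c)⁻¹) * gb i by group,
        hi, ← hgbt i]
      group
      )
    have h1N : h1 ∈ Nb := mul_mem (inv_mem (hnkN (hgb i))) hc'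
    obtain ⟨j, hj⟩ := X.nine_conj h1 h1u ((Subgroup.mem_normalizer_iff.mp h1N _).mp X.wmem)
    obtain ⟨k, hk, hku, hkw⟩ := X.nine_trans j
    set h2 := k⁻¹ * h1 with hh2
    have h2w : Commute h2 (mk (⟨w, hwC⟩ : ↥C)) := commute_of_conj_eq (by
      rw [hh2, show k⁻¹ * h1 * mk (⟨w, hwC⟩ : ↥C) * (k⁻¹ * h1)⁻¹ = k⁻¹ * (h1 * mk (⟨w, hwC⟩ : ↥C) * h1⁻¹) * k by group, hj, ← hkw]
      group)
    have hmem : mk c ∈ Ab ⊔ Subgroup.closure {g | g ∈ nkb} := by
      have e : mk c = gb i * (k * h2) := by rw [hh2, hh1]; group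
      rw [e]
      refine mul_mem (Subgroup.mem_sup_right (hgb i)) (mul_mem (Subgroup.mem_sup_right hk) ?_)
      rcases X.cent h2 ((hku.inv_left).mul_left h1u) h2w with h | h
      · exact Subgroup.mem_sup_left h
      · have hz' : mk (⟨z, hzC⟩ : ↥C) ∈ Ab ⊔ Subgroup.closure {g | g ∈ nkb} :=
          Subgroup.mem_sup_right (Subgroup.subset_closure X.z_nk)
        have := mul_mem (Subgroup.mem_sup_left (T := Subgroup.closure {g | g ∈ nkb}) h) (inv_mem hz')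
        rwa [mul_inv_cancel_right] at this
    have hle : Ab ⊔ Subgroup.closure {g | g ∈ nkb} ≤ (Ab.comap mk ⊔ Subgroup.closure {g | g ∈ nkC}).map mk := by
      rw [Subgroup.map_sup, Subgroup.map_comap_eq_self_of_surjective hsurj]
      exact sup_le_sup_left hclos _
    obtain ⟨d, hd, hde⟩ := hle hmem
    have hdn : d⁻¹ * c ∈ Ab.comap mk := by
      rw [Subgroup.mem_comap, map_mul, map_inv, hde, inv_mul_cancel]; exact one_mem _
    have hc2 : c ∈ Ab.comap mk ⊔ Subgroup.closure {g | g ∈ nkC} := by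
      have := mul_mem hd (Subgroup.mem_sup_left hdn)
      rwa [mul_inv_cancel_left] at this
    have := Subgroup.mem_map_of_mem C.subtype hc2
    rw [Subgroup.map_sup, MonoidHom.map_closure] at this
    refine (sup_le_sup_left (Subgroup.closure_mono ?_) _) this
    rintro _ ⟨g, hg, rfl⟩
    exact List.mem_map.mpr ⟨g, hg, rfl⟩

end CfsgLib.SuzThree
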