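import Mathlib.GroupTheory.Sylow
import Mathlib.GroupTheory.GroupAction.Quotient
import Mathlib.GroupTheory.Index
import Mathlib.Tactic

/-!
A simplicity criterion for groups of order 7920 with a subgroup of index 11.
-/

set_option autoImplicit false
set_option linter.style.haveILetI false

namespace CfsgLib.SuzThree

theorem isSimple_of_7920 {H : Type*} [Group H] [Finite H] (hcard : Nat.card H = 7920) (S : Subgroup H)
    (hS : S.index = 11) (hcore : ∀ s, (∀ h, h * s * h⁻¹ ∈ S) → s = 1) (Γ : Set H) (hΓ : S ≤ Subgroup.closure Γ)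
    (hord : ∀ x ∈ Γ, ∃ k : ℕ, k.Coprime 5 ∧ x ^ k = 1) : IsSimpleGroup H := by
  haveI : Fact (Nat.Prime 11) := ⟨by norm_num⟩
  haveI : Nontrivial H := Finite.one_lt_card_iff_nontrivial.mp (by rw [hcard]; norm_num)
  have hS720 : Nat.card S = 720 := by
    have := S.card_mul_index
    rw [hS, hcard] at this
    omega
  refine ⟨fun K hK => ?_⟩
  by_contra hne
  push Not at hne
  obtain ⟨hbot, htop⟩ := hne
  haveI := hK
  have hKS : ¬ K ≤ S := fun hle => hbot (by
    rw [eq_bot_iff]
    intro s hs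
    rw [Subgroup.mem_bot]
    exact hcore s fun h => hle (hK.conj_mem s hs h))
  have hsup : S ⊔ K = ⊤ := by
    have h1 := Subgroup.relIndex_mul_index (le_sup_left : S ≤ S ⊔ K)
    rw [hS] at h1
    rcases (Nat.dvd_prime (by norm_num : Nat.Prime 11)).mp ⟨S.relIndex (S ⊔ K), by rw [mul_comm]; exact h1.symm⟩ with h | h
    · exact Subgroup.index_eq_one.mp h
    · exfalso
      rw [h] at h1
      have h2 : S.relIndex (S ⊔ K) = 1 := by omega
      rw [Subgroup.relIndex_eq_one] at h2
      exact hKS (le_sup_right.trans h2)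
  have hidx : ∀ L : Subgroup H, L ⊔ K = ⊤ → K.index ∣ Nat.card L := by
    intro L hL
    rw [← Subgroup.relIndex_top_right, ← hL, Subgroup.relIndex_sup_right]
    exact Subgroup.relIndex_dvd_card K L
  have h720 : K.index ∣ 720 := hS720 ▸ hidx S hsup
  have h11 : 11 ∣ Nat.card K := by
    have h1 := K.card_mul_index
    rw [hcard] at h1
    refine ((Nat.Prime.dvd_mul (by norm_num)).mp (show 11 ∣ Nat.card K * K.index by rw [h1]; norm_num)).resolve_right
      fun h => ?_
    have := h.trans h720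
    norm_num at this
  obtain ⟨p, hp⟩ := exists_prime_orderOf_dvd_card' 11 h11
  have hp' : orderOf (p : H) = 11 := by rw [Subgroup.orderOf_coe]; exact hp
  set q : H := (p : H) with hq
  set Pc := Subgroup.zpowers q with hPc
  have hPcard : Nat.card Pc = 11 := by rw [hPc, Nat.card_zpowers, hp']
  let PK : Sylow 11 ↥K := Sylow.ofCard (Subgroup.zpowers p) (by
    rw [Nat.card_zpowers, hp]
    obtain ⟨m, hm⟩ := h11
    have hm11 : ¬ 11 ∣ m := by
      rintro ⟨r, hr⟩
      have h1 := K.card_mul_index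
      rw [hcard, hm, hr] at h1
      have : 121 ∣ 7920 := ⟨r * K.index, by rw [← h1]; ring⟩
      norm_num at this
    have hm0 : m ≠ 0 := by rintro rfl; exact hm11 (dvd_zero 11)
    rw [hm, Nat.factorization_mul (by norm_num) hm0, Finsupp.add_apply, Nat.Prime.factorization_self (by norm_num),
      Nat.factorization_eq_zero_of_not_dvd hm11, pow_one])
  have hfr := Sylow.normalizer_sup_eq_top PK
  rw [show ((PK : Subgroup ↥K).map K.subtype) = Pc by
    show (Subgroup.zpowers p).map K.subtype = Pc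
    rw [MonoidHom.map_zpowers]; rfl] at hfr
  -- self centralising
  have hpow : ∀ j : ℕ, q ^ j ∈ S → q ^ j = 1 := by
    intro j hj
    by_contra h
    have ho : orderOf (q ^ j) = 11 := by
      have := orderOf_pow_dvd (x := q) j
      rw [hp'] at this
      rcases (Nat.dvd_prime (by norm_num : Nat.Prime 11)).mp this with e | e
      · exact absurd (orderOf_eq_one_iff.mp e) h
      · exact e
    have := Subgroup.orderOf_dvd_natCard S hj
    rw [ho, hS720] at this
    norm_num at this
  have hcov : ∀ h : H, ∃ j : ℕ, ∃ s ∈ S, h = q ^ j * s := by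
    intro h
    let f : Fin 11 → H ⧸ S := fun j => ((q ^ (j : ℕ) : H) : H ⧸ S)
    have hf : Function.Injective f := by
      intro i j e
      have key : ∀ {i j : Fin 11}, (j : ℕ) ≤ i → f i = f j → i = j := by
        intro i j hle e
        have h1 : (q ^ (j : ℕ))⁻¹ * q ^ (i : ℕ) ∈ S := QuotientGroup.eq.mp e.symm
        have h2 : (q ^ (j : ℕ))⁻¹ * q ^ (i : ℕ) = q ^ ((i : ℕ) - j) := by
          rw [inv_mul_eq_iff_eq_mul, ← pow_add, Nat.add_sub_cancel' hle]
        rw [h2] at h1
        have h3 := orderOf_dvd_of_pow_eq_one (hpow _ h1)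
        rw [hp'] at h3
        have := Nat.eq_zero_of_dvd_of_lt h3 (by omega)
        exact Fin.ext (by omega)
      rcases le_total (j : ℕ) i with hle | hle
      exacts [key hle e, (key hle e.symm).symm]
    have hb := (Nat.bijective_iff_injective_and_card f).mpr ⟨hf, by rw [Nat.card_fin, ← Subgroup.index_eq_card, hS]⟩
    obtain ⟨j, hj⟩ := hb.2 (h : H ⧸ S)
    exact ⟨j, (q ^ (j : ℕ))⁻¹ * h, QuotientGroup.eq.mp hj, (mul_inv_cancel_left _ _).symm⟩
  have hcen : ∀ c : H, Commute c q → ∃ j : ℕ, c = q ^ j := by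
    intro c hc
    obtain ⟨j, s, hs, rfl⟩ := hcov c
    refine ⟨j, ?_⟩
    have hsq : Commute s q := by
      have := ((Commute.refl q).pow_left j).inv_left.mul_left hc
      rwa [inv_mul_cancel_left] at this
    rw [hcore s fun h => ?_, mul_one]
    obtain ⟨i, t, ht, e⟩ := hcov h⁻¹
    have eh : h = t⁻¹ * (q ^ i)⁻¹ := by rw [← inv_inv h, e, mul_inv_rev]
    rw [eh, show t⁻¹ * (q ^ i)⁻¹ * s * (t⁻¹ * (q ^ i)⁻¹)⁻¹ = t⁻¹ * ((q ^ i)⁻¹ * s * q ^ i) * t by group,
      (hsq.pow_right i).inv_right.eq.symm, inv_mul_cancel_right]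
    exact mul_mem (mul_mem (inv_mem ht) hs) ht
  set N := Subgroup.normalizer (Pc : Set H) with hN
  have hexp : ∀ n : N, ∃ a : Fin 11, (a : ℕ) ≠ 0 ∧ (n : H) * q * (n : H)⁻¹ = q ^ (a : ℕ) := by
    intro n
    have h1 : (n : H) * q * (n : H)⁻¹ ∈ Pc := (Subgroup.mem_normalizer_iff.mp n.2 q).mp (Subgroup.mem_zpowers q)
    obtain ⟨k, hk⟩ := Subgroup.mem_zpowers_iff.mp h1
    have h11' : q ^ ((11 : ℕ) : ℤ) = 1 := by rw [zpow_natCast, ← hp', pow_orderOf_eq_one]
    have hk' : q ^ k = q ^ (k % 11).toNat := by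
      rw [← zpow_natCast, Int.toNat_of_nonneg (Int.emod_nonneg _ (by norm_num))]
      conv_lhs => rw [← Int.mul_ediv_add_emod k 11, zpow_add, zpow_mul]
      rw [show ((11 : ℤ)) = ((11 : ℕ) : ℤ) from rfl, h11', one_zpow, one_mul]
    refine ⟨⟨(k % 11).toNat, by omega⟩, fun h0 => ?_, by rw [← hk, hk']⟩
    have h0' : (k % 11).toNat = 0 := h0
    rw [hk', h0', pow_zero] at hk
    have := (conj_eq_one_iff).mp hk.symm
    rw [this, orderOf_one] at hp'
    norm_num at hp'
  have hN110 : Nat.card N ≤ 110 := by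
    classical
    choose a ha0 ha using hexp
    let A10 := {x : Fin 11 // (x : ℕ) ≠ 0}
    let rep : A10 → H := fun x => if h : ∃ n : N, a n = x.1 then ((Classical.choose h : N) : H) else 1
    have hsurj : ∀ n : N, ∃ x : A10, ∃ c : Fin 11, (n : H) = rep x * q ^ (c : ℕ) := by
      intro n
      refine ⟨⟨a n, ha0 n⟩, ?_⟩
      have hex : ∃ m : N, a m = a n := ⟨n, rfl⟩
      simp only [rep, dif_pos hex]
      set m := Classical.choose hex with hm
      have hme := Classical.choose_spec hex
      rw [← hm] at hme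
      have hc : Commute ((m : H)⁻¹ * n) q := by
        have e : (n : H) * q * (n : H)⁻¹ = (m : H) * q * (m : H)⁻¹ := by rw [ha n, ha m, hme]
        show (m : H)⁻¹ * n * q = q * ((m : H)⁻¹ * n)
        calc (m : H)⁻¹ * n * q = (m : H)⁻¹ * ((n : H) * q * (n : H)⁻¹) * n := by group
          _ = (m : H)⁻¹ * ((m : H) * q * (m : H)⁻¹) * n := by rw [e]
          _ = _ := by group
      obtain ⟨j, hj⟩ := hcen _ hc
      refine ⟨⟨j % 11, Nat.mod_lt _ (by norm_num)⟩, ?_⟩
      show (n : H) = _ * q ^ (j % 11)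
      rw [← hp', pow_mod_orderOf, ← hj, mul_inv_cancel_left]
    choose x c hxc using hsurj
    have hle := Nat.card_le_card_of_injective (fun n : N => (x n, c n)) fun n n' e => by
      have e1 := congrArg Prod.fst e
      have e2 := congrArg Prod.snd e
      simp only at e1 e2
      exact Subtype.ext (by rw [hxc n, hxc n', e1, e2])
    refine hle.trans ?_
    rw [Nat.card_prod, Nat.card_eq_fintype_card, Nat.card_fin]
    have : Fintype.card A10 = 10 := by decide
    rw [this]
  have hPle : Pc ≤ N := Subgroup.le_normalizer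
  have hN11 : 11 ∣ Nat.card N := hPcard ▸ Subgroup.card_dvd_of_le hPle
  let P : Sylow 11 H := Sylow.ofCard Pc (by
    rw [hPcard, hcard, show (7920 : ℕ) = 11 * 720 by norm_num, Nat.factorization_mul (by norm_num) (by norm_num),
      Finsupp.add_apply, Nat.Prime.factorization_self (by norm_num),
      Nat.factorization_eq_zero_of_not_dvd (by norm_num), pow_one])
  have hmod : N.index % 11 = 1 := by
    have h := card_sylow_modEq_one 11 H
    rw [Sylow.card_eq_index_normalizer P] at h
    exact h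
  have hN55 : Nat.card N = 55 := by
    have h1 := N.card_mul_index
    rw [hcard] at h1
    obtain ⟨m, hm⟩ := hN11
    rw [hm] at h1 hN110 ⊢
    have hm10 : m ≤ 10 := by omega
    interval_cases m <;> omega
  have hK5 : K.index = 5 := by
    have h55 := hN55 ▸ hidx N hfr
    have hg := Nat.dvd_gcd h720 h55
    rw [show Nat.gcd 720 55 = 5 by norm_num] at hg
    exact ((Nat.dvd_prime (by norm_num : Nat.Prime 5)).mp hg).resolve_left fun h => htop (Subgroup.index_eq_one.mp h)
  have hSK : S ≤ K := by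
    refine hΓ.trans ((Subgroup.closure_le _).mpr fun x hx => ?_)
    obtain ⟨k, hk, hxk⟩ := hord x hx
    rw [SetLike.mem_coe, ← QuotientGroup.eq_one_iff, ← orderOf_eq_one_iff]
    refine Nat.eq_one_of_dvd_coprimes hk (orderOf_dvd_of_pow_eq_one ?_) ?_
    · rw [← QuotientGroup.mk_pow, hxk]; rfl
    · rw [← hK5, Subgroup.index_eq_card]; exact orderOf_dvd_natCard _
  have h720K := Subgroup.card_dvd_of_le hSK
  have h1 := K.card_mul_index
  rw [hK5, hcard] at h1
  rw [hS720, show Nat.card K = 1584 by omega] at h720K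
  norm_num at h720K

end CfsgLib.SuzThree
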