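import Cfsg.Agent.Lib.SuzThree.Lift
import Cfsg.Agent.Lib.SuzThree.M11Simple
import Cfsg.Agent.Lib.M11Unique.Recognize

/-!
The normalizer of the subgroup of order 243.
-/

set_option autoImplicit false
set_option maxRecDepth 100000
set_option maxHeartbeats 1000000
set_option linter.style.haveILetI false

namespace CfsgLib.SuzThree

open CfsgLib.SuzType CfsgLib.Extraspecial
open CfsgLib.UFourType (SL23 sI sU sZ sl_z)

variable {G : Type*} [Group G] [Finite G] {z y : G} {Q : Subgroup G} {v : G → V6} {α β : SL23 →* G}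
  {A : Subgroup G} {nk : List G} {t : Fin 20 → G}

theorem mem_normalizer_zpowers {y g : G} (hy : y * y * y = 1) (hne : y ≠ 1) :
    g ∈ Subgroup.normalizer (Subgroup.zpowers y : Set G) ↔ g * y * g⁻¹ = y ∨ g * y * g⁻¹ = y⁻¹ := by
  have y3 : y ^ 3 = 1 := by rw [pow_succ, pow_two, hy]
  constructor
  · intro hg
    obtain ⟨m, hm⟩ := Subgroup.mem_zpowers_iff.mp ((Subgroup.mem_normalizer_iff.mp hg y).mp (Subgroup.mem_zpowers y))
    have hm' : y ^ m = y ^ (m % 3) := zpow_eq_zpow_emod' m y3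
    rcases (by omega : m % 3 = 0 ∨ m % 3 = 1 ∨ m % 3 = 2) with h | h | h <;> rw [hm', h] at hm
    · rw [zpow_zero, eq_comm, conj_eq_one_iff] at hm; exact absurd hm hne
    · exact Or.inl (hm.symm.trans (zpow_one y))
    · exact Or.inr (hm.symm.trans ((zpow_two y).trans (eq_inv_of_mul_eq_one_left hy)))
  · intro h
    have hmap : (Subgroup.zpowers y).map (MulAut.conj g).toMonoidHom = Subgroup.zpowers y := by
      rw [MonoidHom.map_zpowers]
      show Subgroup.zpowers (g * y * g⁻¹) = Subgroup.zpowers y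
      rcases h with h | h <;> rw [h]
      exact Subgroup.zpowers_inv
    rw [Subgroup.mem_normalizer_iff]
    intro x
    conv_rhs => rw [← hmap]
    show x ∈ Subgroup.zpowers y ↔ MulAut.conj g x ∈ (Subgroup.zpowers y).map (MulAut.conj g).toMonoidHom
    exact (Subgroup.mem_map_iff_mem (MulAut.conj g).injective).symm

theorem conj_mul5 {g a b c d e : G} : g * (a * b * c * d * e) * g⁻¹ =
    g * a * g⁻¹ * (g * b * g⁻¹) * (g * c * g⁻¹) * (g * d * g⁻¹) * (g * e * g⁻¹) := by group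

theorem conj_pw {g a : G} (n : ℕ) : g * a ^ n * g⁻¹ = (g * a * g⁻¹) ^ n := conj_pow.symm

namespace Tor

variable {u w : G} (T : Tor z y u w A nk t)
include T

theorem inv_eq {a : G} (ha : a ∈ A) : a⁻¹ = a ^ 2 := by
  rw [pow_two]; exact (eq_inv_of_mul_eq_one_left (T.cube a ha)).symm

theorem pow_mod {a : G} (ha : a ∈ A) (n : ℕ) : a ^ (n % 3) = a ^ n :=
  (pow_eq_pow_mod n (by rw [pow_succ, pow_two]; exact T.cube a ha)).symm

/-- A conjugation into the subgroup normalises it. -/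
theorem mem_normalizer {g : G} (hy : g⁻¹ * y * g ∈ A) (hu : g⁻¹ * u * g ∈ A) (hw : g⁻¹ * w * g ∈ A) :
    g ∈ Subgroup.normalizer (A : Set G) := by
  have key : ∀ {a s : G}, a ∈ A → g⁻¹ * s * g ∈ A → Commute (g * a * g⁻¹) s := by
    intro a s ha hs
    have h := (show Commute a (g⁻¹ * s * g) from T.comm a ha _ hs).map (MulAut.conj g)
    rw [MulAut.conj_apply, MulAut.conj_apply, show g * (g⁻¹ * s * g) * g⁻¹ = s by group] at h
    exact h
  have hmap : A.map (MulAut.conj g).toMonoidHom = A := by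
    refine Subgroup.eq_of_le_of_card_ge ?_ (by rw [Subgroup.card_map_of_injective (MulAut.conj g).injective])
    rintro _ ⟨a, ha, rfl⟩
    exact T.cube_mem _ (key ha hy) (key ha hu) (key ha hw) (cube_conj (T.cube a ha))
  rw [Subgroup.mem_normalizer_iff]
  intro x
  conv_rhs => rw [← hmap]
  show x ∈ A ↔ MulAut.conj g x ∈ A.map (MulAut.conj g).toMonoidHom
  exact (Subgroup.mem_map_iff_mem (MulAut.conj g).injective).symm

end Tor

/-- The signs of an element fixing the lines. -/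
theorem Tor.signs {u w : G} (T : Tor z y u w A nk t) {g : G} (hg : g * y * g⁻¹ = y ∨ g * y * g⁻¹ = y⁻¹)
    (hw : g * w * g⁻¹ = w ∨ g * w * g⁻¹ = w⁻¹)
    (hfix : ∀ i, g * t i * g⁻¹ = t i ∨ g * t i * g⁻¹ = (t i)⁻¹) :
    ∃ i2 i3, (∀ a ∈ A, ∃ k e0 e1 e2 e3 : ℕ, a = y ^ k * u ^ e0 * w ^ e1 * t i2 ^ e2 * t i3 ^ e3) ∧
      ∃ σ : ℕ, (σ = 1 ∨ σ = 2) ∧ g * u * g⁻¹ = u ^ σ ∧ g * w * g⁻¹ = w ^ σ ∧ g * t i2 * g⁻¹ = t i2 ^ σ ∧
        g * t i3 * g⁻¹ = t i3 ^ σ := by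
  obtain ⟨i2, i3, i, hgen, k, hk⟩ := T.base
  refine ⟨i2, i3, hgen, ?_⟩
  let F : Fin 3 × Fin 3 × Fin 3 × Fin 3 × Fin 3 → A := fun e =>
    ⟨y ^ (e.1 : ℕ) * u ^ (e.2.1 : ℕ) * w ^ (e.2.2.1 : ℕ) * t i2 ^ (e.2.2.2.1 : ℕ) * t i3 ^ (e.2.2.2.2 : ℕ),
      mul_mem (mul_mem (mul_mem (mul_mem (pow_mem T.ymem _) (pow_mem T.umem _)) (pow_mem T.wmem _))
        (pow_mem (T.t_mem _) _)) (pow_mem (T.t_mem _) _)⟩
  have hF : Function.Surjective F := by
    rintro ⟨a, ha⟩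
    obtain ⟨c, e0, e1, e2, e3, rfl⟩ := hgen a ha
    refine ⟨(⟨c % 3, Nat.mod_lt _ (by norm_num)⟩, ⟨e0 % 3, Nat.mod_lt _ (by norm_num)⟩, ⟨e1 % 3, Nat.mod_lt _ (by norm_num)⟩,
      ⟨e2 % 3, Nat.mod_lt _ (by norm_num)⟩, ⟨e3 % 3, Nat.mod_lt _ (by norm_num)⟩), Subtype.ext ?_⟩
    show y ^ (c % 3) * u ^ (e0 % 3) * w ^ (e1 % 3) * t i2 ^ (e2 % 3) * t i3 ^ (e3 % 3) = _
    rw [T.pow_mod T.ymem, T.pow_mod T.umem, T.pow_mod T.wmem, T.pow_mod (T.t_mem _), T.pow_mod (T.t_mem _)]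
  have hFi := ((Nat.bijective_iff_surjective_and_card F).mpr ⟨hF, by
    rw [T.card, Nat.card_prod, Nat.card_prod, Nat.card_prod, Nat.card_prod, Nat.card_fin]⟩).1
  have uniq : ∀ {a b c d e a' b' c' d' e' : ℕ},
      y ^ a * u ^ b * w ^ c * t i2 ^ d * t i3 ^ e = y ^ a' * u ^ b' * w ^ c' * t i2 ^ d' * t i3 ^ e' →
      b % 3 = b' % 3 ∧ c % 3 = c' % 3 ∧ d % 3 = d' % 3 ∧ e % 3 = e' % 3 := by
    intro a b c d e a' b' c' d' e' h
    rw [← T.pow_mod T.ymem a, ← T.pow_mod T.ymem a', ← T.pow_mod T.umem b, ← T.pow_mod T.umem b',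
      ← T.pow_mod T.wmem c, ← T.pow_mod T.wmem c', ← T.pow_mod (T.t_mem _) d, ← T.pow_mod (T.t_mem _) d',
      ← T.pow_mod (T.t_mem _) e, ← T.pow_mod (T.t_mem _) e'] at h
    have := @hFi (⟨a % 3, Nat.mod_lt _ (by norm_num)⟩, ⟨b % 3, Nat.mod_lt _ (by norm_num)⟩, ⟨c % 3, Nat.mod_lt _ (by norm_num)⟩,
      ⟨d % 3, Nat.mod_lt _ (by norm_num)⟩, ⟨e % 3, Nat.mod_lt _ (by norm_num)⟩)
      (⟨a' % 3, Nat.mod_lt _ (by norm_num)⟩, ⟨b' % 3, Nat.mod_lt _ (by norm_num)⟩, ⟨c' % 3, Nat.mod_lt _ (by norm_num)⟩,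
      ⟨d' % 3, Nat.mod_lt _ (by norm_num)⟩, ⟨e' % 3, Nat.mod_lt _ (by norm_num)⟩) (Subtype.ext h)
    simp only [Prod.mk.injEq, Fin.mk.injEq] at this
    exact this.2
  have sgn : ∀ {a : G}, a ∈ A → g * a * g⁻¹ = a ∨ g * a * g⁻¹ = a⁻¹ →
      ∃ s, (s = 1 ∨ s = 2) ∧ g * a * g⁻¹ = a ^ s := by
    rintro a ha (h | h)
    · exact ⟨1, Or.inl rfl, by rw [h, pow_one]⟩
    · exact ⟨2, Or.inr rfl, by rw [h, T.inv_eq ha]⟩
  obtain ⟨sy, -, ey⟩ := sgn T.ymem hg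
  obtain ⟨su, hsu, eu⟩ := sgn T.umem (by rw [← T.t_zero]; exact hfix 0)
  obtain ⟨sw, hsw, ew⟩ := sgn T.wmem hw
  obtain ⟨s2, hs2, e2⟩ := sgn (T.t_mem i2) (hfix i2)
  obtain ⟨s3, hs3, e3⟩ := sgn (T.t_mem i3) (hfix i3)
  obtain ⟨σ, hσ, et⟩ := sgn (T.t_mem i) (hfix i)
  have c : ∀ {a b : G}, a ∈ A → b ∈ A → Commute a b := fun ha hb => T.comm _ ha _ hb
  have m1 : y ^ k * u ∈ A := mul_mem (pow_mem T.ymem _) T.umem
  have m2 := mul_mem m1 T.wmem
  have m3 := mul_mem m2 (T.t_mem i2)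
  have e' : y ^ (sy * k) * u ^ su * w ^ sw * t i2 ^ s2 * t i3 ^ s3 = y ^ (k * σ) * u ^ σ * w ^ σ * t i2 ^ σ * t i3 ^ σ := by
    have h := et
    rw [hk, conj_mul5, conj_pw, ey, eu, ew, e2, e3, ← pow_mul, (c m3 (T.t_mem i3)).mul_pow,
      (c m2 (T.t_mem i2)).mul_pow, (c m1 T.wmem).mul_pow, (c (pow_mem T.ymem _) T.umem).mul_pow, ← pow_mul] at h
    exact h
  obtain ⟨q1, q2, q3, q4⟩ := uniq e'
  obtain rfl : su = σ := by omega
  obtain rfl : sw = su := by omega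
  obtain rfl : s2 = sw := by omega
  obtain rfl : s3 = s2 := by omega
  exact ⟨s3, hσ, eu, ew, e2, e3⟩

namespace GD

variable (D : GD z Q v y α β) (T : Tor z y (α sU) (β sU) A nk t)
include D T

theorem norm_m : ∃ m, m ∈ Subgroup.normalizer (A : Set G) ∧ m * y * m⁻¹ = α sU ∧ m * α sU * m⁻¹ = y ∧
    m * β sU * m⁻¹ = β sU := by
  obtain ⟨m, -, h1, h2, h3⟩ := D.exists_m
  refine ⟨m, T.mem_normalizer ?_ ?_ ?_, h1, h2, h3⟩
  · rw [show m⁻¹ * y * m = α sU by rw [← h2]; group]; exact T.umem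
  · rw [show m⁻¹ * α sU * m = y by rw [← h1]; group]; exact T.ymem
  · rw [show m⁻¹ * β sU * m = β sU by nth_rewrite 1 [← h3]; group]; exact T.wmem

theorem norm_m23 : ∃ m, m ∈ Subgroup.normalizer (A : Set G) ∧ m * y * m⁻¹ = y ∧ m * α sU * m⁻¹ = β sU := by
  obtain ⟨m, -, h1, h2, h3⟩ := D.exists_m23
  refine ⟨m, T.mem_normalizer ?_ ?_ ?_, h1, h2⟩
  · rw [show m⁻¹ * y * m = y by nth_rewrite 1 [← h1]; group]; exact T.ymem
  · rw [show m⁻¹ * α sU * m = β sU by rw [← h3]; group]; exact T.wmem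
  · rw [show m⁻¹ * β sU * m = α sU by rw [← h2]; group]; exact T.umem

theorem norm_c0 : ∃ c, c ∈ Subgroup.normalizer (A : Set G) ∧ c * y * c⁻¹ = y⁻¹ ∧ c ^ 8 = 1 := by
  obtain ⟨c, -, -, h1, h2, h3, h8⟩ := D.exists_c0
  refine ⟨c, T.mem_normalizer ?_ ?_ ?_, h1, h8⟩
  · rw [show c⁻¹ * y * c = (c⁻¹ * y⁻¹ * c)⁻¹ by group, show c⁻¹ * y⁻¹ * c = y by rw [← h1]; group]
    exact inv_mem T.ymem
  · rw [show c⁻¹ * α sU * c = (c⁻¹ * (α sU)⁻¹ * c)⁻¹ by group, show c⁻¹ * (α sU)⁻¹ * c = α sU by rw [← h2]; group]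
    exact inv_mem T.umem
  · rw [show c⁻¹ * β sU * c = β sU by nth_rewrite 1 [← h3]; group]; exact T.wmem

theorem y_ne_inv : y⁻¹ ≠ y := fun e => D.yd.ne_one (eq_one_of_cube_sq D.yd.cube (inv_eq_iff_mul_eq_one.mp e))

theorem card_normalizer : Nat.card ↥(Subgroup.normalizer (A : Set G)) = 1924560 := by
  obtain ⟨m, hmA, hmy, -, -⟩ := D.norm_m T
  obtain ⟨c, hcA, hcy, -⟩ := D.norm_c0 T
  have hne := D.y_ne_inv T
  rw [orbit_card (x := y) (Sum.elim (fun b : Bool => if b then y else y⁻¹) t) ?_ ?_ ?_, T.card_stab, Nat.card_sum,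
    Nat.card_fin, Nat.card_eq_fintype_card, Fintype.card_bool]
  · rintro (b | i) (b' | j) e
    · cases b <;> cases b' <;> simp [hne, Ne.symm hne] at e ⊢
    · cases b <;> simp at e
      · exact absurd e.symm (T.t_ne j).2
      · exact absurd e.symm (T.t_ne j).1
    · cases b' <;> simp at e
      · exact absurd e (T.t_ne i).2
      · exact absurd e (T.t_ne i).1
    · exact congrArg Sum.inr (T.t_inj e)
  · rintro (b | i)
    · cases b
      · exact ⟨c, hcA, hcy⟩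
      · exact ⟨1, one_mem _, by simp⟩
    · obtain ⟨g, hg, -, hgu⟩ := T.t_trans i
      refine ⟨g * m, mul_mem hg hmA, ?_⟩
      rw [show g * m * y * (g * m)⁻¹ = g * (m * y * m⁻¹) * g⁻¹ by group, hmy, hgu]
      rfl
  · intro g hg
    rcases T.t_complete g ((Subgroup.mem_normalizer_iff.mp hg y).mp T.ymem) with h | h | ⟨i, h⟩
    exacts [⟨Sum.inl true, h⟩, ⟨Sum.inl false, h⟩, ⟨Sum.inr i, h⟩]

theorem card_line : Nat.card ↥(Subgroup.normalizer (A : Set G) ⊓ Subgroup.normalizer (Subgroup.zpowers y : Set G)) =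
    174960 := by
  obtain ⟨c, hcA, hcy, -⟩ := D.norm_c0 T
  have hne := D.y_ne_inv T
  have hmem := fun g => mem_normalizer_zpowers (g := g) D.yd.cube D.yd.ne_one
  have heq : Subgroup.normalizer (A : Set G) ⊓ Subgroup.normalizer (Subgroup.zpowers y : Set G) ⊓
      Subgroup.centralizer ({y} : Set G) = Subgroup.normalizer (A : Set G) ⊓ Subgroup.centralizer ({y} : Set G) := by
    ext g
    simp only [Subgroup.mem_inf]
    refine ⟨fun h => ⟨h.1.1, h.2⟩, fun h => ⟨⟨h.1, (hmem g).mpr (Or.inl ?_)⟩, h.2⟩⟩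
    rw [Subgroup.mem_centralizer_singleton_iff.mp h.2, mul_inv_cancel_right]
  rw [orbit_card (x := y) (fun b : Bool => if b then y else y⁻¹) ?_ ?_ ?_, heq, T.card_stab, Nat.card_eq_fintype_card,
    Fintype.card_bool]
  · intro b b' e
    cases b <;> cases b' <;> simp [hne, Ne.symm hne] at e ⊢
  · intro b
    cases b
    · exact ⟨c, ⟨hcA, (hmem c).mpr (Or.inr hcy)⟩, hcy⟩
    · exact ⟨1, one_mem _, by simp⟩
  · rintro g ⟨-, hg⟩
    rcases (hmem g).mp hg with h | h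
    exacts [⟨true, h⟩, ⟨false, h⟩]

/-- An element of the normalizer fixing all eleven lines lies in the subgroup. -/
theorem mem_of_fix {g : G} (hgA : g ∈ Subgroup.normalizer (A : Set G))
    (hall : ∀ k ∈ Subgroup.normalizer (A : Set G), g * (k * y * k⁻¹) * g⁻¹ = k * y * k⁻¹ ∨
      g * (k * y * k⁻¹) * g⁻¹ = (k * y * k⁻¹)⁻¹) : g ∈ A := by
  have H := D.yd.co
  obtain ⟨m, hmA, hmy, hmu, hmw⟩ := D.norm_m T
  obtain ⟨m', hm'A, hm'y, hm'u⟩ := D.norm_m23 T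
  have facts : ∀ h : G, (∀ k ∈ Subgroup.normalizer (A : Set G), h * (k * y * k⁻¹) * h⁻¹ = k * y * k⁻¹ ∨
      h * (k * y * k⁻¹) * h⁻¹ = (k * y * k⁻¹)⁻¹) →
      (h * y * h⁻¹ = y ∨ h * y * h⁻¹ = y⁻¹) ∧ (h * β sU * h⁻¹ = β sU ∨ h * β sU * h⁻¹ = (β sU)⁻¹) ∧
        ∀ i, h * t i * h⁻¹ = t i ∨ h * t i * h⁻¹ = (t i)⁻¹ := by
    intro h hh
    refine ⟨?_, ?_, fun i => ?_⟩
    · simpa using hh 1 (one_mem _)
    · have := hh _ (mul_mem hm'A hmA)
      rwa [show m' * m * y * (m' * m)⁻¹ = m' * (m * y * m⁻¹) * m'⁻¹ by group, hmy, hm'u] at this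
    · obtain ⟨k, hk, -, hku⟩ := T.t_trans i
      have := hh _ (mul_mem hk hmA)
      rwa [show k * m * y * (k * m)⁻¹ = k * (m * y * m⁻¹) * k⁻¹ by group, hmy, hku] at this
  have hall' : ∀ k ∈ Subgroup.normalizer (A : Set G), m * g * m⁻¹ * (k * y * k⁻¹) * (m * g * m⁻¹)⁻¹ = k * y * k⁻¹ ∨
      m * g * m⁻¹ * (k * y * k⁻¹) * (m * g * m⁻¹)⁻¹ = (k * y * k⁻¹)⁻¹ := by
    intro k hk
    rw [show m * g * m⁻¹ * (k * y * k⁻¹) * (m * g * m⁻¹)⁻¹ = m * (g * (m⁻¹ * k * y * (m⁻¹ * k)⁻¹) * g⁻¹) * m⁻¹ by group]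
    rcases hall _ (mul_mem (inv_mem hmA) hk) with h | h <;> rw [h]
    · left; group
    · right; group
  obtain ⟨hy, hw, hfix⟩ := facts g hall
  obtain ⟨hy', hw', hfix'⟩ := facts _ hall'
  obtain ⟨i2, i3, hgen, σ, hσ, eu, ew, e2, e3⟩ := T.signs hy hw hfix
  obtain ⟨-, -, -, σ', hσ', eu', ew', -, -⟩ := T.signs hy' hw' hfix'
  have wne : β sU ≠ 1 := fun e => by
    have h := act_unique H D.ba (e ▸ act_inner H (one_mem Q))
    exact absurd (eqL_iff.mpr h) (by decide)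
  have hσσ : σ = σ' := by
    rw [show m * g * m⁻¹ * β sU * (m * g * m⁻¹)⁻¹ = m * (g * (m⁻¹ * β sU * m) * g⁻¹) * m⁻¹ by group,
      show m⁻¹ * β sU * m = β sU by nth_rewrite 1 [← hmw]; group, ew, conj_pw, hmw] at ew'
    by_contra hne
    rcases hσ with rfl | rfl <;> rcases hσ' with rfl | rfl <;> first | exact hne rfl | skip
    all_goals rw [pow_one, pow_two] at ew'
    · exact wne (mul_eq_left.mp ew'.symm)
    · exact wne (mul_eq_left.mp ew')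
  have ey : g * y * g⁻¹ = y ^ σ := by
    rw [show m * g * m⁻¹ * α sU * (m * g * m⁻¹)⁻¹ = m * (g * (m⁻¹ * α sU * m) * g⁻¹) * m⁻¹ by group,
      show m⁻¹ * α sU * m = y by rw [← hmy]; group] at eu'
    calc g * y * g⁻¹ = m⁻¹ * (m * (g * y * g⁻¹) * m⁻¹) * m⁻¹⁻¹ := by group
      _ = (m⁻¹ * α sU * m⁻¹⁻¹) ^ σ := by rw [eu', hσσ, conj_pw]
      _ = _ := by rw [inv_inv, show m⁻¹ * α sU * m = y by rw [← hmy]; group]
  have hpow : ∀ a ∈ A, g * a * g⁻¹ = a ^ σ := by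
    intro a ha
    obtain ⟨k, e0, e1, e2', e3', rfl⟩ := hgen a ha
    have c : ∀ {a b : G}, a ∈ A → b ∈ A → Commute a b := fun ha hb => T.comm _ ha _ hb
    have m1 := mul_mem (pow_mem T.ymem k) (pow_mem T.umem e0)
    have m2 := mul_mem m1 (pow_mem T.wmem e1)
    have m3 := mul_mem m2 (pow_mem (T.t_mem i2) e2')
    rw [conj_mul5, conj_pw, conj_pw, conj_pw, conj_pw, conj_pw, ey, eu, ew, e2, e3,
      (c m3 (pow_mem (T.t_mem i3) _)).mul_pow, (c m2 (pow_mem (T.t_mem i2) _)).mul_pow,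
      (c m1 (pow_mem T.wmem _)).mul_pow, (c (pow_mem T.ymem _) (pow_mem T.umem _)).mul_pow]
    simp only [← pow_mul, mul_comm σ]
  rcases hσ with rfl | rfl
  · exact T.cent g fun a ha => commute_of_conj_eq (by rw [hpow a ha, pow_one])
  exfalso
  have hinv : ∀ a ∈ A, g * a * g⁻¹ = a⁻¹ := fun a ha => by rw [hpow a ha, T.inv_eq ha]
  have hcz : ∀ a ∈ A, Commute a z → Commute (g * z * g⁻¹) a := fun a ha haz => by
    have h := (Commute.inv_left haz).map (MulAut.conj g)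
    rw [MulAut.conj_apply, MulAut.conj_apply, hinv _ (inv_mem ha), inv_inv] at h
    exact h.symm
  have huz : Commute (α sU) z := (mem_Cz.mp D.au).1
  have hwz : Commute (β sU) z := (mem_Cz.mp D.bu).1
  have hzz : z * z = 1 := H.st.zz
  obtain ⟨b, hb, hbz⟩ := T.invol_mem _ (hcz y T.ymem D.yd.yz) (hcz _ T.umem huz) (hcz _ T.wmem hwz)
    (by rw [show g * z * g⁻¹ * (g * z * g⁻¹) = g * (z * z) * g⁻¹ by group, hzz]; group)
    (fun e => H.st.ne_one (conj_eq_one_iff.mp e))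
  have hh : ∀ a ∈ A, b⁻¹ * g * a * (b⁻¹ * g)⁻¹ = a⁻¹ := fun a ha => by
    rw [show b⁻¹ * g * a * (b⁻¹ * g)⁻¹ = b⁻¹ * (g * a * g⁻¹) * b by group, hinv a ha, mul_assoc,
      T.comm _ (inv_mem ha) b hb, inv_mul_cancel_left]
  refine D.not_invert_all (h := b⁻¹ * g) ?_ (hh y T.ymem) (hh _ T.umem) (hh _ T.wmem)
  calc b⁻¹ * g * z = b⁻¹ * (g * z * g⁻¹) * g := by group
    _ = b⁻¹ * (b * z * b⁻¹) * g := by rw [hbz]
    _ = _ := by group

theorem quotient_m11 (hn : (A.subgroupOf (Subgroup.normalizer (A : Set G))).Normal) :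
    Cfsg.Spor.IsoM11 (↥(Subgroup.normalizer (A : Set G)) ⧸ A.subgroupOf (Subgroup.normalizer (A : Set G))) := by
  classical
  obtain ⟨c, hcA, hcy, hc8⟩ := D.norm_c0 T
  have hcard := D.card_normalizer T
  have hline := D.card_line T
  have hmem := fun g => mem_normalizer_zpowers (g := g) D.yd.cube D.yd.ne_one
  set NA := Subgroup.normalizer (A : Set G) with hNA
  set A' := A.subgroupOf NA with hA'
  haveI := hn
  set mk : ↥NA →* ↥NA ⧸ A' := QuotientGroup.mk' A' with hmk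
  have hsurj : Function.Surjective mk := QuotientGroup.mk'_surjective A'
  have hA'card : Nat.card A' = 243 := by
    rw [hA', Nat.card_congr (Subgroup.subgroupOfEquivOfLe (show A ≤ NA from Subgroup.le_normalizer)).toEquiv, T.card]
  have hH : Nat.card (↥NA ⧸ A') = 7920 := by
    have h := A'.card_eq_card_quotient_mul_card_subgroup
    rw [hA'card, hcard] at h
    omega
  set Sg := (Subgroup.normalizer (Subgroup.zpowers y : Set G)).subgroupOf NA with hSg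
  have hA'Sg : A' ≤ Sg := fun a ha => by
    rw [hSg, Subgroup.mem_subgroupOf, hmem]
    exact Or.inl (show (a : G) * y * (a : G)⁻¹ = y by rw [T.comm (a : G) ha _ T.ymem, mul_inv_cancel_right])
  have hker : mk.ker ≤ Sg := by rw [hmk, QuotientGroup.ker_mk']; exact hA'Sg
  set S := Sg.map mk with hS
  have hSi : S.index = 11 := by
    rw [hS, Subgroup.index_map_eq Sg hsurj hker]
    have h := Sg.card_mul_index
    have h2 : Nat.card ↥Sg = 174960 := by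
      rw [hSg, ← Subgroup.inf_subgroupOf_left, Nat.card_congr (Subgroup.subgroupOfEquivOfLe inf_le_left).toEquiv, hline]
    rw [hcard] at h
    rw [h2] at h
    omega
  let Γ₀ : Set ↥NA := {g | (g : G) ∈ nk} ∪ {⟨c, hcA⟩}
  have hsimple : IsSimpleGroup (↥NA ⧸ A') := by
    refine isSimple_of_7920 hH S hSi (fun s hs => ?_) (mk '' Γ₀) ?_ ?_
    · obtain ⟨g, rfl⟩ := hsurj s
      refine (QuotientGroup.eq_one_iff g).mpr ?_
      refine D.mem_of_fix T g.2 fun k hk => ?_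
      obtain ⟨r, hr, hre⟩ := hs (mk (⟨k, hk⟩⁻¹ : ↥NA))
      have hr' : (⟨k, hk⟩⁻¹ * g * (⟨k, hk⟩⁻¹)⁻¹ : ↥NA) ∈ Sg := by
        have e : r⁻¹ * ((⟨k, hk⟩⁻¹ * g * (⟨k, hk⟩⁻¹)⁻¹ : ↥NA)) ∈ mk.ker := by
          rw [MonoidHom.mem_ker, map_mul, map_inv, hre, ← map_inv mk ⟨k, hk⟩⁻¹, ← map_mul, ← map_mul, inv_mul_cancel]
        have := mul_mem hr (hker e)
        rwa [mul_inv_cancel_left] at this
      rw [hSg, Subgroup.mem_subgroupOf, hmem] at hr'
      have e : k * ((k⁻¹ * g * k⁻¹⁻¹) * y * (k⁻¹ * g * k⁻¹⁻¹)⁻¹) * k⁻¹ = (g : G) * (k * y * k⁻¹) * (g : G)⁻¹ := by group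
      show (g : G) * (k * y * k⁻¹) * (g : G)⁻¹ = k * y * k⁻¹ ∨ (g : G) * (k * y * k⁻¹) * (g : G)⁻¹ = (k * y * k⁻¹)⁻¹
      rw [← e]
      rcases hr' with h | h
      · left; rw [show (k⁻¹ * (g : G) * k⁻¹⁻¹) * y * (k⁻¹ * (g : G) * k⁻¹⁻¹)⁻¹ = y from h]
      · right; rw [show (k⁻¹ * (g : G) * k⁻¹⁻¹) * y * (k⁻¹ * (g : G) * k⁻¹⁻¹)⁻¹ = y⁻¹ from h]; group
    · rintro _ ⟨g, hg, rfl⟩
      have hle : A ⊔ Subgroup.closure {x | x ∈ nk} ≤ (A' ⊔ Subgroup.closure Γ₀).map NA.subtype := by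
        refine sup_le (fun a ha => ⟨⟨a, Subgroup.le_normalizer ha⟩, Subgroup.mem_sup_left ha, rfl⟩)
          ((Subgroup.closure_le _).mpr fun x hx => ⟨⟨x, (T.ngen x hx).1⟩,
            Subgroup.mem_sup_right (Subgroup.subset_closure (Or.inl hx)), rfl⟩)
      have hin : ∀ g : ↥NA, (g : G) * y * (g : G)⁻¹ = y → g ∈ A' ⊔ Subgroup.closure Γ₀ := fun g hgy => by
        obtain ⟨g', hg', e⟩ := hle (T.gens ⟨g.2, Subgroup.mem_centralizer_singleton_iff.mpr (commute_of_conj_eq hgy).eq⟩)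
        rwa [← NA.subtype_injective e]
      have hgin : g ∈ A' ⊔ Subgroup.closure Γ₀ := by
        have hg' : (g : G) * y * (g : G)⁻¹ = y ∨ (g : G) * y * (g : G)⁻¹ = y⁻¹ := (hmem _).mp hg
        rcases hg' with h | h
        · exact hin g h
        · have h2 := hin (⟨c, hcA⟩ * g) (by
            show c * (g : G) * y * (c * (g : G))⁻¹ = y
            rw [show c * (g : G) * y * (c * (g : G))⁻¹ = c * ((g : G) * y * (g : G)⁻¹) * c⁻¹ by group, h,
              show c * y⁻¹ * c⁻¹ = (c * y * c⁻¹)⁻¹ by group, hcy, inv_inv])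
          have hc' : (⟨c, hcA⟩ : ↥NA) ∈ A' ⊔ Subgroup.closure Γ₀ :=
            Subgroup.mem_sup_right (Subgroup.subset_closure (Or.inr rfl))
          simpa using mul_mem (inv_mem hc') h2
      have := Subgroup.mem_map_of_mem mk hgin
      rwa [Subgroup.map_sup, MonoidHom.map_closure, show A'.map mk = ⊥ by
        rw [Subgroup.map_eq_bot_iff, hmk, QuotientGroup.ker_mk'], bot_sup_eq] at this
    · rintro _ ⟨g, hg, rfl⟩
      rcases hg with hg | hg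
      · refine ⟨12, by norm_num, ?_⟩
        rw [← map_pow]
        exact (QuotientGroup.eq_one_iff _).mpr (T.ngen _ hg).2.2
      · rw [Set.mem_singleton_iff] at hg
        refine ⟨8, by norm_num, ?_⟩
        rw [← map_pow, hg, show (⟨c, hcA⟩ : ↥NA) ^ 8 = 1 from Subtype.ext hc8, map_one]
  haveI := hsimple
  exact CfsgLib.M11Unique.nonempty_equiv_spor hH

end GD

end CfsgLib.SuzThree
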