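import Cfsg.Agent.Lib.SuzThree.Normal
import Cfsg.Agent.Lib.SuzThree.Quasi
import Mathlib.GroupTheory.Sylow

/-!
A Sylow 3-subgroup of the normalizer of the element of order three is one of the whole group.
-/

set_option autoImplicit false
set_option maxRecDepth 100000
set_option linter.style.haveILetI false

namespace CfsgLib.SuzThree

open CfsgLib.SuzType CfsgLib.Extraspecial
open CfsgLib.UFourType (SL23 sI sU sZ sl_z)

variable {G : Type*} [Group G] [Finite G] {z y : G} {Q : Subgroup G} {v : G → V6} {α β : SL23 →* G}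
  {A : Subgroup G} {nk : List G} {t : Fin 20 → G}

/-- the order of the normalizer of the element of order three -/
theorem YD.card_normalizer (D : YD z Q v y) {K : Type} [Field K] [Fintype K] (hK : Fintype.card K = 9) :
    Nat.card ↥(Subgroup.normalizer (Subgroup.zpowers y : Set G)) = 19595520 := by
  set B := Subgroup.zpowers y with hB
  set C := Subgroup.centralizer (B : Set G) with hC
  haveI : (B.subgroupOf C).Normal := ⟨fun n hn g => by
    have h := Subgroup.mem_centralizer_iff.mp g.2 _ (show (n : G) ∈ B from hn)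
    have e : g * n * g⁻¹ = n := Subtype.ext (by
      show (g : G) * (n : G) * (g : G)⁻¹ = (n : G)
      rw [← h, mul_inv_cancel_right])
    rw [e]; exact hn⟩
  obtain ⟨-, ⟨e⟩, hrel⟩ := conclusion D hB K hK
  obtain ⟨hcard, -⟩ := CfsgLib.UFourType.exists_gens hK
  have hBC : B ≤ C := (Subgroup.zpowers_le).mpr (Subgroup.mem_centralizer_iff.mpr fun x hx => by
    obtain ⟨m, rfl⟩ := Subgroup.mem_zpowers_iff.mp hx
    exact ((Commute.refl y).zpow_left m).eq)
  have h1 := (B.subgroupOf C).card_eq_card_quotient_mul_card_subgroup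
  rw [Nat.card_congr e.toEquiv, hcard, Nat.card_congr (Subgroup.subgroupOfEquivOfLe hBC).toEquiv, hB,
    Nat.card_zpowers, orderOf_eq_prime (hp := ⟨Nat.prime_three⟩) (by rw [pow_succ, pow_two, D.cube]) D.ne_one] at h1
  have hCN : C ≤ Subgroup.normalizer (B : Set G) := fun g hg => (mem_normalizer_zpowers D.cube D.ne_one).mpr (Or.inl (by
    rw [(Subgroup.mem_centralizer_iff.mp hg y (Subgroup.mem_zpowers y)).symm, mul_inv_cancel_right]))
  have h2 := (C.subgroupOf (Subgroup.normalizer (B : Set G))).card_mul_index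
  rw [Nat.card_congr (Subgroup.subgroupOfEquivOfLe hCN).toEquiv, h1,
    show (C.subgroupOf (Subgroup.normalizer (B : Set G))).index = 2 from hrel] at h2
  rw [← h2]

namespace GD

variable (D : GD z Q v y α β) (T : Tor z y (α sU) (β sU) A nk t)
include D T

/-- No subgroup of order `3 ^ 7` of the stabilizer centralizes three lines. -/
theorem no_three (R : Subgroup G) (hR : Nat.card R = 3 ^ 7) (hRA : R ≤ Subgroup.normalizer (A : Set G))
    (hy : ∀ r ∈ R, Commute r y) {i j : Fin 20} (hi : ∀ r ∈ R, Commute r (t i)) (hj : ∀ r ∈ R, Commute r (t j))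
    (hji : j ≠ i) (hji' : t j ≠ (t i)⁻¹) : False := by
  obtain ⟨g, hg, hgy, hgu⟩ := T.t_trans i
  obtain ⟨m, hmA, hmy, -, -⟩ := D.norm_m T
  obtain ⟨f, -, -, hfu⟩ := T.t_trans j
  have hcj : g⁻¹ * f * m * y * (g⁻¹ * f * m)⁻¹ = g⁻¹ * t j * g := by
    rw [show g⁻¹ * f * m * y * (g⁻¹ * f * m)⁻¹ = g⁻¹ * (f * (m * y * m⁻¹) * f⁻¹) * g by group, hmy, hfu]
  have hA : g⁻¹ * t j * g ∈ A := by
    have := (Subgroup.mem_normalizer_iff.mp (inv_mem hg) (t j)).mp (T.t_mem j)
    rwa [inv_inv] at this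
  rcases T.t_complete (g⁻¹ * f * m) (hcj ▸ hA) with h | h | ⟨k, hk⟩
  · rw [hcj] at h
    refine (T.t_ne j).1 ?_
    rw [show t j = g * (g⁻¹ * t j * g) * g⁻¹ by group, h, hgy.eq, mul_inv_cancel_right]
  · rw [hcj] at h
    refine (T.t_ne j).2 ?_
    rw [show t j = g * (g⁻¹ * t j * g) * g⁻¹ by group, h, hgy.inv_right.eq, mul_inv_cancel_right]
  rw [hcj] at hk
  have etj : t j = g * t k * g⁻¹ := by rw [← hk]; group
  have k0 : k ≠ 0 := by
    rintro rfl
    rw [T.t_zero, hgu] at etj
    exact hji (T.t_inj etj)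
  have k10 : k ≠ 10 := by
    rintro rfl
    have e10 : t 10 = (α sU)⁻¹ := by rw [← T.t_zero, T.t_inv]; rfl
    rw [e10, show g * (α sU)⁻¹ * g⁻¹ = (g * α sU * g⁻¹)⁻¹ by group, hgu] at etj
    exact hji' etj
  obtain ⟨h, hh, hhy, hhu, hhw⟩ := T.t_two k k0 k10
  have hle : R.map (MulAut.conj (g * h)⁻¹).toMonoidHom ≤
      Subgroup.normalizer (A : Set G) ⊓ Subgroup.centralizer ({y, α sU, β sU} : Set G) := by
    rintro _ ⟨r, hr, rfl⟩
    show MulAut.conj (g * h)⁻¹ r ∈ _
    rw [MulAut.conj_apply, inv_inv]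
    have com : ∀ s, Commute r ((g * h) * s * (g * h)⁻¹) → Commute ((g * h)⁻¹ * r * (g * h)) s := fun s hs => by
      have := hs.map (MulAut.conj (g * h)⁻¹)
      rw [MulAut.conj_apply, MulAut.conj_apply, inv_inv,
        show (g * h)⁻¹ * (g * h * s * (g * h)⁻¹) * (g * h) = s by group] at this
      exact this
    refine ⟨Subgroup.mul_mem _ (Subgroup.mul_mem _ (Subgroup.inv_mem _ (Subgroup.mul_mem _ hg hh)) (hRA hr)) (Subgroup.mul_mem _ hg hh), ?_⟩
    refine Subgroup.mem_centralizer_iff.mpr ?_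
    have c1 := com y (by rw [(hgy.mul_left hhy).eq, mul_inv_cancel_right]; exact hy r hr)
    have c2 := com (α sU) (by
      rw [show g * h * α sU * (g * h)⁻¹ = g * (h * α sU * h⁻¹) * g⁻¹ by group, hhu.eq, mul_inv_cancel_right, hgu]
      exact hi r hr)
    have c3 := com (β sU) (by
      rw [show g * h * β sU * (g * h)⁻¹ = g * (h * β sU * h⁻¹) * g⁻¹ by group]
      rcases hhw with e | e <;> rw [e]
      · rw [← etj]; exact hj r hr
      · rw [show g * (t k)⁻¹ * g⁻¹ = (g * t k * g⁻¹)⁻¹ by group, ← etj]; exact (hj r hr).inv_right)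
    intro s hs
    rcases hs with rfl | rfl | rfl
    exacts [c1.eq.symm, c2.eq.symm, c3.eq.symm]
  have h1 := Subgroup.card_le_of_le hle
  rw [T.card_three, Subgroup.card_map_of_injective (MulAut.conj (g * h)⁻¹).injective, hR] at h1
  norm_num at h1

/-- A Sylow 3-subgroup of the normalizer which is one of the group. -/
theorem exists_sylow {K : Type} [Field K] [Fintype K] (hK : Fintype.card K = 9) :
    ∃ R : Subgroup G, R ≤ Subgroup.normalizer (Subgroup.zpowers y : Set G) ∧ Nat.card R = 3 ^ 7 ∧ A ≤ R ∧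
      ¬ 3 ∣ R.index := by
  classical
  haveI : Fact (Nat.Prime 3) := ⟨Nat.prime_three⟩
  have hcardN := D.yd.card_normalizer hK
  set NA := Subgroup.normalizer (A : Set G) with hNA
  set L := NA ⊓ Subgroup.centralizer ({y} : Set G) with hL
  have hLN : L ≤ Subgroup.normalizer (Subgroup.zpowers y : Set G) := fun g hg =>
    (mem_normalizer_zpowers D.yd.cube D.yd.ne_one).mpr (Or.inl (by
      rw [Subgroup.mem_centralizer_singleton_iff.mp hg.2, mul_inv_cancel_right]))
  obtain ⟨R0, hR0⟩ := Sylow.exists_subgroup_card_pow_prime (G := ↥L) 3 (n := 7) (by rw [T.card_stab]; norm_num)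
  set R := R0.map L.subtype with hR
  have hRcard : Nat.card R = 3 ^ 7 := by rw [hR, Subgroup.card_map_of_injective L.subtype_injective, hR0]
  have hRL : R ≤ L := Subgroup.map_subtype_le R0
  have hAR : A ≤ R := by
    have hAL : A ≤ L := fun a ha => ⟨Subgroup.le_normalizer ha,
      Subgroup.mem_centralizer_singleton_iff.mpr (T.comm a ha y T.ymem)⟩
    haveI : (A.subgroupOf L).Normal := ⟨fun n hn g => by
      show (g : G) * (n : G) * (g : G)⁻¹ ∈ A
      exact (Subgroup.mem_normalizer_iff.mp g.2.1 _).mp hn⟩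
    have hp : IsPGroup 3 (A.subgroupOf L) := IsPGroup.of_card (n := 5) (by
      rw [Nat.card_congr (Subgroup.subgroupOfEquivOfLe hAL).toEquiv, T.card]; norm_num)
    have hj : IsPGroup 3 (R0 ⊔ A.subgroupOf L : Subgroup ↥L) :=
      (IsPGroup.of_card hR0).to_sup_of_normal_right hp
    obtain ⟨k, hk⟩ := IsPGroup.iff_card.mp hj
    have hk7 : k ≤ 7 := by
      have h := Subgroup.card_subgroup_dvd_card (R0 ⊔ A.subgroupOf L : Subgroup ↥L)
      rw [hk, T.card_stab] at h
      by_contra hgt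
      have := (pow_dvd_pow 3 (show 8 ≤ k by omega)).trans h
      norm_num at this
    have heq : R0 = R0 ⊔ A.subgroupOf L := Subgroup.eq_of_le_of_card_ge le_sup_left (by
      rw [hk, hR0]; exact Nat.pow_le_pow_right (by norm_num) hk7)
    intro a ha
    refine ⟨⟨a, hAL ha⟩, ?_, rfl⟩
    rw [heq]
    exact Subgroup.mem_sup_right (show (⟨a, hAL ha⟩ : ↥L) ∈ A.subgroupOf L from ha)
  refine ⟨R, hRL.trans hLN, hRcard, hAR, fun hdvd => ?_⟩
  have hdvd8 : 3 ^ 8 ∣ Nat.card G := by
    rw [← R.card_mul_index, hRcard, show (3 : ℕ) ^ 8 = 3 ^ 7 * 3 by norm_num]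
    exact Nat.mul_dvd_mul_left _ hdvd
  obtain ⟨S, hS, hRS⟩ := Sylow.exists_subgroup_card_pow_succ hdvd8 hRcard
  have hidx : (R.subgroupOf S).index = 3 := by
    have h := (R.subgroupOf S).card_mul_index
    rw [Nat.card_congr (Subgroup.subgroupOfEquivOfLe hRS).toEquiv, hRcard, hS] at h
    omega
  haveI hnorm : (R.subgroupOf S).Normal :=
    Subgroup.normal_of_index_eq_minFac_card (by
      rw [hidx, hS, Nat.pow_minFac (by norm_num), Nat.Prime.minFac_eq Nat.prime_three])
  have conjR : ∀ r ∈ S, ∀ a ∈ R, r * a * r⁻¹ ∈ R := fun r hr a ha =>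
    hnorm.conj_mem ⟨a, hRS ha⟩ ha ⟨r, hr⟩
  have outN : ∀ r ∈ S, r ∉ R → r ∉ Subgroup.normalizer (Subgroup.zpowers y : Set G) := by
    intro r hr hnr hrN
    have h1 : S ⊓ Subgroup.normalizer (Subgroup.zpowers y : Set G) = S := by
      by_contra hne
      have hle : R ≤ S ⊓ Subgroup.normalizer (Subgroup.zpowers y : Set G) := le_inf hRS (hRL.trans hLN)
      have hd := Subgroup.card_dvd_of_le (inf_le_left : S ⊓ Subgroup.normalizer (Subgroup.zpowers y : Set G) ≤ S)
      rw [hS] at hd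
      obtain ⟨k, hk, e⟩ := (Nat.dvd_prime_pow Nat.prime_three).mp hd
      have h7 := Subgroup.card_le_of_le hle
      rw [hRcard, e] at h7
      have hk7 : 7 ≤ k := (Nat.pow_le_pow_iff_right (by norm_num)).mp h7
      rcases (by omega : k = 7 ∨ k = 8) with rfl | rfl
      · exact hnr ((Subgroup.eq_of_le_of_card_ge hle (by rw [e, hRcard])).symm ▸ ⟨hr, hrN⟩ : r ∈ R)
      · exact hne (Subgroup.eq_of_le_of_card_ge inf_le_left (by rw [e, hS]))
    have := Subgroup.card_dvd_of_le (show S ≤ Subgroup.normalizer (Subgroup.zpowers y : Set G) from h1 ▸ inf_le_right)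
    rw [hS, hcardN] at this
    norm_num at this
  obtain ⟨r, hr, hnr⟩ : ∃ r ∈ S, r ∉ R := by
    by_contra hall
    push Not at hall
    have := Subgroup.card_le_of_le (show S ≤ R from hall)
    rw [hS, hRcard] at this
    norm_num at this
  have hr3 : r * r * r ∈ R := by
    have h := (R.subgroupOf S).pow_index_mem (⟨r, hr⟩ : ↥S)
    rw [hidx] at h
    have h' : r ^ 3 ∈ R := h
    rwa [pow_succ, pow_two] at h'
  have hnr2 : r * r ∉ R := fun h => hnr (by
    have := mul_mem (inv_mem h) hr3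
    rwa [inv_mul_cancel_left] at this)
  have cenR : ∀ a ∈ R, Commute a y := fun a ha => Subgroup.mem_centralizer_singleton_iff.mp (hRL ha).2
  have key : ∀ s ∈ S, ∀ a ∈ R, Commute a (s * y * s⁻¹) := by
    intro s hs a ha
    have h1 := conjR s⁻¹ (inv_mem hs) a ha
    rw [inv_inv] at h1
    have h2 := (cenR _ h1).map (MulAut.conj s)
    rwa [MulAut.conj_apply, MulAut.conj_apply, show s * (s⁻¹ * a * s) * s⁻¹ = a by group] at h2
  have tmem : ∀ s ∈ S, s ∉ R → ∃ i, s * y * s⁻¹ = t i := by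
    intro s hs hns
    have hA : s * y * s⁻¹ ∈ A := T.cent _ fun a ha => (key s hs a (hAR ha)).symm
    rcases T.t_complete s hA with h | h | h
    · exact absurd ((mem_normalizer_zpowers D.yd.cube D.yd.ne_one).mpr (Or.inl h)) (outN s hs hns)
    · exact absurd ((mem_normalizer_zpowers D.yd.cube D.yd.ne_one).mpr (Or.inr h)) (outN s hs hns)
    · exact h
  obtain ⟨i, hi⟩ := tmem r hr hnr
  obtain ⟨j, hj⟩ := tmem (r * r) (mul_mem hr hr) hnr2
  have e2 : r * r * y * (r * r)⁻¹ = r * t i * r⁻¹ := by rw [← hi]; group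
  refine D.no_three T R hRcard (fun a ha => (hRL ha).1) cenR (i := i) (j := j)
    (fun a ha => hi ▸ key r hr a ha) (fun a ha => hj ▸ key (r * r) (mul_mem hr hr) a ha) (fun e => ?_) fun e => ?_
  · refine outN r hr hnr ((mem_normalizer_zpowers D.yd.cube D.yd.ne_one).mpr (Or.inl ?_))
    have h : r * (r * y * r⁻¹) * r⁻¹ = r * y * r⁻¹ := by
      rw [hi, ← e2, hj, e]
    exact mul_left_cancel (mul_right_cancel h)
  · refine outN r hr hnr ((mem_normalizer_zpowers D.yd.cube D.yd.ne_one).mpr (Or.inr ?_))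
    have h : r * (r * y * r⁻¹) * r⁻¹ = r * y⁻¹ * r⁻¹ := by
      rw [hi, ← e2, hj, e, ← hi]; group
    exact mul_left_cancel (mul_right_cancel h)

end GD

end CfsgLib.SuzThree
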